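/-
S5211: a Sylow `p`-subgroup of `G₂(q)` in coordinates (FUS/D3/U with `σ = id`).
The element with coordinates `u s v r w t` is `y1 u * y2 s * y3 v * y4 r * y5 w * y6 t`.
`gus` expands products, inverses, commutators, `cj`; finish with `ring`, `linear_combination`, `grind`.
-/
import Cfsg.Agent.FUS.Basic

set_option autoImplicit false
set_option linter.unusedSimpArgs false
set_option linter.unusedSectionVars false

namespace CL.G2F

open CL.Fus
open scoped commutatorElement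

variable {K : Type*} [Field K]

/-- the unipotent group -/
@[ext] structure U (K : Type*) [Field K] where
  u : K
  s : K
  v : K
  r : K
  w : K
  t : K

namespace U

instance : One (U K) := ⟨⟨0, 0, 0, 0, 0, 0⟩⟩

instance : Mul (U K) := ⟨fun g h =>
  { u := g.u + h.u
    s := g.s + h.s + h.u * g.t
    v := g.v + h.v + h.u ^ 2 * g.t ^ 3 + 3 * g.t * h.s ^ 2 + 3 * h.u * h.s * g.t ^ 2 - h.u * g.w + 3 * (h.s + h.u * g.t) * g.r
    r := g.r + h.r + 2 * h.s * g.t + h.u * g.t ^ 2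
    w := g.w + h.w + 3 * h.r * g.t + 3 * h.s * g.t ^ 2 + h.u * g.t ^ 3
    t := g.t + h.t }⟩

instance : Inv (U K) := ⟨fun g =>
  { u := -g.u
    s := -g.s + g.u * g.t
    v := -g.v - g.u ^ 2 * g.t ^ 3 - 3 * g.t * g.s ^ 2 + 3 * g.u * g.s * g.t ^ 2 - g.u * g.w + 3 * g.s * g.r
    r := -g.r + 2 * g.s * g.t - g.u * g.t ^ 2
    w := -g.w + 3 * g.r * g.t - 3 * g.s * g.t ^ 2 + g.u * g.t ^ 3
    t := -g.t }⟩

@[simp] theorem one_u : (1 : U K).u = 0 := rfl
@[simp] theorem one_s : (1 : U K).s = 0 := rfl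
@[simp] theorem one_v : (1 : U K).v = 0 := rfl
@[simp] theorem one_r : (1 : U K).r = 0 := rfl
@[simp] theorem one_w : (1 : U K).w = 0 := rfl
@[simp] theorem one_t : (1 : U K).t = 0 := rfl

variable (g h : U K)

theorem mul_u : (g * h).u = g.u + h.u := rfl
theorem mul_s : (g * h).s = g.s + h.s + h.u * g.t := rfl
theorem mul_v : (g * h).v = g.v + h.v + h.u ^ 2 * g.t ^ 3 + 3 * g.t * h.s ^ 2 + 3 * h.u * h.s * g.t ^ 2 - h.u * g.w +
    3 * (h.s + h.u * g.t) * g.r := rfl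
theorem mul_r : (g * h).r = g.r + h.r + 2 * h.s * g.t + h.u * g.t ^ 2 := rfl
theorem mul_w : (g * h).w = g.w + h.w + 3 * h.r * g.t + 3 * h.s * g.t ^ 2 + h.u * g.t ^ 3 := rfl
theorem mul_t : (g * h).t = g.t + h.t := rfl

theorem inv_u : g⁻¹.u = -g.u := rfl
theorem inv_s : g⁻¹.s = -g.s + g.u * g.t := rfl
theorem inv_v : g⁻¹.v = -g.v - g.u ^ 2 * g.t ^ 3 - 3 * g.t * g.s ^ 2 + 3 * g.u * g.s * g.t ^ 2 - g.u * g.w + 3 * g.s * g.r := rfl
theorem inv_r : g⁻¹.r = -g.r + 2 * g.s * g.t - g.u * g.t ^ 2 := rfl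
theorem inv_w : g⁻¹.w = -g.w + 3 * g.r * g.t - 3 * g.s * g.t ^ 2 + g.u * g.t ^ 3 := rfl
theorem inv_t : g⁻¹.t = -g.t := rfl

instance : Group (U K) := Group.ofLeftAxioms
  (fun g h k => by ext <;> simp only [mul_u, mul_s, mul_v, mul_r, mul_w, mul_t] <;> ring)
  (fun g => by ext <;> simp [mul_u, mul_s, mul_v, mul_r, mul_w, mul_t])
  fun g => by
    ext <;> simp only [mul_u, mul_s, mul_v, mul_r, mul_w, mul_t, inv_u, inv_s, inv_v, inv_r, inv_w, inv_t, one_u, one_s, one_v,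
      one_r, one_w, one_t] <;> ring

end U

/-- root element -/
@[simps] def y1 (u : K) : U K := ⟨u, 0, 0, 0, 0, 0⟩
/-- root element -/
@[simps] def y2 (s : K) : U K := ⟨0, s, 0, 0, 0, 0⟩
/-- root element -/
@[simps] def y3 (v : K) : U K := ⟨0, 0, v, 0, 0, 0⟩
/-- root element -/
@[simps] def y4 (r : K) : U K := ⟨0, 0, 0, r, 0, 0⟩
/-- root element -/
@[simps] def y5 (w : K) : U K := ⟨0, 0, 0, 0, w, 0⟩
/-- root element -/
@[simps] def y6 (t : K) : U K := ⟨0, 0, 0, 0, 0, t⟩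

/-- coordinates of products -/
scoped macro "gcs" loc:(Lean.Parser.Tactic.location)? : tactic => `(tactic|
  simp only [commutatorElement_def, cj, U.ext_iff, U.mul_u, U.mul_s, U.mul_v, U.mul_r, U.mul_w, U.mul_t, U.inv_u, U.inv_s, U.inv_v, U.inv_r,
    U.inv_w, U.inv_t, U.one_u, U.one_s, U.one_v, U.one_r, U.one_w, U.one_t, y1_u, y1_s, y1_v, y1_r, y1_w, y1_t, y2_u, y2_s, y2_v, y2_r,
    y2_w, y2_t, y3_u, y3_s, y3_v, y3_r, y3_w, y3_t, y4_u, y4_s, y4_v, y4_r, y4_w, y4_t, y5_u, y5_s, y5_v, y5_r, y5_w, y5_t, y6_u, y6_s,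
    y6_v, y6_r, y6_w, y6_t] $[$loc]?)

/-- `gcs`, clean zeros -/
scoped macro "gus" loc:(Lean.Parser.Tactic.location)? : tactic => `(tactic| (
  (try gcs $[$loc]?)
  (try simp only [add_zero, zero_add, mul_zero, zero_mul, neg_zero, sub_zero, zero_sub, mul_one, one_mul, ne_eq, OfNat.ofNat_ne_zero,
    not_false_eq_true, zero_pow, one_pow, sub_self, add_neg_cancel, neg_add_cancel, neg_neg, and_self, and_true, true_and] $[$loc]?)))

theorem eq_prod (g : U K) : g = y1 g.u * y2 g.s * y3 g.v * y4 g.r * y5 g.w * y6 g.t := by gus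

instance [Finite K] : Finite (U K) :=
  Finite.of_injective (fun g : U K => (g.u, g.s, g.v, g.r, g.w, g.t)) fun g h e => by
    simp only [Prod.mk.injEq] at e; ext <;> tauto

/-! coordinates of commutators `⁅g, h⁆ = g h g⁻¹ h⁻¹` -/

theorem br_u (g h : U K) : ⁅g, h⁆.u = 0 := by gus; ring
theorem br_t (g h : U K) : ⁅g, h⁆.t = 0 := by gus; ring
theorem br_s (g h : U K) : ⁅g, h⁆.s = h.u * g.t - g.u * h.t := by gus; ring
theorem br_r (g h : U K) : ⁅g, h⁆.r = 2 * h.s * g.t - 2 * g.s * h.t + h.u * g.t ^ 2 - g.u * h.t ^ 2 := by gus; ring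
theorem br_w (g h : U K) : ⁅g, h⁆.w = 3 * h.r * g.t - 3 * g.r * h.t + 3 * h.s * g.t ^ 2 - 3 * g.s * h.t ^ 2 +
    h.u * g.t ^ 3 - g.u * h.t ^ 3 := by gus; ring
theorem br_v (g h : U K) : ⁅g, h⁆.v = (g * h).v - (h * g).v + (g.u + h.u) * ⁅g, h⁆.w - 3 * (h * g).s * ⁅g, h⁆.r := by
  gus; ring

end CL.G2F
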