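/-
S5211: coordinate subgroups of `U K`. For a normal coordinate subgroup `B`: `div_mem_B` (`g h⁻¹ ∈ B` iff the other coordinates agree),
`comm_mem_B`. `gms` unfolds memberships.
-/
import Cfsg.Agent.FUS.G2.U

set_option autoImplicit false
set_option linter.unusedSimpArgs false
set_option linter.unusedSectionVars false
set_option linter.unusedTactic false
set_option linter.unreachableTactic false
set_option linter.unnecessarySeqFocus false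

namespace CL.G2F

open CL.Fus
open scoped commutatorElement

variable {K : Type*} [Field K] {g h : U K}

/-- `Z = Y₃ = Z(S)` -/
def sZ : Subgroup (U K) where
  carrier := {g | g.u = 0 ∧ g.s = 0 ∧ g.r = 0 ∧ g.w = 0 ∧ g.t = 0}
  mul_mem' {a b} ha hb := by simp only [Set.mem_ofPred_eq] at *; gus; simp [*]
  one_mem' := ⟨rfl, rfl, rfl, rfl, rfl⟩
  inv_mem' {a} ha := by simp only [Set.mem_ofPred_eq] at *; gus; simp [*]

theorem mem_sZ : g ∈ sZ ↔ g.u = 0 ∧ g.s = 0 ∧ g.r = 0 ∧ g.w = 0 ∧ g.t = 0 := Iff.rfl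

theorem div_mem_sZ : g * h⁻¹ ∈ sZ ↔ g.u = h.u ∧ g.s = h.s ∧ g.r = h.r ∧ g.w = h.w ∧ g.t = h.t := by
  refine ⟨fun e => ?_, fun ⟨e0, e1, e2, e3, e4⟩ => ?_⟩
  · obtain ⟨b, rfl⟩ : ∃ b, g = b * h := ⟨g * h⁻¹, by simp⟩
    rw [mul_inv_cancel_right] at e
    obtain ⟨e0, e1, e2, e3, e4⟩ := mem_sZ.1 e
    gus; simp [*]
  · rw [mem_sZ]; gcs; simp only [e0, e1, e2, e3, e4]; gus; and_intros <;> ring

theorem comm_mem_sZ : ⁅g, h⁆ ∈ sZ ↔ (g * h).u = (h * g).u ∧ (g * h).s = (h * g).s ∧ (g * h).r = (h * g).r ∧ (g * h).w = (h * g).w ∧ (g * h).t = (h * g).t := by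
  rw [← div_mem_sZ, commutatorElement_def, mul_inv_rev, mul_assoc]

instance : (sZ (K := K)).Normal := ⟨fun h e g => by
  obtain ⟨e0, e1, e2, e3, e4⟩ := mem_sZ.1 e
  have k : ⁅g, h⁆ ∈ sZ := by rw [comm_mem_sZ]; gcs; simp only [e0, e1, e2, e3, e4]; gus
  simpa [commutatorElement_def] using mul_mem k e⟩

/-- `V = Y₃ Y₅ = Z(Q')` -/
def sV : Subgroup (U K) where
  carrier := {g | g.u = 0 ∧ g.s = 0 ∧ g.r = 0 ∧ g.t = 0}
  mul_mem' {a b} ha hb := by simp only [Set.mem_ofPred_eq] at *; gus; simp [*]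
  one_mem' := ⟨rfl, rfl, rfl, rfl⟩
  inv_mem' {a} ha := by simp only [Set.mem_ofPred_eq] at *; gus; simp [*]

theorem mem_sV : g ∈ sV ↔ g.u = 0 ∧ g.s = 0 ∧ g.r = 0 ∧ g.t = 0 := Iff.rfl

theorem div_mem_sV : g * h⁻¹ ∈ sV ↔ g.u = h.u ∧ g.s = h.s ∧ g.r = h.r ∧ g.t = h.t := by
  refine ⟨fun e => ?_, fun ⟨e0, e1, e2, e3⟩ => ?_⟩
  · obtain ⟨b, rfl⟩ : ∃ b, g = b * h := ⟨g * h⁻¹, by simp⟩
    rw [mul_inv_cancel_right] at e
    obtain ⟨e0, e1, e2, e3⟩ := mem_sV.1 e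
    gus; simp [*]
  · rw [mem_sV]; gcs; simp only [e0, e1, e2, e3]; gus; and_intros <;> ring

theorem comm_mem_sV : ⁅g, h⁆ ∈ sV ↔ (g * h).u = (h * g).u ∧ (g * h).s = (h * g).s ∧ (g * h).r = (h * g).r ∧ (g * h).t = (h * g).t := by
  rw [← div_mem_sV, commutatorElement_def, mul_inv_rev, mul_assoc]

instance : (sV (K := K)).Normal := ⟨fun h e g => by
  obtain ⟨e0, e1, e2, e3⟩ := mem_sV.1 e
  have k : ⁅g, h⁆ ∈ sV := by rw [comm_mem_sV]; gcs; simp only [e0, e1, e2, e3]; gus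
  simpa [commutatorElement_def] using mul_mem k e⟩

/-- `A₀ = Y₃ Y₄ Y₅` -/
def sA : Subgroup (U K) where
  carrier := {g | g.u = 0 ∧ g.s = 0 ∧ g.t = 0}
  mul_mem' {a b} ha hb := by simp only [Set.mem_ofPred_eq] at *; gus; simp [*]
  one_mem' := ⟨rfl, rfl, rfl⟩
  inv_mem' {a} ha := by simp only [Set.mem_ofPred_eq] at *; gus; simp [*]

theorem mem_sA : g ∈ sA ↔ g.u = 0 ∧ g.s = 0 ∧ g.t = 0 := Iff.rfl

theorem div_mem_sA : g * h⁻¹ ∈ sA ↔ g.u = h.u ∧ g.s = h.s ∧ g.t = h.t := by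
  refine ⟨fun e => ?_, fun ⟨e0, e1, e2⟩ => ?_⟩
  · obtain ⟨b, rfl⟩ : ∃ b, g = b * h := ⟨g * h⁻¹, by simp⟩
    rw [mul_inv_cancel_right] at e
    obtain ⟨e0, e1, e2⟩ := mem_sA.1 e
    gus; simp [*]
  · rw [mem_sA]; gcs; simp only [e0, e1, e2]; gus; and_intros <;> ring

theorem comm_mem_sA : ⁅g, h⁆ ∈ sA ↔ (g * h).u = (h * g).u ∧ (g * h).s = (h * g).s ∧ (g * h).t = (h * g).t := by
  rw [← div_mem_sA, commutatorElement_def, mul_inv_rev, mul_assoc]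

instance : (sA (K := K)).Normal := ⟨fun h e g => by
  obtain ⟨e0, e1, e2⟩ := mem_sA.1 e
  have k : ⁅g, h⁆ ∈ sA := by rw [comm_mem_sA]; gcs; simp only [e0, e1, e2]; gus
  simpa [commutatorElement_def] using mul_mem k e⟩

/-- `R₀ = Y₂ A₀ = Q ⊓ Q'` -/
def sR : Subgroup (U K) where
  carrier := {g | g.u = 0 ∧ g.t = 0}
  mul_mem' {a b} ha hb := by simp only [Set.mem_ofPred_eq] at *; gus; simp [*]
  one_mem' := ⟨rfl, rfl⟩
  inv_mem' {a} ha := by simp only [Set.mem_ofPred_eq] at *; gus; simp [*]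

theorem mem_sR : g ∈ sR ↔ g.u = 0 ∧ g.t = 0 := Iff.rfl

theorem div_mem_sR : g * h⁻¹ ∈ sR ↔ g.u = h.u ∧ g.t = h.t := by
  refine ⟨fun e => ?_, fun ⟨e0, e1⟩ => ?_⟩
  · obtain ⟨b, rfl⟩ : ∃ b, g = b * h := ⟨g * h⁻¹, by simp⟩
    rw [mul_inv_cancel_right] at e
    obtain ⟨e0, e1⟩ := mem_sR.1 e
    gus; simp [*]
  · rw [mem_sR]; gcs; simp only [e0, e1]; gus

theorem comm_mem_sR : ⁅g, h⁆ ∈ sR ↔ (g * h).u = (h * g).u ∧ (g * h).t = (h * g).t := by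
  rw [← div_mem_sR, commutatorElement_def, mul_inv_rev, mul_assoc]

instance : (sR (K := K)).Normal := ⟨fun h e g => by
  obtain ⟨e0, e1⟩ := mem_sR.1 e
  have k : ⁅g, h⁆ ∈ sR := by rw [comm_mem_sR]; gcs; simp only [e0, e1]; gus
  simpa [commutatorElement_def] using mul_mem k e⟩

/-- `Q = Y₁ ⋯ Y₅` -/
def Q : Subgroup (U K) where
  carrier := {g | g.t = 0}
  mul_mem' {a b} ha hb := by simp only [Set.mem_ofPred_eq] at *; gus; simp [*]
  one_mem' := rfl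
  inv_mem' {a} ha := by simp only [Set.mem_ofPred_eq] at *; gus; simp [*]

theorem mem_Q : g ∈ Q ↔ g.t = 0 := Iff.rfl

theorem div_mem_Q : g * h⁻¹ ∈ Q ↔ g.t = h.t := by
  refine ⟨fun e => ?_, fun e0 => ?_⟩
  · obtain ⟨b, rfl⟩ : ∃ b, g = b * h := ⟨g * h⁻¹, by simp⟩
    rw [mul_inv_cancel_right] at e
    obtain e0 := mem_Q.1 e
    gus; simp [*]
  · rw [mem_Q]; gcs; simp only [e0]; gus

theorem comm_mem_Q : ⁅g, h⁆ ∈ Q ↔ (g * h).t = (h * g).t := by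
  rw [← div_mem_Q, commutatorElement_def, mul_inv_rev, mul_assoc]

instance : (Q (K := K)).Normal := ⟨fun h e g => by
  obtain e0 := mem_Q.1 e
  have k : ⁅g, h⁆ ∈ Q := by rw [comm_mem_Q]; gcs; simp only [e0]; gus
  simpa [commutatorElement_def] using mul_mem k e⟩

/-- `Q' = Y₂ ⋯ Y₆ = C(V)` -/
def Q' : Subgroup (U K) where
  carrier := {g | g.u = 0}
  mul_mem' {a b} ha hb := by simp only [Set.mem_ofPred_eq] at *; gus; simp [*]
  one_mem' := rfl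
  inv_mem' {a} ha := by simp only [Set.mem_ofPred_eq] at *; gus; simp [*]

theorem mem_Q' : g ∈ Q' ↔ g.u = 0 := Iff.rfl

theorem div_mem_Q' : g * h⁻¹ ∈ Q' ↔ g.u = h.u := by
  refine ⟨fun e => ?_, fun e0 => ?_⟩
  · obtain ⟨b, rfl⟩ : ∃ b, g = b * h := ⟨g * h⁻¹, by simp⟩
    rw [mul_inv_cancel_right] at e
    obtain e0 := mem_Q'.1 e
    gus; simp [*]
  · rw [mem_Q']; gcs; simp only [e0]; gus

theorem comm_mem_Q' : ⁅g, h⁆ ∈ Q' ↔ (g * h).u = (h * g).u := by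
  rw [← div_mem_Q', commutatorElement_def, mul_inv_rev, mul_assoc]

instance : (Q' (K := K)).Normal := ⟨fun h e g => by
  obtain e0 := mem_Q'.1 e
  have k : ⁅g, h⁆ ∈ Q' := by rw [comm_mem_Q']; gcs; simp only [e0]; gus
  simpa [commutatorElement_def] using mul_mem k e⟩

/-- `Y₅` -/
def sY5 : Subgroup (U K) where
  carrier := {g | g.u = 0 ∧ g.s = 0 ∧ g.v = 0 ∧ g.r = 0 ∧ g.t = 0}
  mul_mem' {a b} ha hb := by simp only [Set.mem_ofPred_eq] at *; gus; simp [*]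
  one_mem' := ⟨rfl, rfl, rfl, rfl, rfl⟩
  inv_mem' {a} ha := by simp only [Set.mem_ofPred_eq] at *; gus; simp [*]

theorem mem_sY5 : g ∈ sY5 ↔ g.u = 0 ∧ g.s = 0 ∧ g.v = 0 ∧ g.r = 0 ∧ g.t = 0 := Iff.rfl

/-- `R_∞ = A₀ Y₆` -/
def sRi : Subgroup (U K) where
  carrier := {g | g.u = 0 ∧ g.s = 0}
  mul_mem' {a b} ha hb := by simp only [Set.mem_ofPred_eq] at *; gus; simp [*]
  one_mem' := ⟨rfl, rfl⟩
  inv_mem' {a} ha := by simp only [Set.mem_ofPred_eq] at *; gus; simp [*]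

theorem mem_sRi : g ∈ sRi ↔ g.u = 0 ∧ g.s = 0 := Iff.rfl

/-- `Y₁ Y₃` -/
def sV1 : Subgroup (U K) where
  carrier := {g | g.s = 0 ∧ g.r = 0 ∧ g.w = 0 ∧ g.t = 0}
  mul_mem' {a b} ha hb := by simp only [Set.mem_ofPred_eq] at *; gus; simp [*]
  one_mem' := ⟨rfl, rfl, rfl, rfl⟩
  inv_mem' {a} ha := by simp only [Set.mem_ofPred_eq] at *; gus; simp [*]

theorem mem_sV1 : g ∈ sV1 ↔ g.s = 0 ∧ g.r = 0 ∧ g.w = 0 ∧ g.t = 0 := Iff.rfl

/-- `Y₁ Y₂ Y₃` -/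
def sA1 : Subgroup (U K) where
  carrier := {g | g.r = 0 ∧ g.w = 0 ∧ g.t = 0}
  mul_mem' {a b} ha hb := by simp only [Set.mem_ofPred_eq] at *; gus; simp [*]
  one_mem' := ⟨rfl, rfl, rfl⟩
  inv_mem' {a} ha := by simp only [Set.mem_ofPred_eq] at *; gus; simp [*]

theorem mem_sA1 : g ∈ sA1 ↔ g.r = 0 ∧ g.w = 0 ∧ g.t = 0 := Iff.rfl

/-- `Y₁ Y₂ Y₃ Y₄` -/
def sR1 : Subgroup (U K) where
  carrier := {g | g.w = 0 ∧ g.t = 0}
  mul_mem' {a b} ha hb := by simp only [Set.mem_ofPred_eq] at *; gus; simp [*]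
  one_mem' := ⟨rfl, rfl⟩
  inv_mem' {a} ha := by simp only [Set.mem_ofPred_eq] at *; gus; simp [*]

theorem mem_sR1 : g ∈ sR1 ↔ g.w = 0 ∧ g.t = 0 := Iff.rfl

/-- unfold memberships -/
scoped macro "gms" loc:(Lean.Parser.Tactic.location)? : tactic => `(tactic| simp only [SetLike.mem_coe, Set.mem_ofPred_eq,
  comm_mem_sZ, comm_mem_sV, comm_mem_sA, comm_mem_sR, comm_mem_Q, comm_mem_Q', mem_sZ, mem_sV, mem_sA, mem_sR, mem_Q, mem_Q', mem_sY5, mem_sRi, mem_sV1, mem_sA1, mem_sR1] $[$loc]?)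

/-- the commutator form on `Q / Z` -/
def bf (g h : U K) : K := g.u * h.w - h.u * g.w + 3 * (h.s * g.r) - 3 * (g.s * h.r)

/-- the quadratic form on `Q / Z` (squares for `p = 2`) -/
def qf (g : U K) : K := g.u * g.w + 3 * (g.s * g.r)

theorem br_Q (hg : g ∈ Q) (hh : h ∈ Q) : ⁅g, h⁆ = y3 (bf g h) := by
  rw [mem_Q] at hg hh; simp only [bf]; gcs; simp only [hg, hh]; gus; and_intros <;> ring

theorem comm_Q (hg : g ∈ Q) (hh : h ∈ Q) : g * h = h * g ↔ bf g h = 0 := by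
  rw [← commutatorElement_eq_one_iff_mul_comm, br_Q hg hh]; gcs; simp

/-- commutators of `Q'` with `A₀` -/
theorem br_Q'A (hg : g ∈ Q') (hh : h ∈ sA) :
    ⁅g, h⁆ = ⟨0, 0, -(3 * (g.s * h.r)), 0, 3 * (g.t * h.r), 0⟩ := by
  gms at hg hh; gcs; simp only [hg, hh]; gus; and_intros <;> ring

/-- commutators with `V` -/
theorem br_V (g : U K) (hh : h ∈ sV) : ⁅g, h⁆ = y3 (g.u * h.w) := by
  gms at hh; gcs; simp only [hh]; gus; and_intros <;> ring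

theorem comm_Z (g : U K) (hh : h ∈ sZ) : g * h = h * g := by
  gms at hh; gcs; simp only [hh]; gus; and_intros <;> ring

theorem comm_V (hg : g ∈ Q') (hh : h ∈ sV) : g * h = h * g := by
  gms at hg hh; gcs; simp only [hg, hh]; gus; and_intros <;> ring

theorem comm_A (hg : g ∈ sA) (hh : h ∈ sA) : g * h = h * g := by
  gms at hg hh; gcs; simp only [hg, hh]; gus; and_intros <;> ring

theorem sZ_le_sV : sZ ≤ sV (K := K) := fun _ h => ⟨h.1, h.2.1, h.2.2.1, h.2.2.2.2⟩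
theorem sV_le_sA : sV ≤ sA (K := K) := fun _ h => ⟨h.1, h.2.1, h.2.2.2⟩
theorem sA_le_sR : sA ≤ sR (K := K) := fun _ h => ⟨h.1, h.2.2⟩
theorem sR_le_Q : sR ≤ Q (K := K) := fun _ h => h.2
theorem sR_le_Q' : sR ≤ Q' (K := K) := fun _ h => h.1
theorem sA_le_sRi : sA ≤ sRi (K := K) := fun _ h => ⟨h.1, h.2.1⟩
theorem sRi_le_Q' : sRi ≤ Q' (K := K) := fun _ h => h.1

/-! conjugation by `y6 t` on `Q / Z`, by `y1 u` -/

theorem cj6_u (t : K) (g : U K) : (cj (y6 t) g).u = g.u := by gus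
theorem cj6_s (t : K) (g : U K) : (cj (y6 t) g).s = g.s + g.u * t := by gus
theorem cj6_t (t : K) (g : U K) : (cj (y6 t) g).t = g.t := by gus; ring
theorem cj6_r (t : K) (hg : g ∈ Q) : (cj (y6 t) g).r = g.r + 2 * g.s * t + g.u * t ^ 2 := by
  rw [mem_Q] at hg; gcs; simp only [hg]; gus
theorem cj6_w (t : K) (hg : g ∈ Q) : (cj (y6 t) g).w = g.w + 3 * g.r * t + 3 * g.s * t ^ 2 + g.u * t ^ 3 := by
  rw [mem_Q] at hg; gcs; simp only [hg]; gus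
theorem cj1_u (c : K) (g : U K) : (cj (y1 c) g).u = g.u := by gus; ring
theorem cj1_s (c : K) (g : U K) : (cj (y1 c) g).s = g.s - c * g.t := by gus; ring
theorem cj1_t (c : K) (g : U K) : (cj (y1 c) g).t = g.t := by gus

end CL.G2F
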