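/-
S5211: diagonal and field automorphisms `dd a d ρ` of `U K`, the Weyl automorphisms `wa` of `Q` and `wb` of `Q'`, standard position, the data `RD`.
-/
import Cfsg.Agent.FUS.G2.Sub
import Cfsg.Agent.FUS.Iso
import Cfsg.Agent.CLAS.FieldAut

set_option autoImplicit false
set_option linter.unusedSimpArgs false
set_option linter.unusedSectionVars false
set_option linter.unusedTactic false
set_option linter.unreachableTactic false
set_option linter.unnecessarySeqFocus false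

namespace CL.G2F

open CL.Fus Subgroup Cfsg
open scoped commutatorElement

variable {K : Type*} [Field K]

/-- admissible torus parameters -/
structure Ok (a d : K) : Prop where
  a0 : a ≠ 0
  d0 : d ≠ 0

theorem ok_one : Ok (1 : K) 1 := ⟨one_ne_zero, one_ne_zero⟩

theorem Ok.mul {a d a' d' : K} (h : Ok a d) (h' : Ok a' d') (ρ : RingAut K) : Ok (a * ρ a') (d * ρ d') :=
  ⟨by simp [h.a0, h'.a0], by simp [h.d0, h'.d0]⟩

theorem Ok.inv {a d : K} (h : Ok a d) (ρ : RingAut K) : Ok (ρ a⁻¹) (ρ d⁻¹) := ⟨by simp [h.a0], by simp [h.d0]⟩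

/-- the underlying function -/
@[simps] def ddf (a d : K) (ρ : RingAut K) (g : U K) : U K :=
  ⟨a * ρ g.u, a * d * ρ g.s, a ^ 2 * d ^ 3 * ρ g.v, a * d ^ 2 * ρ g.r, a * d ^ 3 * ρ g.w, d * ρ g.t⟩

theorem ddf_mul (a d : K) (ρ : RingAut K) (g h : U K) : ddf a d ρ (g * h) = ddf a d ρ g * ddf a d ρ h := by
  gcs; simp only [ddf_u, ddf_s, ddf_v, ddf_r, ddf_w, ddf_t]; gcs
  simp only [map_add, map_mul, map_sub, map_pow, map_ofNat]; and_intros <;> ring

theorem ddf_ddf (a d a' d' : K) (ρ ρ' : RingAut K) (g : U K) :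
    ddf a d ρ (ddf a' d' ρ' g) = ddf (a * ρ a') (d * ρ d') (ρ * ρ') g := by
  gcs; simp only [ddf_u, ddf_s, ddf_v, ddf_r, ddf_w, ddf_t, RingAut.mul_apply, map_mul, map_pow]; and_intros <;> ring

theorem ddf_one (g : U K) : ddf 1 1 1 g = g := by ext <;> simp

/-- diagonal times field automorphisms -/
def dd (a d : K) (ρ : RingAut K) (h : Ok a d) : MulAut (U K) where
  toFun := ddf a d ρ
  invFun := ddf (ρ⁻¹ a⁻¹) (ρ⁻¹ d⁻¹) ρ⁻¹
  left_inv g := by
    rw [ddf_ddf]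
    simp only [← map_mul, inv_mul_cancel₀ h.a0, inv_mul_cancel₀ h.d0, map_one, inv_mul_cancel, ddf_one]
  right_inv g := by
    have e : ∀ x, ρ (ρ⁻¹ x) = x := ρ.apply_symm_apply
    rw [ddf_ddf]
    simp only [e, mul_inv_cancel₀ h.a0, mul_inv_cancel₀ h.d0, mul_inv_cancel, ddf_one]
  map_mul' := ddf_mul a d ρ

section
variable {a d a' d' : K} {ρ ρ' : RingAut K} (h : Ok a d) (g : U K)

@[simp] theorem dd_u : (dd a d ρ h g).u = a * ρ g.u := rfl
@[simp] theorem dd_s : (dd a d ρ h g).s = a * d * ρ g.s := rfl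
@[simp] theorem dd_v : (dd a d ρ h g).v = a ^ 2 * d ^ 3 * ρ g.v := rfl
@[simp] theorem dd_r : (dd a d ρ h g).r = a * d ^ 2 * ρ g.r := rfl
@[simp] theorem dd_w : (dd a d ρ h g).w = a * d ^ 3 * ρ g.w := rfl
@[simp] theorem dd_t : (dd a d ρ h g).t = d * ρ g.t := rfl

theorem dd_mul (h' : Ok a' d') : dd a d ρ h * dd a' d' ρ' h' = dd (a * ρ a') (d * ρ d') (ρ * ρ') (h.mul h' ρ) :=
  MulEquiv.ext fun g => ddf_ddf _ _ _ _ _ _ g

theorem dd_inv : (dd a d ρ h)⁻¹ = dd (ρ⁻¹ a⁻¹) (ρ⁻¹ d⁻¹) ρ⁻¹ (h.inv _) := MulEquiv.ext fun _ => rfl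

theorem dd_congr (h' : Ok a' d') (e1 : a = a') (e2 : d = d') (e3 : ρ = ρ') : dd a d ρ h = dd a' d' ρ' h' := by
  subst e1 e2 e3; rfl

end

theorem dd_one (h : Ok (1 : K) 1) : dd 1 1 1 h = 1 := MulEquiv.ext ddf_one

/-- field automorphisms -/
def fr : RingAut K →* MulAut (U K) where
  toFun ρ := dd 1 1 ρ ok_one
  map_one' := dd_one _
  map_mul' ρ ρ' := by rw [dd_mul]; exact dd_congr _ _ (by simp) (by simp) rfl

theorem fr_eq (ρ : RingAut K) : fr ρ = dd (K := K) 1 1 ρ ok_one := rfl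

theorem dd_eq_mul_fr {a d : K} (ρ : RingAut K) (h : Ok a d) : dd a d ρ h = dd a d 1 h * fr ρ := by
  rw [fr_eq, dd_mul]; exact dd_congr _ _ (by simp) (by simp) (by simp)

/-- the group of the `dd a d ρ` -/
def D0 (K : Type*) [Field K] : Subgroup (MulAut (U K)) where
  carrier := {α | ∃ a d ρ h, α = dd a d ρ h}
  one_mem' := ⟨1, 1, 1, ok_one, (dd_one _).symm⟩
  mul_mem' := by rintro _ _ ⟨a, d, ρ, h, rfl⟩ ⟨a', d', ρ', h', rfl⟩; exact ⟨_, _, _, _, dd_mul ..⟩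
  inv_mem' := by rintro _ ⟨a, d, ρ, h, rfl⟩; exact ⟨_, _, _, _, dd_inv ..⟩

/-- the Weyl element of the short simple root, on `Q` -/
@[simps] def wa (g : U K) : U K := ⟨-g.w, g.r, g.v + g.u * g.w - 3 * (g.s * g.r), -g.s, g.u, 0⟩
/-- its inverse -/
@[simps] def wa' (g : U K) : U K := ⟨g.w, -g.r, g.v + g.u * g.w - 3 * (g.s * g.r), g.s, -g.u, 0⟩
/-- the Weyl element of the long simple root, on `Q'` -/
@[simps] def wb (g : U K) : U K := ⟨0, -g.t, g.w + 3 * (g.s * g.t ^ 2) - 3 * (g.t * g.r), g.r - 2 * (g.s * g.t),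
  -g.v + 3 * (g.r * g.s) - 3 * (g.t * g.s ^ 2), g.s⟩
/-- its inverse -/
@[simps] def wb' (g : U K) : U K := ⟨0, g.t, -g.w - 3 * (g.s * g.t ^ 2) + 3 * (g.t * g.r), g.r - 2 * (g.s * g.t),
  g.v - 3 * (g.r * g.s) + 3 * (g.t * g.s ^ 2), -g.s⟩

/-- coordinates of `dd wa wa' wb wb'`, alternating with `gcs` -/
scoped macro "gds" loc:(Lean.Parser.Tactic.location)? : tactic => `(tactic| (
  (try gcs $[$loc]?)
  (try simp only [dd_u, dd_s, dd_v, dd_r, dd_w, dd_t, wa_u, wa_s, wa_v, wa_r, wa_w, wa_t, wa'_u, wa'_s, wa'_v, wa'_r, wa'_w, wa'_t,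
    wb_u, wb_s, wb_v, wb_r, wb_w, wb_t, wb'_u, wb'_s, wb'_v, wb'_r, wb'_w, wb'_t, RingAut.one_apply] $[$loc]?)
  (try gcs $[$loc]?)
  (try simp only [dd_u, dd_s, dd_v, dd_r, dd_w, dd_t, wa_u, wa_s, wa_v, wa_r, wa_w, wa_t, wa'_u, wa'_s, wa'_v, wa'_r, wa'_w, wa'_t,
    wb_u, wb_s, wb_v, wb_r, wb_w, wb_t, wb'_u, wb'_s, wb'_v, wb'_r, wb'_w, wb'_t, RingAut.one_apply] $[$loc]?)))

theorem isoOn_wa : IsoOn Q Q (wa (K := K)) wa' where
  hom g hg h hh := by rw [mem_Q] at hg hh; gds; simp only [hg, hh]; gus; and_intros <;> ring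
  maps _ _ := rfl
  maps' _ _ := rfl
  left g hg := by rw [mem_Q] at hg; gds; simp only [hg]; gus; ring
  right g hg := by rw [mem_Q] at hg; gds; simp only [hg]; gus; ring

theorem isoOn_wb : IsoOn Q' Q' (wb (K := K)) wb' where
  hom g hg h hh := by rw [mem_Q'] at hg hh; gds; simp only [hg, hh]; gus; and_intros <;> ring
  maps _ _ := rfl
  maps' _ _ := rfl
  left g hg := by rw [mem_Q'] at hg; gds; simp only [hg]; gus; and_intros <;> ring
  right g hg := by rw [mem_Q'] at hg; gds; simp only [hg]; gus; and_intros <;> ring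

/-- the automorphisms of `S` in `F` are in standard position -/
def Std (F : FusionSystem (⊤ : Subgroup (U K))) : Prop := ∀ f, Mor F ⊤ f → ∃ x a d ρ h, ∀ g, f g = cj x (dd a d ρ h g)

/-- `F` contains the long coroot elements `h_b(c) = dd c² c⁻¹` -/
def Hb (F : FusionSystem (⊤ : Subgroup (U K))) : Prop := ∀ c (h : Ok (c ^ 2) c⁻¹), Mor F ⊤ (dd (c ^ 2) c⁻¹ 1 h)

/-- `F` contains the torus -/
def Ht (F : FusionSystem (⊤ : Subgroup (U K))) : Prop := ∀ a d (h : Ok a d), Mor F ⊤ (dd a d 1 h)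

theorem isPGroup_U (p : ℕ) [Fact p.Prime] [CharP K p] : IsPGroup p (U K) := by
  have key : ∀ (c : U K → K) (g : U K), (∀ n : ℕ, c (g ^ n) = n * c g) → c (g ^ p) = 0 := fun c g e => by
    rw [e, CharP.cast_eq_zero, zero_mul]
  intro g
  have ind : ∀ (c : U K → K) (g : U K), c 1 = 0 → (∀ n : ℕ, c (g ^ n * g) = c (g ^ n) + c g) → c (g ^ p) = 0 := fun c g e0 e =>
    key c g fun n => by
      induction n with
      | zero => simp [e0]
      | succ n ih => rw [pow_succ, e, ih]; push_cast; ring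
  have h1 : g ^ p ∈ sR := ⟨ind U.u g rfl fun _ => rfl, ind U.t g rfl fun _ => rfl⟩
  generalize e1 : g ^ p = g1 at h1
  have h2 : g1 ^ p ∈ sA := ⟨(pow_mem h1 p).1, ind U.s g1 rfl fun n => by simp [U.mul_s, h1.1], (pow_mem h1 p).2⟩
  generalize e2 : g1 ^ p = g2 at h2
  have h3 : g2 ^ p = 1 := by
    have k := pow_mem h2 p
    have k' := fun n => pow_mem h2 n
    exact U.ext k.1 k.2.1 (ind U.v g2 rfl fun n => by simp [U.mul_v, h2.1, h2.2.1, (k' n).2.2])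
      (ind U.r g2 rfl fun n => by simp [U.mul_r, h2.1, h2.2.1])
      (ind U.w g2 rfl fun n => by simp [U.mul_w, h2.1, h2.2.1, (k' n).2.2]) k.2.2
  exact ⟨3, by rw [pow_succ, pow_succ, pow_one, pow_mul, pow_mul, e1, e2, h3]⟩

/-- a group `G` with Sylow `p`-subgroup `U K` which behaves like `G₂(q)` -/
structure RD (p : ℕ) (K : Type*) [Field K] (G : Type*) [Group G] where
  ι : U K →* G
  inj : Function.Injective ι
  idx : ¬ p ∣ ι.range.index
  na : ∃ n, ∀ g ∈ Q, n * ι g * n⁻¹ = ι (wa g)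
  nb : ∃ n, ∀ g ∈ Q', n * ι g * n⁻¹ = ι (wb g)
  tor : ∀ a d h, ∃ x, ∀ g, x * ι g * x⁻¹ = ι (dd a d 1 h g)
  nrm : ∀ x ∈ normalizer (ι.range : Set G), ∃ u a d h, ∀ g, x * ι g * x⁻¹ = ι (cj u (dd a d 1 h g))
  φ : RingAut K →* MulAut G
  hφ : ∀ ρ g, φ ρ (ι g) = ι (fr ρ g)

end CL.G2F
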