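/-
S5211: the graph automorphism (`p = 3`), change of field, the realising data `RP`, `RP3`, the interface of the blocks.
-/
import Cfsg.Agent.FUS.G2.Dd

set_option autoImplicit false
set_option linter.unusedSimpArgs false
set_option linter.unusedSectionVars false
set_option linter.unusedTactic false
set_option linter.unreachableTactic false
set_option linter.unnecessarySeqFocus false

namespace CL.G2F

open CL.Fus Subgroup Cfsg
open scoped commutatorElement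

variable {K : Type*} [Field K]

/-- the graph endomorphism in characteristic 3: `y1 u ↦ y6 u`, `y6 t ↦ y1 t³`, `y2 s ↦ y5 (-s³)`, `y5 w ↦ y2 (-w)`, `y4 r ↦ y3 r³`, `y3 v ↦ y4 v` -/
@[simps] def gr (g : U K) : U K := ⟨g.t ^ 3, g.u * g.t ^ 3 - g.w, g.r ^ 3 + g.s ^ 3 * g.t ^ 3 + g.u ^ 3 * g.t ^ 6,
  g.v + g.u * g.w + g.u ^ 2 * g.t ^ 3, g.u ^ 3 * g.t ^ 3 - g.s ^ 3, g.u⟩

theorem gr_mul [CharP K 3] (g h : U K) : gr (g * h) = gr g * gr h := by
  gcs; simp only [gr_u, gr_s, gr_v, gr_r, gr_w, gr_t]; gcs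
  and_intros <;> grind

theorem gr_gr [CharP K 3] (g : U K) : gr (gr g) = ⟨g.u ^ 3, g.s ^ 3, g.v ^ 3, g.r ^ 3, g.w ^ 3, g.t ^ 3⟩ := by
  gcs; simp only [gr_u, gr_s, gr_v, gr_r, gr_w, gr_t]
  and_intros <;> grind

theorem gr_inj [CharP K 3] : Function.Injective (gr (K := K)) := fun g h e => by
  have k := congrArg gr e
  have c : ∀ {a b : K}, a ^ 3 = b ^ 3 → a = b := fun e => frobenius_inj K 3 e
  rw [gr_gr, gr_gr, U.mk.injEq] at k
  exact U.ext (c k.1) (c k.2.1) (c k.2.2.1) (c k.2.2.2.1) (c k.2.2.2.2.1) (c k.2.2.2.2.2)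

/-- the graph automorphism -/
noncomputable def grA [Finite K] [CharP K 3] : MulAut (U K) :=
  MulEquiv.ofBijective (MonoidHom.mk' gr gr_mul) (Finite.injective_iff_bijective.1 gr_inj)

@[simp] theorem grA_apply [Finite K] [CharP K 3] (g : U K) : grA g = gr g := rfl

/-- change of field -/
@[simps] def mapU {L : Type*} [Field L] (e : K ≃+* L) : U K ≃* U L where
  toFun g := ⟨e g.u, e g.s, e g.v, e g.r, e g.w, e g.t⟩
  invFun g := ⟨e.symm g.u, e.symm g.s, e.symm g.v, e.symm g.r, e.symm g.w, e.symm g.t⟩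
  left_inv g := by simp
  right_inv g := by simp
  map_mul' g h := by gcs; simp only [map_add, map_mul, map_sub, map_pow, map_ofNat, and_self]

/-- `RD` with the normalisers of `Q` and `Q'` (parabolic subgroups) -/
structure RP (p : ℕ) (K : Type*) [Field K] (G : Type*) [Group G] extends RD p K G where
  pa : ∀ x, (∀ g ∈ Q, ∃ g' ∈ Q, x * ι g * x⁻¹ = ι g') → x ∈ normalizer (ι.range : Set G) ∨
    ∃ t n, (∀ g ∈ Q, n * ι g * n⁻¹ = ι (wa g)) ∧ n * ι (y6 t) * x ∈ normalizer (ι.range : Set G)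
  pb : ∀ x, (∀ g ∈ Q', ∃ g' ∈ Q', x * ι g * x⁻¹ = ι g') → x ∈ normalizer (ι.range : Set G) ∨
    ∃ c n, (∀ g ∈ Q', n * ι g * n⁻¹ = ι (wb g)) ∧ n * ι (y1 c) * x ∈ normalizer (ι.range : Set G)

/-- `RP` with the graph automorphisms -/
structure RP3 (K : Type*) [Field K] [Finite K] [CharP K 3] (G : Type*) [Group G] extends RP 3 K G where
  ψ : zpowers (grA (K := K)) →* MulAut G
  hψ : ∀ c g, ψ c (ι g) = ι (c.1 g)

/-- the essential subgroups are among `Q`, `Q'` -/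
def EssL (p : ℕ) (K : Type*) [Field K] : Prop :=
  ∀ F : FusionSystem (⊤ : Subgroup (U K)), F.IsSaturated p → ∀ P, F.IsEssential p P → P = Q ∨ P = Q'

/-- `Aut_F(Q)` has the Bruhat decomposition of `G₂(q)` -/
def GenQ (F : FusionSystem (⊤ : Subgroup (U K))) : Prop := ∀ f, Mor F Q f → (∀ x ∈ Q, f x ∈ Q) →
  (∃ g, Mor F ⊤ g ∧ Set.EqOn g f (Q (K := K))) ∨ ∃ t g, Mor F ⊤ g ∧ ∀ x ∈ Q, g x = wa (cj (y6 t) (f x))

/-- `Aut_F(Q')` has the Bruhat decomposition of `G₂(q)` -/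
def GenQ' (F : FusionSystem (⊤ : Subgroup (U K))) : Prop := ∀ f, Mor F Q' f → (∀ x ∈ Q', f x ∈ Q') →
  (∃ g, Mor F ⊤ g ∧ Set.EqOn g f (Q' (K := K))) ∨ ∃ c g, Mor F ⊤ g ∧ ∀ x ∈ Q', g x = wb (cj (y1 c) (f x))

end CL.G2F
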