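/-
S5211: the module `W = Q / Z` (written multiplicatively, so that `MulAut W` is available) and the data of `Aut_F(Q)` acting on it.
-/
import Cfsg.Agent.FUS.G2.Gr
import Cfsg.Agent.FUS.SylIn

set_option autoImplicit false
set_option linter.unusedSimpArgs false
set_option linter.unusedSectionVars false
set_option linter.unusedTactic false
set_option linter.unreachableTactic false
set_option linter.unnecessarySeqFocus false

namespace CL.G2F

open CL.Fus Subgroup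

variable {K : Type*} [Field K]

/-- `Q / Z` -/
@[ext] structure W (K : Type*) [Field K] where
  u : K
  s : K
  r : K
  w : K

namespace W

instance : One (W K) := ⟨⟨0, 0, 0, 0⟩⟩
instance : Mul (W K) := ⟨fun x y => ⟨x.u + y.u, x.s + y.s, x.r + y.r, x.w + y.w⟩⟩
instance : Inv (W K) := ⟨fun x => ⟨-x.u, -x.s, -x.r, -x.w⟩⟩

variable (x y : W K)

@[simp] theorem one_u : (1 : W K).u = 0 := rfl
@[simp] theorem one_s : (1 : W K).s = 0 := rfl
@[simp] theorem one_r : (1 : W K).r = 0 := rfl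
@[simp] theorem one_w : (1 : W K).w = 0 := rfl
@[simp] theorem mul_u : (x * y).u = x.u + y.u := rfl
@[simp] theorem mul_s : (x * y).s = x.s + y.s := rfl
@[simp] theorem mul_r : (x * y).r = x.r + y.r := rfl
@[simp] theorem mul_w : (x * y).w = x.w + y.w := rfl
@[simp] theorem inv_u : x⁻¹.u = -x.u := rfl
@[simp] theorem inv_s : x⁻¹.s = -x.s := rfl
@[simp] theorem inv_r : x⁻¹.r = -x.r := rfl
@[simp] theorem inv_w : x⁻¹.w = -x.w := rfl

instance : CommGroup (W K) :=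
  { Group.ofLeftAxioms (fun x y z => by ext <;> simp [add_assoc]) (fun x => by ext <;> simp) fun x => by ext <;> simp with
    mul_comm := fun x y => by ext <;> simp [add_comm] }

instance [Finite K] : Finite (W K) :=
  Finite.of_injective (fun g : W K => (g.u, g.s, g.r, g.w)) fun g h e => by
    simp only [Prod.mk.injEq] at e; ext <;> tauto

end W

/-- scalar multiplication -/
@[simps] def sm (c : K) (x : W K) : W K := ⟨c * x.u, c * x.s, c * x.r, c * x.w⟩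

/-- the symplectic form -/
def bW (x y : W K) : K := x.u * y.w - y.u * x.w + 3 * (y.s * x.r) - 3 * (x.s * y.r)

/-- the quadratic form (`p = 2`) -/
def qW (x : W K) : K := x.u * x.w + 3 * (x.s * x.r)

/-- `(1, 0, 0, 0)` -/
@[simps] def e1 : W K := ⟨1, 0, 0, 0⟩
/-- `(0, 0, 0, 1)` -/
@[simps] def e4 : W K := ⟨0, 0, 0, 1⟩
/-- `(0, s, 0, 0)` -/
@[simps] def e2 (s : K) : W K := ⟨0, s, 0, 0⟩
/-- `(0, 0, r, 0)` -/
@[simps] def e3 (r : K) : W K := ⟨0, 0, r, 0⟩

/-- the projection `Q → W` -/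
@[simps] def pW (g : U K) : W K := ⟨g.u, g.s, g.r, g.w⟩
/-- a section of `pW` -/
@[simps] def lW (x : W K) : U K := ⟨x.u, x.s, 0, x.r, x.w, 0⟩

theorem pW_lW (x : W K) : pW (lW x) = x := rfl
theorem lW_mem (x : W K) : lW x ∈ Q := rfl
theorem pW_mul {g h : U K} (hg : g ∈ Q) : pW (g * h) = pW g * pW h := by
  rw [mem_Q] at hg; ext <;> simp [U.mul_u, U.mul_s, U.mul_r, U.mul_w, hg]
theorem pW_eq_iff {g h : U K} (hg : g ∈ Q) (hh : h ∈ Q) : pW g = pW h ↔ g * h⁻¹ ∈ sZ := by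
  rw [mem_Q] at hg hh; simp [div_mem_sZ, W.ext_iff, hg, hh]
theorem bW_pW (g h : U K) : bW (pW g) (pW h) = bf g h := rfl
theorem qW_pW (g : U K) : qW (pW g) = qf g := rfl

/-- the function of `tt` -/
@[simps] def ttf (t : K) (x : W K) : W K :=
  ⟨x.u, x.s + x.u * t, x.r + 2 * x.s * t + x.u * t ^ 2, x.w + 3 * x.r * t + 3 * x.s * t ^ 2 + x.u * t ^ 3⟩

/-- coordinates in `W` -/
scoped macro "gws" loc:(Lean.Parser.Tactic.location)? : tactic => `(tactic| (
  (try simp only [W.ext_iff, W.mul_u, W.mul_s, W.mul_r, W.mul_w, W.inv_u, W.inv_s, W.inv_r, W.inv_w, W.one_u, W.one_s, W.one_r, W.one_w,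
    ttf_u, ttf_s, ttf_r, ttf_w] $[$loc]?)
  (try simp only [map_add, map_mul, map_sub, map_neg, map_pow, map_zero, map_one, map_inv₀, map_div₀, map_ofNat] $[$loc]?)))

theorem ttf_add (t t' : K) (x : W K) : ttf (t + t') x = ttf t (ttf t' x) := by gws; and_intros <;> first | trivial | ring
theorem ttf_zero (x : W K) : ttf 0 x = x := by gws; simp

/-- the action of `y6 t` -/
def tt (t : K) : MulAut (W K) where
  toFun := ttf t
  invFun := ttf (-t)
  left_inv x := by rw [← ttf_add, neg_add_cancel, ttf_zero]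
  right_inv x := by rw [← ttf_add, add_neg_cancel, ttf_zero]
  map_mul' x y := by gws; and_intros <;> first | trivial | ring

section
variable (t : K) (x : W K)
@[simp] theorem tt_u : (tt t x).u = x.u := rfl
@[simp] theorem tt_s : (tt t x).s = x.s + x.u * t := rfl
@[simp] theorem tt_r : (tt t x).r = x.r + 2 * x.s * t + x.u * t ^ 2 := rfl
@[simp] theorem tt_w : (tt t x).w = x.w + 3 * x.r * t + 3 * x.s * t ^ 2 + x.u * t ^ 3 := rfl
end

theorem tt_add (t t' : K) : tt (K := K) (t + t') = tt t * tt t' := MulEquiv.ext (ttf_add t t')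
theorem tt_zero : tt (K := K) 0 = 1 := MulEquiv.ext ttf_zero
theorem tt_neg (t : K) : tt (K := K) (-t) = (tt t)⁻¹ := MulEquiv.ext fun _ => rfl
theorem tt_inj {t t' : K} (h : tt (K := K) t = tt t') : t = t' := by simpa using congrArg (fun α : MulAut (W K) => (α e1).s) h
theorem tt_pow (t : K) (n : ℕ) : tt (K := K) t ^ n = tt (n * t) := by
  induction n with
  | zero => simp [tt_zero]
  | succ n ih => rw [pow_succ, ih, ← tt_add]; push_cast; ring_nf

theorem pW_cj (g : U K) {x : U K} (hx : x ∈ Q) : pW (cj g x) = tt g.t (pW x) := by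
  rw [mem_Q] at hx
  simp only [W.ext_iff, pW_u, pW_s, pW_r, pW_w, tt_u, tt_s, tt_r, tt_w]; gcs; simp only [hx]; gus; and_intros <;> ring

/-- the group of the `tt t` -/
def TT (K : Type*) [Field K] : Subgroup (MulAut (W K)) where
  carrier := Set.range tt
  one_mem' := ⟨0, tt_zero⟩
  mul_mem' := by rintro _ _ ⟨t, rfl⟩ ⟨t', rfl⟩; exact ⟨_, tt_add ..⟩
  inv_mem' := by rintro _ ⟨t, rfl⟩; exact ⟨_, tt_neg _⟩

theorem mem_TT {x : MulAut (W K)} : x ∈ TT K ↔ ∃ t, tt t = x := Iff.rfl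

/-- the action of `wa` -/
def aW : MulAut (W K) where
  toFun x := ⟨-x.w, x.r, -x.s, x.u⟩
  invFun x := ⟨x.w, -x.r, x.s, -x.u⟩
  left_inv x := by ext <;> simp
  right_inv x := by ext <;> simp
  map_mul' x y := by ext <;> simp <;> ring

section
variable (x : W K)
@[simp] theorem aW_u : (aW x).u = -x.w := rfl
@[simp] theorem aW_s : (aW x).s = x.r := rfl
@[simp] theorem aW_r : (aW x).r = -x.s := rfl
@[simp] theorem aW_w : (aW x).w = x.u := rfl
@[simp] theorem aW'_u : (aW⁻¹ x : W K).u = x.w := rfl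
@[simp] theorem aW'_s : (aW⁻¹ x : W K).s = -x.r := rfl
@[simp] theorem aW'_r : (aW⁻¹ x : W K).r = x.s := rfl
@[simp] theorem aW'_w : (aW⁻¹ x : W K).w = -x.u := rfl
end

theorem pW_wa (g : U K) : pW (wa g) = aW (pW g) := rfl

/-- the action of `dd a d ρ` -/
def dW (a d : K) (ρ : RingAut K) (h : Ok a d) : MulAut (W K) where
  toFun x := pW (dd a d ρ h (lW x))
  invFun x := pW ((dd a d ρ h)⁻¹ (lW x))
  left_inv x := by
    have : lW (pW (dd a d ρ h (lW x))) = dd a d ρ h (lW x) := by ext <;> simp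
    simp only [this, MulAut.inv_apply_self]; rfl
  right_inv x := by
    have : lW (pW ((dd a d ρ h)⁻¹ (lW x))) = (dd a d ρ h)⁻¹ (lW x) := by rw [dd_inv]; ext <;> simp
    simp only [this, MulAut.apply_inv_self]; rfl
  map_mul' x y := by ext <;> simp [mul_add]

section
variable {a d a' d' : K} {ρ ρ' : RingAut K} (h : Ok a d) (x : W K)
@[simp] theorem dW_u : (dW a d ρ h x).u = a * ρ x.u := rfl
@[simp] theorem dW_s : (dW a d ρ h x).s = a * d * ρ x.s := rfl
@[simp] theorem dW_r : (dW a d ρ h x).r = a * d ^ 2 * ρ x.r := rfl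
@[simp] theorem dW_w : (dW a d ρ h x).w = a * d ^ 3 * ρ x.w := rfl

theorem pW_dd (g : U K) : pW (dd a d ρ h g) = dW a d ρ h (pW g) := rfl

theorem dW_mul (h' : Ok a' d') : dW a d ρ h * dW a' d' ρ' h' = dW (a * ρ a') (d * ρ d') (ρ * ρ') (h.mul h' ρ) :=
  MulEquiv.ext fun x => by
    have := congrArg pW (congrArg (fun α : MulAut (U K) => α (lW x)) (dd_mul (ρ := ρ) (ρ' := ρ') h h'))
    exact this

theorem dW_congr (h' : Ok a' d') (e1 : a = a') (e2 : d = d') (e3 : ρ = ρ') : dW a d ρ h = dW a' d' ρ' h' := by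
  subst e1 e2 e3; rfl

theorem dW_inj {h' : Ok a' d'} (e : dW a d ρ h = dW a' d' ρ' h') : a = a' ∧ d = d' ∧ ρ = ρ' := by
  have k1 : a = a' := by simpa using congrArg (fun α : MulAut (W K) => (α e1).u) e
  have k2 := fun s => congrArg (fun α : MulAut (W K) => (α (e2 s)).s) e
  have k3 : d = d' := by simpa [k1, h'.a0] using k2 1
  exact ⟨k1, k3, RingEquiv.ext fun s => by simpa [k1, k3, h'.a0, h'.d0] using k2 s⟩

theorem dW_tt (t : K) : dW a d ρ h * tt t = tt (d * ρ t) * dW a d ρ h := MulEquiv.ext fun x => by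
  simp only [MulAut.mul_apply, W.ext_iff, dW_u, dW_s, dW_r, dW_w, tt_u, tt_s, tt_r, tt_w]
  gws; and_intros <;> first | trivial | ring

theorem bW_dW (y : W K) : bW (dW a d ρ h x) (dW a d ρ h y) = a ^ 2 * d ^ 3 * ρ (bW x y) := by
  simp only [bW, dW_u, dW_s, dW_r, dW_w]
  gws; ring
end

theorem dW_one (h : Ok (1 : K) 1) : dW 1 1 1 h = 1 := MulEquiv.ext fun x => by ext <;> simp

theorem bW_tt (t : K) (x y : W K) : bW (tt t x) (tt t y) = bW x y := by
  simp only [bW, tt_u, tt_s, tt_r, tt_w]; gws; ring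

theorem bW_aW (x y : W K) : bW (aW x) (aW y) = bW x y := by
  simp only [bW, aW_u, aW_s, aW_r, aW_w]; gws; ring

/-- the `SL₂` relation -/
theorem sl2_rel {t : K} (ht : t ≠ 0) (h : Ok (t ^ 3) (t⁻¹ ^ 2)) :
    tt t * (aW * tt t⁻¹ * aW⁻¹) * tt t = aW * dW (t ^ 3) (t⁻¹ ^ 2) 1 h := MulEquiv.ext fun x => by
  simp only [MulAut.mul_apply, W.ext_iff, dW_u, dW_s, dW_r, dW_w, tt_u, tt_s, tt_r, tt_w, aW_u, aW_s, aW_r, aW_w, aW'_u, aW'_s, aW'_r,
    aW'_w, RingAut.one_apply]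
  gws; and_intros <;> field_simp <;> ring

/-- `V / Z` -/
def VW : Subgroup (W K) where
  carrier := {x | x.u = 0 ∧ x.s = 0 ∧ x.r = 0}
  mul_mem' {a b} ha hb := by simp only [Set.mem_ofPred_eq] at *; simp [*]
  one_mem' := ⟨rfl, rfl, rfl⟩
  inv_mem' {a} ha := by simp only [Set.mem_ofPred_eq] at *; simp [*]
/-- `A₀ / Z` -/
def AW : Subgroup (W K) where
  carrier := {x | x.u = 0 ∧ x.s = 0}
  mul_mem' {a b} ha hb := by simp only [Set.mem_ofPred_eq] at *; simp [*]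
  one_mem' := ⟨rfl, rfl⟩
  inv_mem' {a} ha := by simp only [Set.mem_ofPred_eq] at *; simp [*]
/-- `Y₁ Z / Z` -/
def V1W : Subgroup (W K) where
  carrier := {x | x.s = 0 ∧ x.r = 0 ∧ x.w = 0}
  mul_mem' {a b} ha hb := by simp only [Set.mem_ofPred_eq] at *; simp [*]
  one_mem' := ⟨rfl, rfl, rfl⟩
  inv_mem' {a} ha := by simp only [Set.mem_ofPred_eq] at *; simp [*]
/-- `Y₁ Y₂ Z / Z` -/
def A1W : Subgroup (W K) where
  carrier := {x | x.r = 0 ∧ x.w = 0}
  mul_mem' {a b} ha hb := by simp only [Set.mem_ofPred_eq] at *; simp [*]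
  one_mem' := ⟨rfl, rfl⟩
  inv_mem' {a} ha := by simp only [Set.mem_ofPred_eq] at *; simp [*]

theorem mem_VW {x : W K} : x ∈ VW ↔ x.u = 0 ∧ x.s = 0 ∧ x.r = 0 := Iff.rfl
theorem mem_AW {x : W K} : x ∈ AW ↔ x.u = 0 ∧ x.s = 0 := Iff.rfl
theorem mem_V1W {x : W K} : x ∈ V1W ↔ x.s = 0 ∧ x.r = 0 ∧ x.w = 0 := Iff.rfl
theorem mem_A1W {x : W K} : x ∈ A1W ↔ x.r = 0 ∧ x.w = 0 := Iff.rfl

/-- the image `X` of `Aut_F(Q)` in `Aut(W)`; "`x` stabilises the point `V`" is `x e4 ∈ VW` -/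
structure QD (p : ℕ) (X : Subgroup (MulAut (W K))) : Prop where
  syl : SylIn p (TT K) X
  sim : ∀ x ∈ X, ∃ ζ : K → K, ∀ a b, bW (x a) (x b) = ζ (bW a b)
  sq : p = 2 → ∀ x ∈ X, ∀ a, qW a = 0 → qW (x a) = 0
  std : ∀ x ∈ X, (∀ v ∈ VW, x v ∈ VW) → ∃ t a d ρ h, dW a d ρ h ∈ X ∧ x = tt t * dW a d ρ h
  ti : ∀ x ∈ X, ∀ t t', t ≠ 0 → x * tt t * x⁻¹ = tt t' → x e4 ∈ VW
  ne : ∃ x ∈ X, x e4 ∉ VW
  hb : ∀ c (h : Ok (c ^ 2) c⁻¹), dW (c ^ 2) c⁻¹ 1 h ∈ X

/-- `bW` is nondegenerate for `p ≠ 3` -/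
theorem bW_nondeg (h3 : (3 : K) ≠ 0) {y : W K} (h : ∀ z, bW y z = 0) : y = 1 := by
  have a := h e1; have b := h (e2 1); have c := h (e3 1); have d := h e4
  simp [bW, h3] at a b c d
  ext <;> simp [*]

/-- the discriminant of the cubic `u X³ + 3 s X² Y + 3 r X Y² + w Y³` -/
def Δ (x : W K) : K := x.u ^ 2 * x.w ^ 2 - 6 * x.u * x.s * x.r * x.w + 4 * x.u * x.r ^ 3 + 4 * x.s ^ 3 * x.w - 3 * x.s ^ 2 * x.r ^ 2

theorem Δ_tt (t : K) (x : W K) : Δ (tt t x) = Δ x := by simp only [Δ, tt_u, tt_s, tt_r, tt_w]; ring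
theorem Δ_aW (x : W K) : Δ (aW x) = Δ x := by simp only [Δ, aW_u, aW_s, aW_r, aW_w]; ring

end CL.G2F
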