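/-
S5211: tools valid for all `q` (ports of FUS/D3/Ess0, Ess, Std).
-/
import Cfsg.Agent.FUS.G2.Gr
import Cfsg.Agent.FUS.D3.CxF

set_option autoImplicit false
set_option linter.unusedSimpArgs false
set_option linter.unusedSectionVars false

namespace CL.G2F

open CL.Fus CL.RF4 CL.D3 Subgroup Cfsg Cfsg.FusionSystem
open scoped commutatorElement

variable {K : Type*} [Field K] [Finite K] {p : ℕ} [Fact p.Prime] [CharP K p] {F F' : FusionSystem (⊤ : Subgroup (U K))}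
  {P : Subgroup (U K)} {A H : Set (U K → U K)} {g x : U K}

theorem mem_img_cj : x ∈ img (cj g) P ↔ cj g⁻¹ x ∈ P := by
  rw [(isHomOn_cj P g).mem_img]
  exact ⟨by rintro ⟨y, hy, rfl⟩; rwa [cj_inv_cj], fun h => ⟨_, h, cj_cj_inv _ _⟩⟩

theorem cj_mem_img : cj g x ∈ img (cj g) P ↔ x ∈ P := by rw [mem_img_cj, cj_inv_cj]

theorem img_cj_le {B : Subgroup (U K)} [B.Normal] : img (cj g) P ≤ B ↔ P ≤ B :=
  ⟨fun h x hx => by simpa [cj, mul_assoc] using Normal.conj_mem ‹_› _ (h (cj_mem_img.2 hx)) g⁻¹,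
    fun h x hx => by simpa [cj, mul_assoc] using Normal.conj_mem ‹_› _ (h (mem_img_cj.1 hx)) g⟩

theorem le_img_cj {B : Subgroup (U K)} [B.Normal] : B ≤ img (cj g) P ↔ B ≤ P :=
  ⟨fun h x hx => cj_mem_img.1 (h (Normal.conj_mem ‹_› _ hx g)), fun h x hx => mem_img_cj.2 (h (Normal.conj_mem ‹_› _ hx _))⟩

theorem cj_mem_Omp : cj g x ∈ Omp p (img (cj g) P) ↔ x ∈ Omp p P := by
  simp only [mem_Omp, cj_mem_img]
  refine and_congr_right fun _ => and_congr (by simp [cj, conj_pow]) ⟨fun h y hy => ?_, fun h y hy => ?_⟩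
  · simpa [cj] using h _ (cj_mem_img.2 hy)
  · have := congrArg (cj g) (h _ (mem_img_cj.1 hy))
    simpa [cj, mul_assoc] using this

theorem two_iff : (2 : K) = 0 ↔ p = 2 := by
  rw [show (2 : K) = (2 : ℕ) by simp, CharP.cast_eq_zero_iff K p, Nat.prime_dvd_prime_iff_eq Fact.out Nat.prime_two]

theorem three_iff : (3 : K) = 0 ↔ p = 3 := by
  rw [show (3 : K) = (3 : ℕ) by simp, CharP.cast_eq_zero_iff K p, Nat.prime_dvd_prime_iff_eq Fact.out Nat.prime_three]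

theorem p_le_card : p ≤ Nat.card (K) := by
  have := Fintype.ofFinite (K)
  obtain ⟨n, -, e⟩ := FiniteField.card (K) p
  rw [Nat.card_eq_fintype_card, e]
  exact Nat.le_self_pow n.ne_zero p

/-- a coordinate that is additive along the powers of `g` vanishes on `g ^ p` -/
theorem crd_pow (c : U K → K) (g : U K) (e0 : c 1 = 0) (e : ∀ n : ℕ, c (g ^ n * g) = c (g ^ n) + c g) : c (g ^ p) = 0 := by
  have : ∀ n : ℕ, c (g ^ n) = n * c g := fun n => by
    induction n with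
    | zero => simp [e0]
    | succ n ih => rw [pow_succ, e, ih]; push_cast; ring
  rw [this, CharP.cast_eq_zero, zero_mul]

theorem pow_mem_sR (g : U K) : g ^ p ∈ sR := ⟨crd_pow U.u g rfl fun _ => rfl, crd_pow U.t g rfl fun _ => rfl⟩

theorem pow_mem_sA (hg : g ∈ Q') : g ^ p ∈ sA :=
  ⟨(pow_mem_sR g).1, crd_pow U.s g rfl fun n => by simp [U.mul_s, mem_Q'.1 hg], (pow_mem_sR g).2⟩

theorem pow_mem_sZ (hg : g ∈ Q) : g ^ p ∈ sZ := by
  have k := fun n => mem_Q.1 (pow_mem hg n)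
  exact ⟨(pow_mem_sR g).1, crd_pow U.s g rfl fun n => by simp [U.mul_s, k n], crd_pow U.r g rfl fun n => by simp [U.mul_r, k n],
    crd_pow U.w g rfl fun n => by simp [U.mul_w, k n], k p⟩

theorem pow_sA (hg : g ∈ sA) : g ^ p = 1 := by
  have k := fun n => pow_mem hg n
  have z := pow_mem_sZ (p := p) (sR_le_Q (sA_le_sR hg))
  exact U.ext z.1 z.2.1 (crd_pow U.v g rfl fun n => by simp [U.mul_v, hg.1, hg.2.1, (k n).2.2]) z.2.2.1 z.2.2.2.1 z.2.2.2.2

theorem Z_le_Om (h : Cx p ⊤ P A H) : sZ ≤ Omp p P := fun _ hz =>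
  ⟨h.mem1 trivial fun y _ => (comm_Z y hz).symm, pow_sA (sV_le_sA (sZ_le_sV hz)), fun y _ => (comm_Z y hz).symm⟩

theorem V_le_Om (h : Cx p ⊤ P A H) (hP : P ≤ Q') : sV ≤ Omp p P := fun _ hz =>
  ⟨h.mem1 trivial fun _ hy => (comm_V (hP hy) hz).symm, pow_sA (sV_le_sA hz), fun _ hy => (comm_V (hP hy) hz).symm⟩

theorem isPGroup_top : IsPGroup p (⊤ : Subgroup (U K)) := (isPGroup_U p).to_subgroup _

theorem isoOn_top (α : MulAut (U K)) : IsoOn ⊤ ⊤ α α.symm :=
  ⟨fun x _ y _ => map_mul α x y, fun _ _ => trivial, fun _ _ => trivial, fun x _ => α.symm_apply_apply x, fun x _ => α.apply_symm_apply x⟩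

theorem isoOn_cj {P : Subgroup (U K)} [P.Normal] (s : U K) : IsoOn P P (cj s) (cj s⁻¹) :=
  ⟨isHomOn_cj P s, fun g hg => Normal.conj_mem ‹_› g hg s, fun g hg => Normal.conj_mem ‹_› g hg s⁻¹, fun _ _ => cj_inv_cj _ _,
    fun _ _ => cj_cj_inv _ _⟩

theorem mor_cj' (F : FusionSystem (⊤ : Subgroup (U K))) (P : Subgroup (U K)) (s : U K) : Mor F P (cj s) := mor_cj F le_top trivial

theorem exists_isoOn {P : Subgroup (U K)} {f : U K → U K} (hf : Mor F P f) (h1 : ∀ x ∈ P, f x ∈ P) :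
    ∃ f', Mor F P f' ∧ IsoOn P P f f' := by
  obtain ⟨g, h, h'⟩ := hf.exists_isoOn
  rw [hf.img_eq_self h1] at h h'
  exact ⟨g, h', h⟩

theorem exists_aut_top {f : U K → U K} (hf : Mor F ⊤ f) : ∃ α : MulAut (U K), ∀ g, f g = α g := by
  obtain ⟨f', -, i⟩ := exists_isoOn hf fun _ _ => trivial
  exact ⟨⟨⟨f, f', fun x => i.left x trivial, fun x => i.right x trivial⟩, fun x y => i.map_mul trivial trivial⟩, fun _ => rfl⟩

theorem ext_of_mem_extAut {P : Subgroup (U K)} (h : ∀ R f, P < R → Mor F R f → ∃ g, Mor F ⊤ g ∧ Set.EqOn g f R) {α : MulAut P}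
    (hα : α ∈ extAut F P) : ∃ g, Mor F ⊤ g ∧ Set.EqOn g (autFun α) P := by
  induction hα using closure_induction with
  | mem α k =>
    obtain ⟨R, f, h1, h2, h3⟩ := k
    obtain ⟨g, hg, e⟩ := h R f h1 h2
    exact ⟨g, hg, (e.mono h1.le).trans h3⟩
  | one => exact ⟨id, mor_id F le_rfl, fun x hx => (autFun_one hx).symm⟩
  | mul α β _ _ ha hb =>
    obtain ⟨g, hg, e⟩ := ha
    obtain ⟨g', hg', e'⟩ := hb
    exact ⟨_, hg.comp hg' fun _ _ => trivial, fun x hx => by rw [Function.comp, e' hx, e (autFun_mem β hx), autFun_mul _ _ hx]⟩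
  | inv α _ ha =>
    obtain ⟨g, hg, e⟩ := ha
    obtain ⟨g', hg', i⟩ := exists_isoOn hg fun _ _ => trivial
    exact ⟨g', hg', fun x hx => by rw [← autFun_autFun_inv α hx, ← e (autFun_mem _ hx), i.left _ trivial, e (autFun_mem _ hx),
      autFun_autFun_inv α hx]⟩

theorem centric_of (hF : F.IsSaturated p) {P : Subgroup (U K)} (hE : F.IsEssential p P) : F.IsCentric P :=
  ((isEssential_iff isPGroup_top hF).1 hE).1

theorem exists_move (hF : F.IsSaturated p) {P X : Subgroup (U K)} (hE : F.IsEssential p P)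
    (h : ∀ f, Mor F P f → (∀ x ∈ P, f x ∈ P) → (∀ x ∈ X, f x ∈ X) → ∃ g, Mor F ⊤ g ∧ Set.EqOn g f P) :
    ∃ f f', Mor F P f ∧ Mor F P f' ∧ IsoOn P P f f' ∧ ¬ ∀ x ∈ X, f x ∈ X := by
  obtain ⟨α, hα, hα'⟩ := SetLike.exists_of_lt (extAut_lt_of_essential isPGroup_top hF hE)
  refine ⟨_, _, mor_autFun le_top hα, mor_autFun le_top (inv_mem hα), isoOn_autFun α, fun k => hα' ?_⟩
  obtain ⟨g, hg, e⟩ := h _ (mor_autFun le_top hα) (fun x hx => autFun_mem α hx) k
  exact mem_extAut (lt_of_essential isPGroup_top hF hE) hg e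

theorem dd_mem (hS : Std F) {f : U K → U K} (hf : Mor F ⊤ f) :
    ∃ x a d ρ h, Mor F ⊤ (dd (K := K) a d ρ h) ∧ ∀ g, f g = cj x (dd a d ρ h g) :=
  let ⟨x, a, d, ρ, h, e⟩ := hS f hf
  ⟨x, a, d, ρ, h, (hf.cj_comp (s := x⁻¹) trivial).congr fun g _ => by rw [Function.comp, e, cj_inv_cj], e⟩

/-- the `dd a d ρ` in `F` -/
def DF (F : FusionSystem (⊤ : Subgroup (U K))) : Subgroup (MulAut (U K)) where
  carrier := {α | α ∈ D0 K ∧ Mor F ⊤ α}
  one_mem' := ⟨one_mem _, mor_id F le_rfl⟩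
  mul_mem' ha hb := ⟨mul_mem ha.1 hb.1, ha.2.comp hb.2 fun _ _ => trivial⟩
  inv_mem' {a} ha := ⟨inv_mem ha.1, (Mor.of_leftInv ha.2 fun x _ => a.symm_apply_apply x).mono (Mor.img_top ha.2).ge⟩

/-- An element of order `p` (Cauchy) of `DF F` is a `p`-element of `Aut_F(S)`, so inner (`sylIn_inn_top`: `Inn` is a normal Sylow subgroup), so fixes `u`, `t`: `a = 1`, `d = 1`, `ρ = 1`. -/
theorem coprime_DF (hF : F.IsSaturated p) : (Nat.card (DF F)).Coprime p := by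
  refine ((Nat.Prime.coprime_iff_not_dvd Fact.out).2 fun k => CL.U5.not_dvd_of isPGroup_top hF (DF F).subtype ⊤ (fun x _ => x.2.2)
    (fun x u e => ?_) (by rwa [card_top])).symm
  obtain ⟨_, ⟨a, d, ρ, ok, rfl⟩, hm⟩ := x
  replace e : ∀ g, dd a d ρ ok g = cj u g := e
  have e1 : a = 1 := by have := congrArg U.u (e (y1 1)); gus at this; simpa using this
  have e2 : ∀ t, d * ρ t = t := fun t => by have := congrArg U.t (e (y6 t)); gus at this; simpa using this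
  have e3 : d = 1 := by simpa using e2 1
  exact Subtype.ext ((dd_congr ok ok_one e1 e3 (RingEquiv.ext fun t => by simpa [e3] using e2 t)).trans (dd_one _))

end CL.G2F
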