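/-
S5211: definitions for `p ≥ 5`.
-/
import Cfsg.Agent.FUS.G2.Tools
import Cfsg.Agent.FUS.G2.Lin

set_option autoImplicit false
set_option linter.unusedSimpArgs false
set_option linter.unusedSectionVars false

namespace CL.G2F

open CL.Fus CL.RF4 CL.D3 Subgroup Cfsg Cfsg.FusionSystem
open scoped commutatorElement

/-- the characteristic is not 2 or 3 -/
class P5 (K : Type*) [Field K] : Prop where
  h2 : (2 : K) ≠ 0
  h3 : (3 : K) ≠ 0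

variable {K : Type*} [Field K] [Finite K] {p : ℕ} {P : Subgroup (U K)} {A H : Set (U K → U K)} {g x : U K}

theorem two_ne [P5 K] : (2 : K) ≠ 0 := P5.h2
theorem three_ne [P5 K] : (3 : K) ≠ 0 := P5.h3

theorem p5_of [Fact p.Prime] [CharP K p] (hp : 5 ≤ p) : P5 K :=
  ⟨fun e => by have := two_iff.1 e; omega, fun e => by have := three_iff.1 e; omega⟩

theorem p_ne_two [Fact p.Prime] [CharP K p] [P5 K] : p ≠ 2 := fun e => two_ne (K := K) (two_iff.2 e)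

/-- `α` and `β` agree on the factors of `1 < Z < V < A₀ < R₀ < S` -/
def Sm (α β : U K → U K) : Prop := ∀ g, (α g).u = (β g).u ∧ (α g).t = (β g).t ∧ (g ∈ sR → (α g).s = (β g).s) ∧
  (g ∈ sA → (α g).r = (β g).r) ∧ (g ∈ sV → (α g).w = (β g).w) ∧ (g ∈ sZ → (α g).v = (β g).v)

/-- `Y₆ V` -/
def sY6 : Subgroup (U K) where
  carrier := {g | g.u = 0 ∧ g.s = 0 ∧ g.r = 0}
  mul_mem' {a b} ha hb := by simp only [Set.mem_ofPred_eq] at *; gus; simp [*]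
  one_mem' := ⟨rfl, rfl, rfl⟩
  inv_mem' {a} ha := by simp only [Set.mem_ofPred_eq] at *; gus; simp [*]

theorem mem_sY6 : g ∈ sY6 ↔ g.u = 0 ∧ g.s = 0 ∧ g.r = 0 := Iff.rfl

/-- the context with the extension properties -/
structure Cy (p : ℕ) (P : Subgroup (U K)) (A H : Set (U K → U K)) : Prop extends Cx p ⊤ P A H where
  ne : P ≠ ⊤
  ext : ¬ P ≤ Q → ¬ P ≤ Q' → ∀ h ∈ H, ∃ α : MulAut (U K), ∀ y ∈ P, h y = α y
  ext' : P ≤ Q' → Nat.card (normalizer (P : Set (U K))) < Nat.card (Q (K := K)) → ∀ h ∈ H, ∃ α α', IsoOn Q' Q' α α' ∧ ∀ y ∈ P, h y = α y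
  cm : ∀ h ∈ A, ∀ g, (∀ y ∈ P, ⁅g, y⁆ ∈ P) → ∀ B : Subgroup (U K), Ivs P A B → (∀ y ∈ P, y ∈ B → h (cj g y) = cj g (h y)) →
    (∀ y ∈ P, h (cj g y) * (cj g (h y))⁻¹ ∈ B) → ∃ e ∈ P, ∀ y ∈ P, h (cj g y) = cj (e * g) (h y)
  f6 : ∀ G B C M, Sec p ⊤ P A G B C M → Chs P A G ⊥ B → Chs P A G C ⊤ → ∀ a ∈ G, a ∉ P → ∀ c ∈ G, c ∉ P →
    ∃ h ∈ H, h ∈ A ∧ ∀ w ∈ C, ⁅a, h w⁆⁻¹ * ⁅c, w⁆ ∈ B ∧ (h ⁅c, w⁆)⁻¹ * ⁅a, w⁆ ∈ B

/-- all conjugates of `P` have a context -/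
def Es (p : ℕ) (P : Subgroup (U K)) : Prop := ∀ g, ∃ A H, Cy p (img (cj g) P) A H

theorem Es.cy (h : Es p P) : ∃ A H, Cy p P A H := by
  have := h 1
  rwa [show img (cj 1) P = P by ext; rw [(isHomOn_cj P 1).mem_img]; simp [cj]] at this

/-- the image of `Aut_F(Q)` in `Aut(W)` -/
def XW (F : FusionSystem (⊤ : Subgroup (U K))) : Subgroup (MulAut (W K)) where
  carrier := {x | ∃ f, Mor F Q f ∧ (∀ g ∈ Q, f g ∈ Q) ∧ ∀ g ∈ Q, pW (f g) = x (pW g)}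
  one_mem' := ⟨id, mor_id F le_top, fun _ h => h, fun _ _ => rfl⟩
  mul_mem' := fun ⟨f, h1, h2, h3⟩ ⟨f', k1, k2, k3⟩ => ⟨f ∘ f', h1.comp k1 k2, fun g hg => h2 _ (k2 g hg), fun g hg => by
    rw [Function.comp, h3 _ (k2 g hg), k3 g hg]; rfl⟩
  inv_mem' := fun {x} ⟨f, h1, h2, h3⟩ =>
    let ⟨f', k, i⟩ := exists_isoOn h1 h2
    ⟨f', k, i.maps', fun g hg => x.injective (by rw [← h3 _ (i.maps' g hg), i.right g hg, MulAut.apply_inv_self])⟩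

/-- the points `x ⟨e4⟩`, `x ∈ X`, are those of the twisted cubic -/
def KOne (X : Subgroup (MulAut (W K))) : Prop := ∀ x ∈ X, (∀ v ∈ VW, x v ∈ VW) ∨ ∃ t, ∀ v ∈ VW, tt t (x v) ∈ V1W

end CL.G2F
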