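/-
S5211: automorphisms of `U K` and standard position, `p ≥ 5` (port of FUS/D3/Aut, Std).
-/
import Cfsg.Agent.FUS.G2.P5

set_option autoImplicit false
set_option linter.unusedSimpArgs false
set_option linter.unusedSectionVars false

namespace CL.G2F

open CL.Fus CL.RF4 CL.D3 Subgroup Cfsg Cfsg.FusionSystem
open scoped commutatorElement

variable {K : Type*} [Field K] [Finite K] [P5 K] {p : ℕ} [Fact p.Prime] [CharP K p] {F F' : FusionSystem (⊤ : Subgroup (U K))}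
  {P : Subgroup (U K)} {A H : Set (U K → U K)}

namespace Aut5

variable {g h : U K}

theorem key {G : Type*} [Group G] (α : MulAut G) {B C D : Subgroup G} (hB : ∀ g, α g ∈ B ↔ g ∈ B) (hD : ∀ g, α g ∈ D ↔ g ∈ D)
    (h : ∀ g, g ∈ C ↔ ∀ x ∈ D, ⁅g, x⁆ ∈ B) (g : G) : α g ∈ C ↔ g ∈ C := by
  rw [h, h, α.surjective.forall]; simp only [hD, ← map_commutatorElement, hB]

theorem br_R (g : U K) (hh : h ∈ sR) : ⁅g, h⁆ ∈ sA ∧ ⁅g, h⁆.r = 2 * h.s * g.t :=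
  ⟨⟨br_u .., by simp [br_s, hh.1, hh.2], br_t ..⟩, by simp [br_r, hh.1, hh.2]⟩

theorem br_A (g : U K) (hh : h ∈ sA) : ⁅g, h⁆ ∈ sV ∧ ⁅g, h⁆.w = 3 * h.r * g.t :=
  have k := br_R g (sA_le_sR hh)
  ⟨⟨k.1.1, k.1.2.1, by simp [k.2, hh.2.1], k.1.2.2⟩, by simp [br_w, hh.1, hh.2.1, hh.2.2]⟩

theorem br_V' (g : U K) (hh : h ∈ sV) : ⁅g, h⁆ ∈ sZ := br_V g hh ▸ ⟨rfl, rfl, rfl, rfl, rfl⟩

theorem cR (k : ∀ x : U K, ⁅g, x⁆ ∈ sA) : g ∈ sR :=
  ⟨by simpa [br_s] using (k (y6 1)).2.1, by simpa [br_s] using (k (y1 1)).2.1⟩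

theorem cA (k : ∀ x : U K, ⁅g, x⁆ ∈ sV) : g ∈ sA :=
  have h1 := cR fun x => sV_le_sA (k x)
  ⟨h1.1, by simpa [two_ne] using (br_R (y6 1) h1).2.symm.trans (br_symm (k _)).2.2.1, h1.2⟩

theorem cV (k : ∀ x : U K, ⁅g, x⁆ ∈ sZ) : g ∈ sV :=
  have h1 := cA fun x => sZ_le_sV (k x)
  ⟨h1.1, h1.2.1, by simpa [three_ne] using (br_A (y6 1) h1).2.symm.trans (br_symm (k _)).2.2.2.1, h1.2.2⟩

theorem cZ (k : ∀ x : U K, ⁅g, x⁆ ∈ (⊥ : Subgroup (U K))) : g ∈ sZ :=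
  have h1 := cV fun x => bot_le (a := sZ) (k x)
  ⟨h1.1, h1.2.1, h1.2.2.1, by simpa [br_V _ h1] using congrArg U.v (mem_bot.1 (br_symm (k (y1 1)))), h1.2.2.2⟩

theorem exists_crd {Ω : Type*} [Group Ω] {Y : Subgroup Ω} {f : Ω → Ω} (hf : IsHomOn Y f) (iY : ∀ y ∈ Y, f y ∈ Y) (κ : Ω → K)
    (hκ : ∀ x ∈ Y, ∀ y ∈ Y, κ (x * y) = κ x + κ y) (s : ∀ a, ∃ y ∈ Y, κ y = a) (iX : ∀ y ∈ Y, κ (f y) = 0 ↔ κ y = 0) :
    ∃ φ : K ≃+ K, ∀ y ∈ Y, κ (f y) = φ (κ y) := by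
  choose s s1 s2 using s
  have key : ∀ y ∈ Y, κ (f y) = κ (f (s (κ y))) := fun y hy => by
    have h1 := mul_mem (inv_mem (s1 (κ y))) hy
    have e := hκ _ (s1 (κ y)) _ h1
    rw [mul_inv_cancel_left, s2, left_eq_add] at e
    conv_lhs => rw [← mul_inv_cancel_left (s (κ y)) y, hf (s1 _) h1, hκ _ (iY _ (s1 _)) _ (iY _ h1), (iX _ h1).2 e, add_zero]
  let φ : K →+ K := AddMonoidHom.mk' (fun a => κ (f (s a))) fun a b => by
    have := key _ (mul_mem (s1 a) (s1 b))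
    rw [hκ _ (s1 a) _ (s1 b), s2, s2, hf (s1 a) (s1 b), hκ _ (iY _ (s1 a)) _ (iY _ (s1 b))] at this
    exact this.symm
  exact ⟨AddEquiv.ofBijective φ (Finite.injective_iff_bijective.1 ((injective_iff_map_eq_zero φ).2 fun a ha =>
    (s2 a).symm.trans ((iX _ (s1 a)).1 ha))), key⟩

theorem pow_fix {G : Type*} [Group G] [Finite G] (hG : IsPGroup p G) {α : MulAut G} {B C : Subgroup G}
    (hB : ∀ y ∈ B, α y ∈ B) (h : ∀ y ∈ C, α y * y⁻¹ ∈ B) (h' : ∃ n : ℕ, ∀ y ∈ B, (α ^ p ^ n) y = y) :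
    ∃ n : ℕ, ∀ y ∈ C, (α ^ p ^ n) y = y := by
  obtain ⟨n, hn⟩ := h'
  obtain ⟨m, hm⟩ := hG.exists_card_eq
  refine ⟨n + m, fun y hy => ?_⟩
  have h1 : ∀ k : ℕ, (α ^ k) y * y⁻¹ ∈ B := fun k => by
    induction k with
    | zero => simp
    | succ k ih => simpa [pow_succ', mul_assoc] using mul_mem (hB _ ih) (h y hy)
  have h2 : ∀ k : ℕ, ((α ^ p ^ n) ^ k) y = ((α ^ p ^ n) y * y⁻¹) ^ k * y := fun k => by
    induction k with
    | zero => simp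
    | succ k ih => rw [pow_succ', MulAut.mul_apply, ih, map_mul, hn _ (pow_mem (h1 _) k), pow_succ, mul_assoc,
        inv_mul_cancel_right]
  rw [pow_add, pow_mul, h2, ← hm, pow_card_eq_one', one_mul]

end Aut5
open Aut5

/-- Upper central series as in D3/Aut (`2 s t`, `3 r t` nondegenerate): `Z = Z(S)`, `V = {y | [y, S] ≤ Z}`, `A₀ = {y | [y, S] ≤ V}`, `R₀ = {y | [y, S] ≤ A₀}`, `Q = {g | [g, A₀] ≤ Z}`, `Q' = C(V)`. -/
theorem map_mem (α : MulAut (U K)) (g : U K) : (α g ∈ sZ ↔ g ∈ sZ) ∧ (α g ∈ sV ↔ g ∈ sV) ∧ (α g ∈ sA ↔ g ∈ sA) ∧ (α g ∈ sR ↔ g ∈ sR) ∧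
    (α g ∈ Q ↔ g ∈ Q) ∧ (α g ∈ Q' ↔ g ∈ Q') := by
  have h0 : ∀ g, α g ∈ (⊥ : Subgroup (U K)) ↔ g ∈ (⊥ : Subgroup (U K)) := by simp
  have h1 : ∀ g, α g ∈ (⊤ : Subgroup (U K)) ↔ g ∈ (⊤ : Subgroup (U K)) := by simp
  have hZ := key α (C := sZ) h0 h1 fun g => ⟨fun k x _ => mem_bot.2 (commutatorElement_eq_one_iff_mul_comm.2 (comm_Z x k).symm),
    fun k => cZ fun x => k x trivial⟩
  have hV := key α (C := sV) hZ h1 fun g => ⟨fun k x _ => br_symm (br_V' x k), fun k => cV fun x => k x trivial⟩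
  have hA := key α (C := sA) hV h1 fun g => ⟨fun k x _ => br_symm (br_A x k).1, fun k => cA fun x => k x trivial⟩
  exact ⟨hZ g, hV g, hA g, key α hA h1 (fun g => ⟨fun k x _ => br_symm (br_R x k).1, fun k => cR fun x => k x trivial⟩) g,
    key α hZ hA (fun g => ⟨fun k x hx => br_Q k (sR_le_Q (sA_le_sR hx)) ▸ ⟨rfl, rfl, rfl, rfl, rfl⟩, fun k => by
      simpa [three_ne, mem_Q] using (br_A g (h := y4 1) ⟨rfl, rfl, rfl⟩).2.symm.trans (k _ ⟨rfl, rfl, rfl⟩).2.2.2.1⟩) g,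
    key α h0 hV (fun g => ⟨fun k x hx => mem_bot.2 (commutatorElement_eq_one_iff_mul_comm.2 (comm_V k hx)), fun k => by
      have h5 : (y5 1 : U K) ∈ sV := ⟨rfl, rfl, rfl, rfl⟩
      simpa [br_V _ h5, mem_Q'] using congrArg U.v (mem_bot.1 (k _ h5))⟩) g⟩

namespace Aut5

variable (α : MulAut (U K)) {g h : U K}

theorem mZ (k : g ∈ sZ) : α g ∈ sZ := (map_mem α g).1.2 k
theorem mV (k : g ∈ sV) : α g ∈ sV := (map_mem α g).2.1.2 k
theorem mA (k : g ∈ sA) : α g ∈ sA := (map_mem α g).2.2.1.2 k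
theorem mR (k : g ∈ sR) : α g ∈ sR := (map_mem α g).2.2.2.1.2 k
theorem mQ (k : g ∈ Q) : α g ∈ Q := (map_mem α g).2.2.2.2.1.2 k
theorem mQ' (k : g ∈ Q') : α g ∈ Q' := (map_mem α g).2.2.2.2.2.2 k

theorem dZ (k : g * h⁻¹ ∈ sZ) : (α g).w = (α h).w := (div_mem_sZ.1 (by simpa using mZ α k)).2.2.2.1
theorem dV (k : g * h⁻¹ ∈ sV) : (α g).r = (α h).r := (div_mem_sV.1 (by simpa using mV α k)).2.2.1
theorem dA (k : g * h⁻¹ ∈ sA) : (α g).s = (α h).s := (div_mem_sA.1 (by simpa using mA α k)).2.1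
theorem dQ' (k : g * h⁻¹ ∈ Q') : (α g).u = (α h).u := div_mem_Q'.1 (by simpa using mQ' α k)

theorem eq_Z (hg : g ∈ sV) (hh : h ∈ sV) (e : g.w = h.w) : g * h⁻¹ ∈ sZ :=
  div_mem_sZ.2 ⟨hg.1.trans hh.1.symm, hg.2.1.trans hh.2.1.symm, hg.2.2.1.trans hh.2.2.1.symm, e, hg.2.2.2.trans hh.2.2.2.symm⟩

theorem eq_V (hg : g ∈ sA) (hh : h ∈ sA) (e : g.r = h.r) : g * h⁻¹ ∈ sV :=
  div_mem_sV.2 ⟨hg.1.trans hh.1.symm, hg.2.1.trans hh.2.1.symm, e, hg.2.2.trans hh.2.2.symm⟩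

theorem dQ (k : g * h⁻¹ ∈ Q) : (α g).t = (α h).t := div_mem_Q.1 (by simpa using mQ α k)

/-- the automorphisms fixing the coordinates `u` and `t` -/
def K0 (K : Type*) [Field K] : Subgroup (MulAut (U K)) where
  carrier := {α | ∀ g, (α g).u = g.u ∧ (α g).t = g.t}
  one_mem' _ := ⟨rfl, rfl⟩
  mul_mem' {a b} ha hb g := ⟨(ha _).1.trans (hb g).1, (ha _).2.trans (hb g).2⟩
  inv_mem' {a} ha g := by simpa [eq_comm] using ha (a⁻¹ g)

end Aut5

/-- commutators `br_s`, `br_r`, `br_w`, `br_V` (D3/Aut `sm`) -/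
theorem sm_of {α β : MulAut (U K)} (e : ∀ g, (α g).u = (β g).u ∧ (α g).t = (β g).t) : Sm α β := by
  have es : ∀ g ∈ sR, (α g).s = (β g).s := fun g hg => by
    have k : g * ⁅(y6 g.s : U K), y1 1⁆⁻¹ ∈ sA := div_mem_sA.2 ⟨by rw [hg.1, br_u], by simp [br_s], by rw [hg.2, br_t]⟩
    rw [dA α k, dA β k, map_commutatorElement, map_commutatorElement]
    simp only [br_s, e]
  have er : ∀ g ∈ sA, (α g).r = (β g).r := fun g hg => by
    have k1 : (y2 (g.r / 2) : U K) ∈ sR := ⟨rfl, rfl⟩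
    have k2 := eq_V hg (br_R (y6 1) k1).1 (by rw [(br_R (y6 1) k1).2]; simp [mul_div_cancel₀ _ (two_ne (K := K))])
    rw [dV α k2, dV β k2, map_commutatorElement, map_commutatorElement, (br_R _ (mR α k1)).2, (br_R _ (mR β k1)).2, es _ k1,
      (e _).2]
  have ew : ∀ g ∈ sV, (α g).w = (β g).w := fun g hg => by
    have k1 : (y4 (g.w / 3) : U K) ∈ sA := ⟨rfl, rfl, rfl⟩
    have k := eq_Z hg (br_A (y6 1) k1).1 (by rw [(br_A (y6 1) k1).2]; simp [mul_div_cancel₀ _ (three_ne (K := K))])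
    rw [dZ α k, dZ β k, map_commutatorElement, map_commutatorElement, (br_A _ (mA α k1)).2, (br_A _ (mA β k1)).2,
      er _ k1, (e _).2]
  refine fun g => ⟨(e g).1, (e g).2, es g, er g, ew g, fun hg => ?_⟩
  have k : (y5 g.v : U K) ∈ sV := ⟨rfl, rfl, rfl, rfl⟩
  rw [show g = ⁅(y1 1 : U K), y5 g.v⁆ by rw [br_V _ k]; gms at hg; gus; simp [hg], map_commutatorElement,
    map_commutatorElement, br_V _ (mV α k), br_V _ (mV β k), y3_v, y3_v, ew _ k, (e _).1]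

/-- `(α g).u = φ g.u`, `(α g).t = δ g.t`, `(α g).s = ψ g.s` on `R₀` with additive bijections and `ψ (u t) = φ u * δ t` (`br_s`); `a = φ 1`, `d = δ 1`, `ρ x = ψ x / (a d) = φ x / a = δ x / d` is multiplicative; `sm_of`. -/
theorem aut_form (α : MulAut (U K)) : ∃ a d ρ h, Sm α (dd (K := K) a d ρ h) := by
  have hm : IsHomOn ⊤ α := fun x _ y _ => map_mul α x y
  obtain ⟨δ, eδ⟩ := exists_crd hm (fun _ _ => trivial) U.t (fun _ _ _ _ => rfl)
    (fun a => ⟨y6 a, trivial, rfl⟩) fun y _ => (map_mem α y).2.2.2.2.1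
  obtain ⟨φ, eφ⟩ := exists_crd hm (fun _ _ => trivial) U.u (fun _ _ _ _ => rfl)
    (fun a => ⟨y1 a, trivial, rfl⟩) fun y _ => (map_mem α y).2.2.2.2.2
  obtain ⟨ψ, eψ⟩ := exists_crd (hm.mono le_top) (fun y => mR α) U.s (fun x hx y hy => by simp [U.mul_s, hy.1])
    (fun a => ⟨y2 a, ⟨rfl, rfl⟩, rfl⟩) fun y hy => by
      simpa [mem_sA, hy.1, hy.2, (mR α hy).1, (mR α hy).2] using (map_mem α y).2.2.1
  have e1 : ∀ c t, ψ (c * t) = φ c * δ t := fun c t => by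
    have := eψ ⁅y6 t, y1 c⁆ ⟨br_u .., br_t ..⟩
    rw [map_commutatorElement] at this
    simpa [br_s, eδ _ trivial, eφ _ trivial] using this.symm
  have a0 : φ 1 ≠ 0 := by simp
  have d0 : δ 1 ≠ 0 := by simp
  have e2 : ∀ c, ψ c = φ c * δ 1 := fun c => by rw [← e1, mul_one]
  have e3 : ∀ c, ψ c = φ 1 * δ c := fun c => by rw [← e1, one_mul]
  let ρ0 : K →+* K :=
    { toFun := fun x => φ x / φ 1
      map_one' := div_self a0
      map_mul' := fun x y => by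
        have h1 := e1 x y
        have h2 := e2 y
        rw [e2] at h1
        rw [e3] at h2
        field_simp
        refine mul_right_cancel₀ d0 ?_
        linear_combination φ 1 * h1 + φ x * h2
      map_zero' := by simp
      map_add' := fun x y => by rw [map_add, add_div] }
  let ρ : RingAut K := RingEquiv.ofBijective ρ0 (Finite.injective_iff_bijective.1 ρ0.injective)
  have hρ : ∀ x, ρ x = φ x / φ 1 := fun _ => rfl
  refine ⟨φ 1, δ 1, ρ, ⟨a0, d0⟩, sm_of fun g => ⟨?_, ?_⟩⟩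
  · rw [dd_u, hρ, eφ _ trivial, mul_div_cancel₀ _ a0]
  · rw [dd_t, hρ, eδ _ trivial]
    have := (e2 g.t).symm.trans (e3 g.t)
    field_simp
    linear_combination -this

namespace Aut5
open scoped Pointwise

theorem isPGroup_K0 : IsPGroup p (K0 K) := by
  rintro ⟨α, hα⟩
  have s : Sm α (1 : MulAut (U K)) := sm_of hα
  simp only [Sm, MulAut.one_apply] at s
  have q := isPGroup_U (K := K) p
  have s1 := pow_fix q (fun y => mZ α) (C := sV) (fun y hy => eq_Z (mV α hy) hy ((s y).2.2.2.2.1 hy)) ⟨0, fun y hy => by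
    have k := mZ α hy
    have := (s y).2.2.2.2.2 hy
    rw [pow_zero, pow_one]; gms at k hy; gcs; simp only [k, hy, this, and_self]⟩
  have s2 := pow_fix q (fun y => mV α) (C := sA) (fun y hy => eq_V (mA α hy) hy ((s y).2.2.2.1 hy)) s1
  have s3 := pow_fix q (fun y => mA α) (C := sR) (fun y hy => div_mem_sA.2 ⟨(s y).1, (s y).2.2.1 hy, (s y).2.1⟩) s2
  obtain ⟨n, hn⟩ := pow_fix q (fun y => mR α) (C := ⊤) (fun y _ => div_mem_sR.2 (hα y)) s3
  exact ⟨n, Subtype.ext (MulEquiv.ext fun y => hn y trivial)⟩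

theorem K0_normal : (K0 K).Normal := by
  refine ⟨fun α hα β g => ?_⟩
  obtain ⟨x, rfl⟩ := β.surjective g
  rw [MulAut.mul_apply, MulAut.mul_apply, MulAut.inv_apply_self]
  exact ⟨dQ' β (div_mem_Q'.2 (hα x).1), div_mem_Q.1 (by simpa using mQ β (div_mem_Q.2 (hα x).2))⟩

/-- As `CL.RF4.exists_std`: Schur–Zassenhaus complement `H` to `Inn` in `Aut_F(S)`, `coprime_le_conj H K0 D0`. -/
theorem std_of_form (hF : F.IsSaturated p)
    (h : ∀ f, Mor F ⊤ f → ∃ a d ρ, Ok a d ∧ ∀ g, (f g).u = a * (ρ : RingAut K) g.u ∧ (f g).t = d * ρ g.t) :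
    ∃ k ∈ K0 K, ∃ F' : FusionSystem (⊤ : Subgroup (U K)), Corr k k.symm F F' ∧ Std F' := by
  have hS := sylIn_inn_top isPGroup_top hF
  have hN : ((Inn (⊤ : Subgroup (U K))).subgroupOf (F.autGroup ⊤)).Normal := inferInstance
  have h2 : (Nat.card ((Inn (⊤ : Subgroup (U K))).subgroupOf (F.autGroup ⊤))).Coprime
      ((Inn (⊤ : Subgroup (U K))).subgroupOf (F.autGroup ⊤)).index := by
    obtain ⟨n, hn⟩ := ((isPGroup_subgroupOf_iff hS.le).2 hS.isPGroup).exists_card_eq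
    rw [hn]
    exact ((Nat.Prime.coprime_iff_not_dvd Fact.out).2 hS.not_dvd_relIndex).pow_left _
  obtain ⟨H, hH⟩ := exists_right_complement'_of_coprime h2
  let c : F.autGroup ⊤ →* MulAut (U K) := (MulAut.congr topEquiv).toMonoidHom.comp (Subgroup.subtype _)
  have hc : ∀ (γ : F.autGroup ⊤) g, c γ g = autFun γ.1 g := fun γ g => (autFun_of_mem γ.1 (mem_top g)).symm
  have := K0_normal (K := K)
  have hK := isPGroup_K0 (K := K) (p := p)
  obtain ⟨k, hk0, hk⟩ := coprime_le_conj (H.map c) (K0 K) (D0 K) le_normalizer_of_normal (by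
    obtain ⟨n, hn⟩ := hK.exists_card_eq
    rw [hn]
    exact (((Nat.Prime.coprime_iff_not_dvd Fact.out).2 fun k => hS.not_dvd_relIndex
      ((k.trans (card_map_dvd H c)).trans hH.symm.index_eq_card.symm.dvd)).pow_left _).symm)
    (Or.inr (have := hK.isNilpotent; inferInstance)) (by
      rintro _ ⟨γ, -, rfl⟩
      obtain ⟨a, d, ρ, ok, e⟩ := h _ (mor_autFun le_rfl γ.2)
      refine ⟨c γ * (dd a d ρ ok)⁻¹, fun g => ?_, _, ⟨a, d, ρ, ok, rfl⟩, by simp⟩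
      obtain ⟨x, rfl⟩ := (dd a d ρ ok).surjective g
      rw [MulAut.mul_apply, MulAut.inv_apply_self, hc]
      exact e x)
  obtain ⟨F', hF'⟩ := (isoOn_top k⁻¹).exists_corr F
  refine ⟨_, inv_mem hk0, F', hF', fun f hf => ?_⟩
  have h1 := hF'.mor' hf
  rw [hF'.iso.symm.img_eq] at h1
  obtain ⟨γ, hγ, e⟩ := h1.exists_aut h1.img_top
  obtain ⟨⟨n, h⟩, e'⟩ := (hH.existsUnique ⟨γ, hγ⟩).exists
  obtain ⟨u, -, hu⟩ := mem_inn_iff.1 n.2
  obtain ⟨_, ⟨a, d, ρ, ok, rfl⟩, e2⟩ := (mem_smul_pointwise_iff_exists ..).1 (hk (mem_map_of_mem c h.2))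
  refine ⟨k⁻¹ u, a, d, ρ, ok, fun g => ?_⟩
  have e3 := e (x := k g) trivial
  rw [show γ = n.1.1 * h.1.1 from (congrArg Subtype.val e').symm, autFun_mul _ _ (mem_top _), ← hc h.1, ← e2,
    show autFun n.1.1 _ = _ from hu (mem_top _)] at e3
  apply k.injective
  simpa [cj, eq_comm] using e3

end Aut5

/-- D3/Std: `K0`, `isPGroup_K0`, `K0_normal`, `std_of_form` -/
theorem exists_std (hF : F.IsSaturated p) :
    ∃ (β : MulAut (U K)) (F' : FusionSystem (⊤ : Subgroup (U K))), Corr β β.symm F F' ∧ Std F' :=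
  let ⟨k, _, h⟩ := std_of_form hF fun f hf => by
    obtain ⟨α, hα⟩ := exists_aut_top hf
    obtain ⟨a, d, ρ, h, e⟩ := aut_form α
    exact ⟨a, d, ρ, h, fun g => hα g ▸ ⟨(e g).1, (e g).2.1⟩⟩
  ⟨k, h⟩

/-- `Corr.isEssential_iff`, `map_mem` (see D3/Main) -/
theorem ess_corr {β : MulAut (U K)} (h : Corr β β.symm F F') : (F.IsEssential p Q → F'.IsEssential p Q) ∧ (F.IsEssential p Q' → F'.IsEssential p Q') := by
  have e : ∀ P : Subgroup (U K), (∀ x, β x ∈ P ↔ x ∈ P) → F.IsEssential p P → F'.IsEssential p P := fun P k hP => by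
    have := (h.isEssential_iff le_top).2 hP
    rwa [show img β P = P from le_antisymm (img_le_iff.2 fun x hx => (k x).2 hx) fun x hx => by
      simpa using mem_img_of_mem (f := β) (show β.symm x ∈ P from (k _).1 (by simpa using hx))] at this
  exact ⟨e _ fun x => (map_mem β x).2.2.2.2.1, e _ fun x => (map_mem β x).2.2.2.2.2⟩

/-- `V = Z(Q')` (test against `y4 r`, then `y2 s`), `A₀ = {g | ⁅g, Q'⁆ ≤ V}` (`br_r`); D3/QP -/
theorem ivQ' (hA : Au Q' A) : Ivs Q' A sV ∧ Ivs Q' A sA := by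
  have iV : Ivs Q' A (sV (K := K)) := hA.iv_Zn.congr (fun y hy => ⟨fun e => by
      have y4A : (y4 1 : U K) ∈ sA := ⟨rfl, rfl, rfl⟩
      have k := (br_Q'A hy y4A).symm.trans (commutatorElement_eq_one_iff_mul_comm.2 (e.2 _ rfl))
      have ys : y.s = 0 := by simpa [three_ne] using congrArg U.v k
      have yt : y.t = 0 := by simpa [three_ne] using congrArg U.w k
      have k2 := (br_Q'A (show (y2 1 : U K) ∈ Q' from rfl) (show y ∈ sA from ⟨hy, ys, yt⟩)).symm.trans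
        (commutatorElement_eq_one_iff_mul_comm.2 (e.2 _ rfl).symm)
      exact ⟨hy, ys, by simpa [three_ne] using congrArg U.v k2, yt⟩,
    fun e => ⟨hy, fun x hx => (comm_V hx e).symm⟩⟩) hA
  exact ⟨iV, (hA.iv_comm hA.iv_self iV).congr (fun y hy => ⟨fun e => ⟨hy, by
      simpa [br_r, mem_Q'.1 hy, two_ne] using (e (y6 1) rfl rfl).2.2.1, by
      simpa [br_r, two_ne] using (e (y2 1) rfl rfl).2.2.1⟩, fun e x _ _ => br_symm (br_A x e).1⟩) hA⟩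

end CL.G2F
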