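/-
S5211: the group `X` on `W` for `q ≥ 11`.
-/
import Cfsg.Agent.FUS.G2.P5

set_option autoImplicit false
set_option linter.unusedSimpArgs false
set_option linter.unusedSectionVars false

namespace CL.G2F

open CL.Fus CL.RF4 CL.D3 Subgroup Cfsg Cfsg.FusionSystem
open scoped commutatorElement

variable {K : Type*} [Field K] [Finite K] [P5 K] {p : ℕ} [Fact p.Prime] [CharP K p] {F F' : FusionSystem (⊤ : Subgroup (U K))}

variable {X : Subgroup (MulAut (W K))}

namespace LinA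

theorem bW_sm (c : K) (a b : W K) : bW (sm c a) b = c * bW a b := by simp only [bW, sm_u, sm_s, sm_r, sm_w]; ring
theorem bW_sm' (c : K) (a b : W K) : bW a (sm c b) = c * bW a b := by simp only [bW, sm_u, sm_s, sm_r, sm_w]; ring
theorem bW_14 : bW (e1 : W K) e4 = 1 := by simp [bW]
theorem eq_of_bW {a b : W K} (h : ∀ z, bW a z = bW b z) : a = b :=
  mul_inv_eq_one.1 (bW_nondeg three_ne fun z => by
    have := h z
    simp only [bW, W.mul_u, W.mul_s, W.mul_r, W.mul_w, W.inv_u, W.inv_s, W.inv_r, W.inv_w] at this ⊢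
    linear_combination this)

end LinA
open LinA

/-- Proof (D3/LinA `semi`). `ζ` is additive and bijective, `ζ c = 0 ↔ c = 0`. For `c`, `μ = x ∘ sm c ∘ x⁻¹` is additive and `bW v w = 0 → bW (μ v) w = 0`, so `μ v ∈ K v` (nondegeneracy), so `μ = sm (ρ c)`; `ρ` is a ring homomorphism, bijective. -/
theorem QD.semi (h : QD p X) {x : MulAut (W K)} (hx : x ∈ X) : ∃ ρ : RingAut K, ∀ c v, x (sm c v) = sm (ρ c) (x v) := by
  obtain ⟨ζ, hζ⟩ := h.sim x hx
  let ρ : K → K := fun c => bW (x (sm c (x⁻¹ e1))) e4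
  have k1 : ∀ c k, ζ (c * bW (x⁻¹ e1) (x⁻¹ (sm k e4))) = k * ρ c := fun c k => by
    rw [← bW_sm, ← hζ, MulAut.apply_inv_self, bW_sm']
  have k2 : ∀ k, ζ (bW (x⁻¹ e1) (x⁻¹ (sm k e4))) = k := fun k => by
    rw [← hζ, MulAut.apply_inv_self, MulAut.apply_inv_self, bW_sm', bW_14, mul_one]
  have k3 : ∀ c y, ζ (c * y) = ρ c * ζ y := fun c y => by
    obtain ⟨k, rfl⟩ := Finite.injective_iff_surjective.1 (show Function.Injective fun k => bW (x⁻¹ e1) (x⁻¹ (sm k e4)) from
      fun k k' e => by rw [← k2 k, ← k2 k']; exact congrArg ζ e) y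
    rw [k1, k2, mul_comm]
  have k4 : ∀ c v, x (sm c v) = sm (ρ c) (x v) := fun c v => eq_of_bW fun z => by
    obtain ⟨z, rfl⟩ := x.surjective z
    rw [hζ, bW_sm, bW_sm, k3, hζ]
  have k5 : ∀ c, ρ c = (x (sm c (x⁻¹ e1))).u := fun c => by rw [k4, MulAut.apply_inv_self]; simp
  let ρ0 : K →+* K :=
    { toFun := ρ
      map_one' := by rw [k5, show ∀ v : W K, sm 1 v = v from fun v => by ext <;> simp, MulAut.apply_inv_self]; rfl
      map_mul' := fun a b => by
        rw [k5, show ∀ v : W K, sm (a * b) v = sm a (sm b v) from fun v => by ext <;> simp [mul_assoc], k4, sm_u, ← k5]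
      map_zero' := by rw [k5, show ∀ v : W K, sm 0 v = 1 from fun v => by ext <;> simp, map_one]; rfl
      map_add' := fun a b => by
        rw [k5, show ∀ v : W K, sm (a + b) v = sm a v * sm b v from fun v => by ext <;> simp [add_mul], map_mul, W.mul_u,
          ← k5, ← k5] }
  exact ⟨RingEquiv.ofBijective ρ0 (Finite.injective_iff_bijective.1 ρ0.injective), k4⟩

/-- the linear elements of `X` -/
def X1 (X : Subgroup (MulAut (W K))) : Subgroup (MulAut (W K)) where
  carrier := {x | x ∈ X ∧ ∀ c v, x (sm c v) = sm c (x v)}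
  one_mem' := ⟨one_mem _, fun _ _ => rfl⟩
  mul_mem' {a b} ha hb := ⟨mul_mem ha.1 hb.1, fun c v => by rw [MulAut.mul_apply, hb.2, ha.2]; rfl⟩
  inv_mem' {a} ha := ⟨inv_mem ha.1, fun c v => a.injective (by rw [ha.2, MulAut.apply_inv_self, MulAut.apply_inv_self])⟩

/-- the multiplier -/
def mu (x : MulAut (W K)) : K := bW (x e1) (x e4)

/-- `ζ c = ζ (bW (c e1) e4) = c * mu x` -/
theorem QD.bW_lin (h : QD p X) {x : MulAut (W K)} (hx : x ∈ X1 X) (a b : W K) : bW (x a) (x b) = mu x * bW a b := by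
  obtain ⟨ζ, hζ⟩ := h.sim x hx.1
  have := hζ (sm (bW a b) e1) e4
  rw [hx.2, bW_sm, bW_sm, bW_14, mul_one] at this
  rw [hζ, ← this, mu, mul_comm]

end CL.G2F
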