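/-
S5211: the polarised discriminant.
-/
import Cfsg.Agent.FUS.G2.P5

set_option autoImplicit false
set_option linter.unusedSimpArgs false
set_option linter.unusedSectionVars false

namespace CL.G2F

variable {K : Type*} [Field K]

/-- the symmetric 4-linear form with `Mq x x x x = 12 Δ x` -/
def Mq (a b c d : W K) : K :=
  2 * (a.u * b.u * c.w * d.w + a.u * b.w * c.u * d.w + a.u * b.w * c.w * d.u + a.w * b.u * c.u * d.w + a.w * b.u * c.w * d.u + a.w * b.w * c.u * d.u)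
    - 3 * (a.r * b.s * c.u * d.w + a.r * b.s * c.w * d.u + a.r * b.u * c.s * d.w + a.r * b.u * c.w * d.s + a.r * b.w * c.s * d.u + a.r * b.w * c.u * d.s + a.s * b.r * c.u * d.w + a.s * b.r * c.w * d.u + a.s * b.u * c.r * d.w + a.s * b.u * c.w * d.r + a.s * b.w * c.r * d.u + a.s * b.w * c.u * d.r + a.u * b.r * c.s * d.w + a.u * b.r * c.w * d.s + a.u * b.s * c.r * d.w + a.u * b.s * c.w * d.r + a.u * b.w * c.r * d.s + a.u * b.w * c.s * d.r + a.w * b.r * c.s * d.u + a.w * b.r * c.u * d.s + a.w * b.s * c.r * d.u + a.w * b.s * c.u * d.r + a.w * b.u * c.r * d.s + a.w * b.u * c.s * d.r)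
    + 12 * (a.r * b.r * c.r * d.u + a.r * b.r * c.u * d.r + a.r * b.u * c.r * d.r + a.u * b.r * c.r * d.r)
    + 12 * (a.s * b.s * c.s * d.w + a.s * b.s * c.w * d.s + a.s * b.w * c.s * d.s + a.w * b.s * c.s * d.s)
    - 6 * (a.r * b.r * c.s * d.s + a.r * b.s * c.r * d.s + a.r * b.s * c.s * d.r + a.s * b.r * c.r * d.s + a.s * b.r * c.s * d.r + a.s * b.s * c.r * d.r)

theorem Mq_diag (x : W K) : Mq x x x x = 12 * Δ x := by simp only [Mq, Δ]; ring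

theorem Mq_tt (t : K) (a b c d : W K) : Mq (tt t a) (tt t b) (tt t c) (tt t d) = Mq a b c d := by
  simp only [Mq, tt_u, tt_s, tt_r, tt_w]; ring

theorem Mq_aW (a b c d : W K) : Mq (aW a) (aW b) (aW c) (aW d) = Mq a b c d := by
  simp only [Mq, aW_u, aW_s, aW_r, aW_w]; ring

theorem Mq_dW {x y : K} (h : Ok x y) (a b c d : W K) :
    Mq (dW x y 1 h a) (dW x y 1 h b) (dW x y 1 h c) (dW x y 1 h d) = (x ^ 2 * y ^ 3) ^ 2 * Mq a b c d := by
  simp only [Mq, dW_u, dW_s, dW_r, dW_w, RingAut.one_apply]; ring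

theorem Mq_444 (w w' w'' : K) (d : W K) : Mq ⟨0, 0, 0, w⟩ ⟨0, 0, 0, w'⟩ ⟨0, 0, 0, w''⟩ d = 0 := by simp [Mq]

/-- the gradient of `Δ` -/
theorem Mq_3 (x d : W K) : Mq x x x d = 3 * ((2 * x.u * x.w ^ 2 - 6 * x.s * x.r * x.w + 4 * x.r ^ 3) * d.u +
    (-6 * x.u * x.r * x.w + 12 * x.s ^ 2 * x.w - 6 * x.s * x.r ^ 2) * d.s + (-6 * x.u * x.s * x.w + 12 * x.u * x.r ^ 2 - 6 * x.s ^ 2 * x.r) * d.r +
    (2 * x.u ^ 2 * x.w - 6 * x.u * x.s * x.r + 4 * x.s ^ 3) * d.w) := by simp only [Mq]; ring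

end CL.G2F
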