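/-
S5211: for `q ≥ 11` the linear part of `X` preserves the discriminant. Sum the conjugates of `Mq` over the points; `T` acts freely on the points other than `V`.
-/
import Cfsg.Agent.FUS.G2.LinA
import Cfsg.Agent.FUS.G2.Mq

set_option autoImplicit false
set_option linter.unusedSimpArgs false
set_option linter.unusedSectionVars false

namespace CL.G2F

open CL.Fus CL.RF4 CL.D3 Subgroup Cfsg Cfsg.FusionSystem
open scoped commutatorElement

variable {K : Type*} [Field K] [Finite K] [P5 K] {p : ℕ} [Fact p.Prime] [CharP K p] {F F' : FusionSystem (⊤ : Subgroup (U K))}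
  {X : Subgroup (MulAut (W K))}

namespace LB

theorem sum_free {Γ α R : Type*} [Group Γ] [Fintype Γ] [MulAction Γ α] [Fintype α] [AddCommMonoid R] (g : α → R)
    (h : ∀ a, (∀ γ : Γ, g (γ • a) = 0) ∨ ((∀ γ : Γ, γ • a = a → γ = 1) ∧ ∑ γ : Γ, g (γ • a) = 0)) : ∑ a, g a = 0 := by
  classical
  rw [← Finset.sum_fiberwise (s := Finset.univ) (g := fun a => (Quotient.mk _ a : MulAction.orbitRel.Quotient Γ α))]
  refine Finset.sum_eq_zero fun q _ => ?_
  obtain ⟨a, rfl⟩ := Quotient.exists_rep q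
  have k : ∀ b, b ∈ Finset.univ.filter (fun b => (Quotient.mk _ b : MulAction.orbitRel.Quotient Γ α) = Quotient.mk _ a) ↔ ∃ γ : Γ, γ • a = b :=
    fun b => by rw [Finset.mem_filter, Quotient.eq]; exact and_iff_right (Finset.mem_univ _)
  rcases h a with h | ⟨h1, h2⟩
  · exact Finset.sum_eq_zero fun b hb => let ⟨γ, e⟩ := (k b).1 hb; e ▸ h γ
  rw [← h2]
  exact (Finset.sum_nbij (fun γ : Γ => γ • a) (fun γ _ => (k _).2 ⟨γ, rfl⟩) (fun γ _ γ' _ e => by
    have := h1 (γ'⁻¹ * γ) (by rw [mul_smul, show γ • a = γ' • a from e, inv_smul_smul])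
    exact (inv_mul_eq_one.1 this).symm) (fun b hb => let ⟨γ, e⟩ := (k b).1 hb; ⟨γ, Finset.mem_univ _, e⟩) fun _ _ => rfl).symm

open Polynomial in
/-- polynomial functions of degree at most `n` -/
def Dg (n : ℕ) (f : K → K) : Prop := ∃ P : K[X], P.natDegree ≤ n ∧ ∀ t, f t = P.eval t

section
open Polynomial
variable {n m : ℕ} {f g : K → K}

theorem Dg.add (h : Dg n f) (h' : Dg n g) : Dg n fun t => f t + g t :=
  let ⟨P, a, b⟩ := h; let ⟨Q, c, d⟩ := h'
  ⟨P + Q, natDegree_add_le_of_degree_le a c, fun t => by simp only [eval_add, b, d]⟩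

theorem Dg.mul (h : Dg n f) (h' : Dg m g) : Dg (n + m) fun t => f t * g t :=
  let ⟨P, a, b⟩ := h; let ⟨Q, c, d⟩ := h'
  ⟨P * Q, natDegree_mul_le_of_le a c, fun t => by simp only [eval_mul, b, d]⟩

theorem Dg.const (c : K) : Dg n fun _ => c := ⟨C c, by simp, fun _ => by simp⟩

theorem Dg.congr (h : Dg n f) (e : ∀ t, g t = f t) : Dg n g := let ⟨P, a, b⟩ := h; ⟨P, a, fun t => (e t).trans (b t)⟩

theorem Dg.cmul (c : K) (h : Dg n f) : Dg n fun t => c * f t := by simpa using (Dg.const (n := 0) c).mul h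

theorem Dg.sub (h : Dg n f) (h' : Dg n g) : Dg n fun t => f t - g t := (h.add (h'.cmul (-1))).congr fun t => by ring

theorem Dg.mon (c : K) (h : m ≤ n) : Dg n fun t => c * t ^ m := ⟨C c * X ^ m, (natDegree_C_mul_X_pow_le c m).trans h, fun _ => by simp⟩

theorem Dg.sum [Fintype K] (h : Dg n f) (hn : n < Nat.card K - 1) : ∑ t, f t = 0 := by
  obtain ⟨P, a, b⟩ := h
  simp only [b, eval_eq_sum_range' (Nat.lt_succ_of_le a)]
  rw [Finset.sum_comm]
  refine Finset.sum_eq_zero fun i hi => ?_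
  rw [← Finset.mul_sum, FiniteField.sum_pow_lt_card_sub_one K i (by
    rw [← Nat.card_eq_fintype_card]; have := Finset.mem_range.1 hi; omega), mul_zero]

end

/-- all coordinates -/
def DgW (n : ℕ) (f : K → W K) : Prop := Dg n (fun t => (f t).u) ∧ Dg n (fun t => (f t).s) ∧ Dg n (fun t => (f t).r) ∧ Dg n fun t => (f t).w

theorem dg_Mq {a b c d : K → W K} {i j k l : ℕ} (ha : DgW i a) (hb : DgW j b) (hc : DgW k c) (hd : DgW l d) :
    Dg (i + j + k + l) fun t => Mq (a t) (b t) (c t) (d t) := by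
  obtain ⟨_, _, _, _⟩ := ha; obtain ⟨_, _, _, _⟩ := hb; obtain ⟨_, _, _, _⟩ := hc; obtain ⟨_, _, _, _⟩ := hd
  simp only [Mq]
  refine (((Dg.sub (.cmul _ ?_) (.cmul _ ?_)).add (.cmul _ ?_)).add (.cmul _ ?_)).sub (.cmul _ ?_)
  all_goals repeat' apply Dg.add
  all_goals refine ((Dg.mul ?_ ?_).mul ?_).mul ?_ <;> assumption

/-- the basis -/
def bb : Fin 4 → W K := ![e1, e2 1, e3 1, e4]

theorem eq_bb (a : W K) : a = sm a.u (bb 0) * sm a.s (bb 1) * sm a.r (bb 2) * sm a.w (bb 3) := by ext <;> simp [bb]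

theorem dg_lin {n : ℕ} {f : K → W K} (h : DgW n f) {y : MulAut (W K)} (hy : ∀ c v, y (sm c v) = sm c (y v)) : DgW n fun t => y (f t) := by
  obtain ⟨h1, h2, h3, h4⟩ := h
  have k : ∀ (c : W K → K), (∀ a b, c (a * b) = c a + c b) → (∀ x a, c (sm x a) = x * c a) → Dg n fun t => c (y (f t)) := fun c e1 e2 =>
    ((((h1.cmul (c (y (bb 0)))).add (h2.cmul (c (y (bb 1))))).add (h3.cmul (c (y (bb 2))))).add (h4.cmul (c (y (bb 3))))).congr fun t => by
      conv_lhs => rw [eq_bb (f t)]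
      simp only [map_mul, hy, e1, e2]; ring
  exact ⟨k W.u (fun _ _ => rfl) fun _ _ => rfl, k W.s (fun _ _ => rfl) fun _ _ => rfl, k W.r (fun _ _ => rfl) fun _ _ => rfl,
    k W.w (fun _ _ => rfl) fun _ _ => rfl⟩

theorem dg_tt (i : Fin 4) : DgW (3 - i) fun t : K => tt (-t) (bb i) := by
  have z : ∀ n, Dg n fun _ : K => (0 : K) := fun _ => .const 0
  fin_cases i
  · exact ⟨(Dg.const 1).congr fun t => by simp [bb], (Dg.mon (m := 1) (-1) (by simp)).congr fun t => by simp [bb],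
      (Dg.mon (m := 2) 1 (by simp)).congr fun t => by simp [bb], (Dg.mon (m := 3) (-1) (by simp)).congr fun t => by simp [bb]; ring⟩
  · exact ⟨(z _).congr fun t => by simp [bb], (Dg.const 1).congr fun t => by simp [bb],
      (Dg.mon (m := 1) (-2) (by simp)).congr fun t => by simp [bb], (Dg.mon (m := 2) 3 (by simp)).congr fun t => by simp [bb]⟩
  · exact ⟨(z _).congr fun t => by simp [bb], (z _).congr fun t => by simp [bb], (Dg.const 1).congr fun t => by simp [bb],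
      (Dg.mon (m := 1) (-3) (by simp)).congr fun t => by simp [bb]⟩
  · exact ⟨(z _).congr fun t => by simp [bb], (z _).congr fun t => by simp [bb], (z _).congr fun t => by simp [bb],
      (Dg.const 1).congr fun t => by simp [bb]⟩

theorem Mq_cyc (a b c d : W K) : Mq a b c d = Mq b c d a := by simp only [Mq]; ring
theorem Mq_mul (a a' b c d : W K) : Mq (a * a') b c d = Mq a b c d + Mq a' b c d := by
  simp only [Mq, W.mul_u, W.mul_s, W.mul_r, W.mul_w]; ring
theorem Mq_sm (x y z w : K) (a b c d : W K) : Mq (sm x a) (sm y b) (sm z c) (sm w d) = x * y * z * w * Mq a b c d := by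
  simp only [Mq, sm_u, sm_s, sm_r, sm_w]; ring
theorem sm_one (a : W K) : sm 1 a = a := by ext <;> simp

theorem mem_VW' {v : W K} (h : v ∈ VW) : v = sm v.w e4 := by obtain ⟨h1, h2, h3⟩ := h; ext <;> simp [*]
theorem sm_VW (c : K) {v : W K} (h : v ∈ VW) : sm c v ∈ VW := by obtain ⟨h1, h2, h3⟩ := h; refine ⟨?_, ?_, ?_⟩ <;> simp [*]

theorem stab {x : MulAut (W K)} (hx : x ∈ X1 X) (h : x e4 ∈ VW) : ∀ v ∈ VW, x v ∈ VW := fun v hv => by
  rw [mem_VW' hv, hx.2]; exact sm_VW _ h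

/-- the stabiliser of the point `V` -/
def B1 (X : Subgroup (MulAut (W K))) : Subgroup (X1 X) where
  carrier := {x | x.1 e4 ∈ VW}
  one_mem' := ⟨rfl, rfl, rfl⟩
  mul_mem' {a b} ha hb := stab a.2 ha _ hb
  inv_mem' {a} ha := by
    have h0 : (a.1 e4).w ≠ 0 := fun e => one_ne_zero (α := K) (congrArg W.w (a.1.injective (a₁ := e4) (a₂ := 1) (by
      rw [map_one]; exact W.ext ha.1 ha.2.1 ha.2.2 e)))
    have : a.1⁻¹ e4 = sm (a.1 e4).w⁻¹ e4 := a.1.injective (by
      rw [MulAut.apply_inv_self, a.2.2]; obtain ⟨h1, h2, h3⟩ := ha; ext <;> simp [*])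
    exact (congrArg (· ∈ VW) this).mpr (sm_VW _ ⟨rfl, rfl, rfl⟩)

theorem mu_mul (h : QD p X) (x y : X1 X) : mu (x * y).1 = mu x.1 * mu y.1 := h.bW_lin x.2 _ _

theorem mu_one : mu (1 : MulAut (W K)) = 1 := by simp [mu, bW]

theorem inv_B (h : QD p X) {x : X1 X} (hx : x ∈ B1 X) (a b c d : W K) : Mq (x.1 a) (x.1 b) (x.1 c) (x.1 d) = mu x.1 ^ 2 * Mq a b c d := by
  obtain ⟨t, u, v, ρ, k, -, e⟩ := h.std _ x.2.1 (stab x.2 hx)
  obtain rfl : ρ = 1 := RingEquiv.ext fun c => by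
    have := congrArg W.u (x.2.2 c e1)
    rw [e] at this
    simpa [k.a0, mul_comm] using this
  simp only [e, mu, MulAut.mul_apply, Mq_tt, Mq_dW, bW_tt, bW_dW]; simp [bW]

/-- the conjugates of `Mq` -/
def val (x : X1 X) (a b c d : W K) : K := mu x.1 ^ 2 * Mq (x⁻¹.1 a) (x⁻¹.1 b) (x⁻¹.1 c) (x⁻¹.1 d)

theorem val_mul (h : QD p X) (y x : X1 X) (a b c d : W K) : val (y * x) a b c d = mu y.1 ^ 2 * val x (y⁻¹.1 a) (y⁻¹.1 b) (y⁻¹.1 c) (y⁻¹.1 d) := by
  rw [val, val, mu_mul h]; simp only [mul_inv_rev, Subgroup.coe_mul, MulAut.mul_apply]; ring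

theorem val_B (h : QD p X) {x : X1 X} (hx : x ∈ B1 X) (a b c d : W K) : val x a b c d = Mq a b c d := by
  rw [val, ← inv_B h hx]; simp

/-- on the points -/
noncomputable def vq (ω : X1 X ⧸ B1 X) : W K → W K → W K → W K → K := val ω.out

theorem vq_mk (h : QD p X) (x : X1 X) : vq (x : X1 X ⧸ B1 X) = val x := by
  obtain ⟨b, e⟩ := QuotientGroup.mk_out_eq_mul (B1 X) x
  funext a b c d
  rw [vq, e, val_mul h, val_B h (Subtype.prop _), val]

theorem vq_smul (h : QD p X) (y : X1 X) (ω : X1 X ⧸ B1 X) (a b c d : W K) :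
    vq (y • ω) a b c d = mu y.1 ^ 2 * vq ω (y⁻¹.1 a) (y⁻¹.1 b) (y⁻¹.1 c) (y⁻¹.1 d) := by
  obtain ⟨x, rfl⟩ := QuotientGroup.mk_surjective ω
  rw [MulAction.Quotient.smul_mk, vq_mk h, vq_mk h, smul_eq_mul, val_mul h]

theorem eig {t c : K} (ht : t ≠ 0) {v : W K} (e : tt t v = sm c v) : v ∈ VW := by
  have h2 := two_ne (K := K)
  have h3 := three_ne (K := K)
  simp only [W.ext_iff, tt_u, tt_s, tt_r, tt_w, sm_u, sm_s, sm_r, sm_w] at e
  obtain ⟨a1, a2, a3, a4⟩ := e
  have k1 : v.u = 0 := by grind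
  have k2 : v.s = 0 := by grind
  exact ⟨k1, k2, by grind⟩

/-- `T` inside `X1 X` -/
def τ (h : QD p X) : Multiplicative K →* X1 X where
  toFun t := ⟨tt t.toAdd, h.syl.le ⟨_, rfl⟩, fun c v => by ext <;> simp <;> ring⟩
  map_one' := Subtype.ext tt_zero
  map_mul' _ _ := Subtype.ext (tt_add ..)

theorem τ_mem (h : QD p X) (t : Multiplicative K) : τ h t ∈ B1 X := ⟨rfl, by simp [τ], by simp [τ]⟩

end LB

open LB

theorem QD.inv (hq : 11 ≤ Nat.card K) (h : QD p X) {x : MulAut (W K)} (hx : x ∈ X1 X) (a b c d : W K) :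
    Mq (x a) (x b) (x c) (x d) = mu x ^ 2 * Mq a b c d := by
  classical
  have : Finite (MulAut (W K)) := Finite.of_injective _ DFunLike.coe_injective
  have := Fintype.ofFinite (X1 X ⧸ B1 X)
  have := Fintype.ofFinite K
  obtain ⟨Φ, hΦ⟩ : ∃ Φ : W K → W K → W K → W K → K, ∀ a b c d, Φ a b c d = ∑ ω : X1 X ⧸ B1 X, vq ω a b c d := ⟨_, fun _ _ _ _ => rfl⟩
  have iv : ∀ (y : X1 X) a b c d, Φ (y.1 a) (y.1 b) (y.1 c) (y.1 d) = mu y.1 ^ 2 * Φ a b c d := fun y a b c d => by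
    rw [hΦ, hΦ, ← Equiv.sum_comp (MulAction.toPerm y), Finset.mul_sum]
    exact Finset.sum_congr rfl fun ω _ => by rw [MulAction.toPerm_apply, vq_smul h]; simp
  obtain ⟨N, hN⟩ : ∃ N : W K → W K → W K → W K → K, ∀ a b c d,
    N a b c d = ∑ ω : X1 X ⧸ B1 X, if ω = ((1 : X1 X) : X1 X ⧸ B1 X) then 0 else vq ω a b c d := ⟨_, fun _ _ _ _ => rfl⟩
  have e : ∀ a b c d, Φ a b c d = Mq a b c d + N a b c d := fun a b c d => by
    rw [hΦ, hN, ← val_B h (one_mem _), ← vq_mk h, ← Finset.sum_ite_eq_of_mem' Finset.univ _ (fun ω => vq ω a b c d) (Finset.mem_univ _),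
      ← Finset.sum_add_distrib]
    exact Finset.sum_congr rfl fun ω _ => by split_ifs <;> simp
  suffices z : ∀ a b c d, N a b c d = 0 by simpa only [e, z, add_zero] using iv ⟨x, hx⟩ a b c d
  have cyc : ∀ a b c d, N a b c d = N b c d a := fun a b c d => by
    simp only [hN]; exact Finset.sum_congr rfl fun ω _ => by rw [vq, val, val, Mq_cyc]
  have add : ∀ a a' b c d, N (a * a') b c d = N a b c d + N a' b c d := fun a a' b c d => by
    simp only [hN, ← Finset.sum_add_distrib]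
    exact Finset.sum_congr rfl fun ω _ => by split_ifs <;> simp [vq, val, Mq_mul, mul_add]
  have hom : ∀ x y z w a b c d, N (sm x a) (sm y b) (sm z c) (sm w d) = x * y * z * w * N a b c d := fun x y z w a b c d => by
    simp only [hN, Finset.mul_sum]
    refine Finset.sum_congr rfl fun ω _ => ?_
    split_ifs
    · simp
    · simp only [vq, val, (ω.out⁻¹).2.2, Mq_sm]; ring
  have lin : ∀ b c d, (∀ i, N (bb i) b c d = 0) → ∀ a, N b c d a = 0 := fun b c d k a => by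
    have : ∀ x a, N (sm x a) b c d = x * N a b c d := fun x a => by simpa [sm_one] using hom x 1 1 1 a b c d
    rw [← cyc, eq_bb a]; simp [add, this, k]
  refine fun a b c d => lin _ _ _ (fun l => lin _ _ _ (fun k => lin _ _ _ (fun j => lin _ _ _ (fun i => ?_) _) _) _) _
  by_cases hh : 3 ≤ i.1 + j + k + l
  · let := MulAction.compHom (X1 X ⧸ B1 X) (τ h)
    have o : ∀ γ : Multiplicative K, γ • ((1 : X1 X) : X1 X ⧸ B1 X) = (1 : X1 X) := fun γ =>
      QuotientGroup.eq.2 (by simpa using τ_mem h γ)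
    rw [hN]
    refine sum_free (Γ := Multiplicative K) _ fun ω => ?_
    by_cases e : ω = (1 : X1 X)
    · exact .inl fun γ => by rw [e, o, if_pos rfl]
    refine .inr ⟨fun γ k => by_contra fun n => e ?_, ?_⟩
    · obtain ⟨x, rfl⟩ := QuotientGroup.mk_surjective ω
      have k1 : (x⁻¹ * (τ h γ * x)).1 e4 ∈ VW := QuotientGroup.eq.1 k.symm
      have k2 := congrArg x.1 (mem_VW' k1)
      rw [x.2.2] at k2
      exact (QuotientGroup.eq.2 (by simpa using show x ∈ B1 X from eig (t := γ.toAdd) n (by simpa [τ] using k2))).symm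
    have n : ∀ γ : Multiplicative K, γ • ω ≠ (1 : X1 X) := fun γ k => e (by rw [← inv_smul_smul γ ω, k, o])
    simp only [if_neg (n _)]
    have dg := fun i => dg_lin (dg_tt (K := K) i) (ω.out⁻¹).2.2
    refine (Fintype.sum_equiv Multiplicative.toAdd _ _ fun γ => ?_).trans
      (((dg_Mq (dg i) (dg j) (dg k) (dg l)).cmul (mu ω.out.1 ^ 2)).sum (by omega))
    rw [MulAction.compHom_smul_def, vq_smul h, show mu (τ h γ).1 = 1 from (bW_tt ..).trans (by simp [bW]), one_pow, one_mul]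
    rfl
  obtain ⟨c, hc⟩ : ∃ c : Kˣ, c ^ (6 - (i.1 + j + k + l)) ≠ 1 := by
    by_contra! k
    have := Nat.le_of_dvd (by omega) ((FiniteField.forall_pow_eq_one_iff K _).1 k)
    rw [← Nat.card_eq_fintype_card] at this
    omega
  have c0 := c.ne_zero
  have ok : Ok ((c : K) ^ 2) (c : K)⁻¹ := ⟨by simp, by simp⟩
  let δ : X1 X := ⟨_, h.hb c ok, fun c v => by ext <;> simp <;> ring⟩
  have m : δ ∈ B1 X := ⟨by simp [δ], by simp [δ], by simp [δ]⟩
  have e1 := iv δ (bb i) (bb j) (bb k) (bb l)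
  have e2 : ∀ i : Fin 4, δ.1 (bb i) = sm (c ^ 2 * (c : K)⁻¹ ^ i.1) (bb i) := fun i => by
    fin_cases i <;> ext <;> simp [δ, bb]
  have e3 : mu δ.1 = c := (bW_dW ..).trans (by simp [bW]; field_simp)
  rw [e, e, inv_B h m, mul_add, add_right_inj, e2, e2, e2, e2, hom, e3] at e1
  refine (mul_eq_mul_right_iff.1 e1).resolve_left fun e4 => hc (Units.ext ?_)
  obtain ⟨n, hn⟩ : ∃ n, 6 = n + (i.1 + j + k + l) := ⟨6 - (i.1 + j + k + l), by omega⟩
  have e5 : (c : K) ^ 6 = c ^ (i.1 + j + k + l) := by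
    simp only [pow_add, inv_pow] at e4 ⊢
    field_simp at e4
    exact e4
  rw [show 6 - (i.1 + j + k + l) = n by omega, Units.val_pow_eq_pow_val, Units.val_one]
  rw [hn, pow_add] at e5
  exact (mul_eq_right₀ (pow_ne_zero _ c0)).1 e5

end CL.G2F
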