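/-
S5211: for `q ≥ 11`, `X` contains `aW` and the torus and its points are those of the twisted cubic.
-/
import Cfsg.Agent.FUS.G2.LinB

set_option autoImplicit false
set_option linter.unusedSimpArgs false
set_option linter.unusedSectionVars false

namespace CL.G2F

open CL.Fus CL.RF4 CL.D3 Subgroup Cfsg Cfsg.FusionSystem
open scoped commutatorElement

variable {K : Type*} [Field K] [Finite K] [P5 K] {p : ℕ} [Fact p.Prime] [CharP K p] {F F' : FusionSystem (⊤ : Subgroup (U K))}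
  {X : Subgroup (MulAut (W K))}

namespace LinC

theorem tt_mem (h : QD p X) (t : K) : tt t ∈ X1 X :=
  ⟨h.syl.le ⟨t, rfl⟩, fun c v => by ext <;> simp only [tt_u, tt_s, tt_r, tt_w, sm_u, sm_s, sm_r, sm_w] <;> ring⟩

theorem eq_sm {v : W K} (hv : v ∈ VW) : v = sm v.w e4 := by ext <;> simp [hv.1, hv.2.1, hv.2.2]

theorem n12 : (12 : K) ≠ 0 := by
  rw [show (12 : K) = 2 * 2 * 3 by norm_num]; exact mul_ne_zero (mul_ne_zero two_ne two_ne) three_ne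

theorem n6 : (6 : K) ≠ 0 := by
  rw [show (6 : K) = 2 * 3 by norm_num]; exact mul_ne_zero two_ne three_ne

theorem grad (hq : 11 ≤ Nat.card K) (h : QD p X) {x : MulAut (W K)} (hx : x ∈ X1 X) (d : W K) : Mq (x e4) (x e4) (x e4) d = 0 := by
  obtain ⟨d, rfl⟩ := x.surjective d
  rw [h.inv hq hx, show Mq e4 e4 e4 d = 0 from Mq_444 .., mul_zero]

theorem diag {δ : MulAut (W K)} {μ : K} (lin : ∀ c v, δ (sm c v) = sm c (δ v)) (b : ∀ a b, bW (δ a) (δ b) = μ * bW a b)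
    (m : ∀ a b c d, Mq (δ a) (δ b) (δ c) (δ d) = μ ^ 2 * Mq a b c d) (h1 : δ e1 ∈ V1W) (h4 : δ e4 ∈ VW) : ∃ a d k, δ = dW a d 1 k := by
  have a1 : (δ e1).u ≠ 0 := fun e => by
    have : δ e1 = 1 := W.ext e h1.1 h1.2.1 h1.2.2
    simpa using congrArg W.u ((map_eq_one_iff _ δ.injective).1 this)
  have a4 : (δ e4).w ≠ 0 := fun e => by
    have : δ e4 = 1 := W.ext h4.1 h4.2.1 h4.2.2 e
    simpa using congrArg W.w ((map_eq_one_iff _ δ.injective).1 this)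
  have b12 := b e1 (e2 1)
  have b13 := b e1 (e3 1)
  have b14 := b e1 e4
  have b24 := b (e2 1) e4
  have b34 := b (e3 1) e4
  have b23 := b (e2 1) (e3 1)
  have m1 := m (e2 1) (e2 1) (e2 1) e1
  have m2 := m (e3 1) (e3 1) (e3 1) e4
  have m3 := m (e2 1) (e2 1) (e2 1) e4
  simp [bW, h1.1, h1.2.1, h1.2.2, h4.1, h4.2.1, h4.2.2, a1, a4] at b12 b13 b14 b24 b34
  simp only [Mq_3] at m1 m2 m3
  simp [h1.1, h1.2.1, h1.2.2, h4.1, h4.2.1, h4.2.2, a1, a4, b12, b13, b24, b34, three_ne (K := K),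
    show (4 : K) ≠ 0 by rw [show (4 : K) = 2 * 2 by norm_num]; exact mul_ne_zero two_ne two_ne] at m1 m2 m3
  simp [bW, b12, b13, b24, b34, m1, m2] at b23
  have e3' : (δ (e2 1)).s * (δ (e3 1)).r = μ := mul_left_cancel₀ three_ne (by linear_combination b23)
  have e4' : (δ (e2 1)).s ^ 3 * (δ e4).w = μ ^ 2 := mul_left_cancel₀ n12 (by linear_combination m3)
  have a2 : (δ (e2 1)).s ≠ 0 := fun e => by rw [e, zero_mul, ← b14] at e3'; exact mul_ne_zero a1 a4 e3'.symm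
  have f4 : (δ e4).w = (δ (e2 1)).s ^ 3 / (δ e1).u ^ 2 := by
    rw [eq_div_iff (pow_ne_zero _ a1)]; exact mul_left_cancel₀ a4 (by rw [← b14] at e4'; linear_combination -e4')
  have f3 : (δ (e3 1)).r = (δ (e2 1)).s ^ 2 / (δ e1).u := by
    rw [eq_div_iff a1]; refine mul_left_cancel₀ a2 ?_
    rw [← b14, f4] at e3'; field_simp at e3' ⊢; linear_combination e3'
  refine ⟨(δ e1).u, (δ (e2 1)).s / (δ e1).u, ⟨a1, div_ne_zero a2 a1⟩, MulEquiv.ext fun v => ?_⟩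
  have e : v = sm v.u e1 * sm v.s (e2 1) * sm v.r (e3 1) * sm v.w e4 := by ext <;> simp
  conv_lhs => rw [e, map_mul, map_mul, map_mul, lin, lin, lin, lin]
  ext <;> simp [h1.1, h1.2.1, h1.2.2, h4.1, h4.2.1, h4.2.2, b12, b13, b24, b34, m1, m2, f3, f4] <;> field_simp

end LinC
open LinC

/-- Proof. `y = x e4` has `Mq y y y d = 0` for all `d` (`QD.inv`, `Mq_444`, `x` onto). If `y.u = 0`, `Mq_3` with `d = e4`, then `d = e1`, gives `y.s = 0`, `y.r = 0`. Else `t = -y.s / y.u`, `y' = tt t y = (tt t * x) e4` has `s = 0`, and `d = e4`, `d = e3 1` give `w = 0`, `r = 0`. `VW = {sm c e4}`, `x` is linear. -/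
theorem QD.k_lin (hq : 11 ≤ Nat.card K) (h : QD p X) {x : MulAut (W K)} (hx : x ∈ X1 X) :
    (∀ v ∈ VW, x v ∈ VW) ∨ ∃ t, ∀ v ∈ VW, tt t (x v) ∈ V1W := by
  by_cases u0 : (x e4).u = 0
  · have a := grad hq h hx e4
    have b := grad hq h hx e1
    rw [Mq_3] at a b
    simp only [u0, e4_u, e4_s, e4_r, e4_w, e1_u, e1_s, e1_r, e1_w] at a b
    have s0 : (x e4).s = 0 := pow_eq_zero_iff (n := 3) (by norm_num) |>.1 (mul_left_cancel₀ n12 (by linear_combination a))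
    rw [s0] at b
    have r0 : (x e4).r = 0 := pow_eq_zero_iff (n := 3) (by norm_num) |>.1 (mul_left_cancel₀ n12 (by linear_combination b))
    refine .inl fun v hv => ?_
    rw [eq_sm hv, hx.2]
    exact ⟨by simp [u0], by simp [s0], by simp [r0]⟩
  obtain ⟨t, ht⟩ : ∃ t, (tt t (x e4)).s = 0 := ⟨-(x e4).s / (x e4).u, by rw [tt_s]; field_simp; ring⟩
  have m := mul_mem (tt_mem h t) hx
  have a := grad hq h m e4
  have b := grad hq h m (e3 1)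
  rw [Mq_3, MulAut.mul_apply] at a b
  have u1 : (tt t (x e4)).u ≠ 0 := u0
  refine .inr ⟨t, fun v hv => ?_⟩
  rw [eq_sm hv, hx.2, (tt_mem h t).2]
  generalize tt t (x e4) = y at *
  simp only [ht, e4_u, e4_s, e4_r, e4_w, e3_u, e3_s, e3_r, e3_w] at a b
  have w0 : y.w = 0 := mul_left_cancel₀ (mul_ne_zero n6 (pow_ne_zero 2 u1)) (by linear_combination a)
  have r0 : y.r = 0 := pow_eq_zero_iff (n := 2) (by norm_num) |>.1
    (mul_left_cancel₀ (mul_ne_zero (mul_ne_zero n12 three_ne) u1) (by linear_combination b))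
  exact ⟨by simp [ht], by simp [r0], by simp [w0]⟩

/-- Proof. `X1 X` is normal in `X` (`QD.semi`) and contains `TT K`; Frattini (`SylIn.frattini_sup` or `SylIn.exists_conj`): `x = x₁ n`, `x₁ ∈ X1 X`, `n` normalises `TT K`, so maps the fixed points `VW` of `TT K` to `VW`. -/
theorem QD.exists_lin (h : QD p X) {x : MulAut (W K)} (hx : x ∈ X) : ∃ x₁ ∈ X1 X, ∃ n ∈ X, (∀ v ∈ VW, n v ∈ VW) ∧ x = x₁ * n := by
  have : Finite (MulAut (W K)) := Finite.of_injective _ DFunLike.coe_injective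
  have hT : SylIn p (TT K) (X1 X) := h.syl.of_le (by rintro _ ⟨t, rfl⟩; exact tt_mem h t) fun _ k => k.1
  obtain ⟨ρ, hρ⟩ := h.semi hx
  obtain ⟨c, hc, k⟩ := hT.frattini (b := x) (mem_normalizer_fintype fun z hz => ⟨mul_mem (mul_mem hx hz.1) (inv_mem hx), fun c v => by
    obtain ⟨v, rfl⟩ := x.surjective v
    obtain ⟨c, rfl⟩ := ρ.surjective c
    simp only [MulAut.mul_apply, ← hρ, MulAut.inv_apply_self, hz.2]⟩)
  refine ⟨c⁻¹, inv_mem hc, c * x, mul_mem hc.1 hx, fun v hv => ?_, by simp⟩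
  obtain ⟨t, ht⟩ := (mem_normalizer_iff.1 (inv_mem k) (tt 1)).1 ⟨1, rfl⟩
  have e : tt 1 ((c * x) v) = (c * x) v := by
    rw [← MulAut.mul_apply _ (tt 1), show tt 1 * (c * x) = (c * x) * tt t by rw [ht]; group, MulAut.mul_apply _ (c * x)]
    congr 1; ext <;> simp [hv.1, hv.2.1, hv.2.2]
  generalize (c * x) v = y at e
  simp only [W.ext_iff, tt_u, tt_s, tt_r, tt_w] at e
  have u0 : y.u = 0 := by linear_combination e.2.1
  have s0 : y.s = 0 := mul_left_cancel₀ two_ne (by linear_combination e.2.2.1 - u0)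
  exact ⟨u0, s0, mul_left_cancel₀ three_ne (by linear_combination e.2.2.2 - u0 - 3 * s0)⟩

theorem QD.kOne (hq : 11 ≤ Nat.card K) (h : QD p X) : KOne X := fun x hx => by
  obtain ⟨x₁, h1, n, -, h2, rfl⟩ := h.exists_lin hx
  exact (h.k_lin hq h1).imp (fun k v hv => k _ (h2 v hv)) fun ⟨t, k⟩ => ⟨t, fun v hv => k _ (h2 v hv)⟩

/-- Proof. `ne`, `exists_lin`, `k_lin`: `γ ∈ X1 X` with `γ e4 ∈ V1W`. `k_lin` for `γ⁻¹` (it does not keep `VW`: else `γ` keeps the finite `VW`): `tt t (γ⁻¹ e4) = c e1`, `c ≠ 0`; `γ' = γ * tt (-t)` has `γ' e4 ∈ V1W`, `γ' e1 ∈ VW`.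
`δ = aW⁻¹ * γ'` is linear, `δ e1 = α₁ e1`, `δ e4 = α₄ e4`, multiplies `bW` by `μ` and `Mq` by `μ²` (`bW_lin`, `bW_aW`, `QD.inv`, `Mq_aW`). `δ (e2 1)`, `δ (e3 1)` are orthogonal to `e1`, `e4`, so have `u = w = 0`; `Mq v v v e4 = 12 v.s³`, `Mq v v v e1 = 12 v.r³` for such `v` (`Mq_3`),
so `δ (e3 1) = α₃ e3`, `δ (e2 1) = α₂ e2`, `α₂³ α₄ = μ²`, `μ = α₁ α₄ = α₂ α₃`; hence `δ = dW a d 1`, `a = α₁`, `d = α₂ / α₁`. -/
theorem QD.exists_aW (hq : 11 ≤ Nat.card K) (h : QD p X) : ∃ a d k, aW * dW a d 1 k ∈ X := by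
  obtain ⟨x, hx, n⟩ := h.ne
  obtain ⟨x₁, h1, y, -, h2, rfl⟩ := h.exists_lin hx
  have v4 : (e4 : W K) ∈ VW := ⟨rfl, rfl, rfl⟩
  obtain ⟨t, ht⟩ := (h.k_lin hq h1).resolve_left fun k => n (k _ (h2 _ v4))
  have m := mul_mem (tt_mem h t) h1
  replace ht : ∀ v ∈ VW, (tt t * x₁) v ∈ V1W := ht
  generalize tt t * x₁ = γ at m ht
  obtain ⟨t', ht'⟩ := (h.k_lin hq (inv_mem m)).resolve_left fun k => by simpa using (ht _ (k _ v4)).2.2
  have m' := mul_mem m (inv_mem (tt_mem h t'))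
  have k4 : (γ * (tt t')⁻¹) e4 ∈ V1W := ht _ (by rw [← tt_neg]; exact ⟨by simp, by simp, by simp⟩)
  replace ht' : (γ * (tt t')⁻¹)⁻¹ e4 ∈ V1W := by simpa using ht' _ v4
  generalize γ * (tt t')⁻¹ = δ at m' k4 ht'
  have k1 : δ e1 ∈ VW := by
    have c0 : (δ⁻¹ e4 : W K).u ≠ 0 := fun e => by
      have : (δ⁻¹ e4 : W K) = 1 := W.ext e ht'.1 ht'.2.1 ht'.2.2
      simpa using congrArg W.w ((map_eq_one_iff _ (δ⁻¹).injective).1 this)
    rw [show (e1 : W K) = sm (δ⁻¹ e4 : W K).u⁻¹ (δ⁻¹ e4) by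
      generalize (δ⁻¹ e4 : W K) = z at *; ext <;> simp [ht'.1, ht'.2.1, ht'.2.2, c0], m'.2, MulAut.apply_inv_self]
    exact ⟨by simp, by simp, by simp⟩
  obtain ⟨a, d, k, e⟩ := diag (δ := aW⁻¹ * δ) (μ := mu δ) (fun c v => by
      rw [MulAut.mul_apply, m'.2, MulAut.mul_apply]; ext <;> simp only [aW'_u, aW'_s, aW'_r, aW'_w, sm_u, sm_s, sm_r, sm_w, mul_neg])
    (fun a b => by rw [← bW_aW, ← h.bW_lin m']; simp) (fun a b c d => by rw [← Mq_aW, ← h.inv hq m']; simp)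
    ⟨neg_eq_zero.2 k1.2.2, k1.2.1, neg_eq_zero.2 k1.1⟩ ⟨k4.2.2, neg_eq_zero.2 k4.2.1, k4.1⟩
  exact ⟨a, d, k, by rw [← e, mul_inv_cancel_left]; exact m'.1⟩

/-- Proof. `γ = aW * dW a d 1`; `γ * dW c² c⁻¹ * γ⁻¹ = dW c⁻¹ c`; `dW a d = dW c² c⁻¹ * dW e⁻¹ e` with `c = a d`, `e = a d²`. -/
theorem QD.main (hq : 11 ≤ Nat.card K) (h : QD p X) : aW ∈ X ∧ ∀ a d k, dW a d 1 k ∈ X := by
  obtain ⟨a, d, k, hγ⟩ := h.exists_aW hq
  have o : ∀ {c : K}, c ≠ 0 → Ok (c ^ 2) c⁻¹ := fun c0 => ⟨pow_ne_zero _ c0, inv_ne_zero c0⟩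
  have ha : ∀ c (c0 : c ≠ 0), dW c⁻¹ c 1 ⟨inv_ne_zero c0, c0⟩ ∈ X := fun c c0 => by
    convert mul_mem (mul_mem hγ (h.hb c (o c0))) (inv_mem hγ) using 1
    rw [eq_mul_inv_iff_mul_eq]
    refine MulEquiv.ext fun v => ?_
    ext <;> simp <;> field_simp
  have all : ∀ a d k, dW a d 1 k ∈ X := fun a d k => by
    have c0 := mul_ne_zero k.a0 k.d0
    have e0 := mul_ne_zero k.a0 (pow_ne_zero 2 k.d0)
    convert mul_mem (h.hb _ (o c0)) (ha _ e0) using 1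
    rw [dW_mul]
    have := k.a0; have := k.d0
    exact dW_congr _ _ (by simp; field_simp) (by simp; field_simp) (by simp)
  exact ⟨(mul_mem_cancel_right (all a d k)).1 hγ, all⟩

end CL.G2F
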