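/-
S5211: `U K` inside a root datum of type `G₂` with the structure constants of `G₂(K)`.
-/
import Cfsg.Agent.FUS.G2.Gr
import Cfsg.Agent.INV.TW.Eng1

set_option autoImplicit false
set_option linter.unusedSimpArgs false
set_option linter.unusedSectionVars false

namespace CL.G2F

open CL.Fus Subgroup CL.R2.Hex

variable {K : Type*} [Field K] [Finite K] {G : Type*} [Group G] {h : R2.Hex G K K}

/-- the structure constants -/
structure Ex (h : R2.Hex G K K) : Prop where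
  f : ∀ u t, h.f u t = -(u * t)
  b : ∀ u t, h.b u t = u ^ 2 * t ^ 3
  g : ∀ u t, h.g u t = u * t ^ 2
  k : ∀ u t, h.k u t = u * t ^ 3
  b' : ∀ s t, h.b' s t = 3 * s ^ 2 * t
  m : ∀ s t, h.m s t = -(2 * s * t)
  l : ∀ s t, h.l s t = -(3 * s * t ^ 2)
  r : ∀ s t, h.r s t = 3 * s * t

theorem W_congr {a c e a' c' e' b d b' d' : K} (H : a = a' ∧ b = b' ∧ c = c' ∧ d = d' ∧ e = e') :
    h.W a b c d e = h.W a' b' c' d' e' := by
  obtain ⟨rfl, rfl, rfl, rfl, rfl⟩ := H; rfl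

variable (h) in
/-- the embedding as a function -/
def ιf (g : U K) : G := h.W g.u (-g.s) g.v g.r g.w * h.x6 g.t

/-- monomial elements mapping `S` into `U` -/
theorem wcases {c : G} (hc : R2.Nn h.τ.range h.na h.nb c) {S : Set G} (hS : ∀ t ∈ h.τ.range, ∀ y ∈ S, R2.cj t y ∈ S)
    (hN : ∀ y ∈ S, R2.cj c y ∈ h.U) (h2 : ∀ s, h.x2 s ∈ S) (h3 : ∀ s, h.x3 s ∈ S) (h4 : ∀ s, h.x4 s ∈ S) (h5 : ∀ s, h.x5 s ∈ S)
    (h16 : h.x1 1 ∈ S ∨ h.x6 1 ∈ S) :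
    c ∈ h.τ.range ∨ (h.x6 1 ∉ S ∧ h.na * c ∈ h.τ.range) ∨ h.x1 1 ∉ S ∧ h.nb * c ∈ h.τ.range := by
  have key : ∀ w, ∀ t ∈ h.τ.range, c = w * t → ∀ y ∈ S, R2.cj w y ∈ h.U := fun w t ht e y hy => by
    have := hN _ (hS _ (inv_mem ht) y hy)
    rwa [e, ← R2.cj_cj, mul_inv_cancel_right] at this
  have a := h.not_mem_a2
  have b := h.not_mem_b2
  have w0 : ¬ ∀ y ∈ S, R2.cj (R2.wd h.na h.nb 6) y ∈ h.U := fun k0 => by
    rcases h16 with m | m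
    · rw [h.braid'] at k0
      exact b (by simpa only [R2.wd, mul_one, R2.cj_cj, a1, b5, a3, b3, a5, neg_neg] using k0 _ m)
    · exact a (by simpa only [R2.wd, mul_one, R2.cj_cj, b6, a2, b4, a4, b2, neg_neg] using k0 _ m)
  obtain ⟨k, hk, t, ht, e | e⟩ := hc
  · have k0 := key _ t ht e
    interval_cases k
    · exact Or.inl (by simpa [e, R2.wd] using ht)
    · exact Or.inr (Or.inl ⟨fun m => a (by simpa only [R2.wd, mul_one] using k0 _ m),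
        by rw [e, R2.wd, R2.wd, mul_one, ← mul_assoc]; exact mul_mem h.na_sq ht⟩)
    · exact absurd (by simpa only [R2.wd, mul_one, R2.cj_cj, b2, neg_neg] using k0 _ (h2 (-1))) a
    · exact absurd (by simpa only [R2.wd, mul_one, R2.cj_cj, a4, b2, neg_neg] using k0 _ (h4 1)) a
    · exact absurd (by simpa only [R2.wd, mul_one, R2.cj_cj, b4, a4, b2, neg_neg] using k0 _ (h4 1)) a
    · exact absurd (by simpa only [R2.wd, mul_one, R2.cj_cj, a2, b4, a4, b2, neg_neg] using k0 _ (h2 1)) a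
    · exact absurd k0 w0
  · have k0 := key _ t ht e
    interval_cases k
    · exact Or.inl (by simpa [e, R2.wd] using ht)
    · exact Or.inr (Or.inr ⟨fun m => b (by simpa only [R2.wd, mul_one] using k0 _ m),
        by rw [e, R2.wd, R2.wd, mul_one, ← mul_assoc]; exact mul_mem h.nb_sq ht⟩)
    · exact absurd (by simpa only [R2.wd, mul_one, R2.cj_cj, a5, neg_neg] using k0 _ (h5 (-1))) b
    · exact absurd (by simpa only [R2.wd, mul_one, R2.cj_cj, b3, a5, neg_neg] using k0 _ (h3 1)) b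
    · exact absurd (by simpa only [R2.wd, mul_one, R2.cj_cj, a3, b3, a5, neg_neg] using k0 _ (h3 1)) b
    · exact absurd (by simpa only [R2.wd, mul_one, R2.cj_cj, b5, a3, b3, a5, neg_neg] using k0 _ (h5 1)) b
    · exact absurd (h.braid' ▸ k0) w0

namespace Ex

variable (E : Ex h)
include E

theorem φ_eq (u : K) : h.φ u = u := by
  rw [show h.φ u = -h.f u 1 from rfl, E.f, neg_neg, mul_one]

theorem ν_eq (t : K) : h.ν t = t ^ 3 := by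
  rw [show h.ν t = h.k 1 t from rfl, E.k, one_mul]

theorem ιf_mul (g g' : U K) : ιf h (g * g') = ιf h g * ιf h g' := by
  have e : ∀ t y z, h.x6 t * (y * z) = R2.cj (h.x6 t) y * (h.x6 t * z) := fun t y z => by simp [mul_assoc]
  have e' : ∀ t a b c d e, R2.cj (h.x6 t) (h.W a b c d e) = h.W a (h.f a t) (h.b a t) (h.g a t) (h.k a t) *
      h.W 0 b (h.b' b t) (h.m b t) (h.l b t) * h.W 0 0 c 0 0 * h.W 0 0 0 d (h.r d t) * h.W 0 0 0 0 e := fun t a b c d e => by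
    rw [W, map_mul, map_mul, map_mul, map_mul, r16, r26, r46, r36, r56, W3, W5]
  rw [ιf, ιf, ιf, mul_assoc, e, ← h.ad6, ← mul_assoc, e', W_mul, W_mul, W_mul, W_mul, W_mul]
  congr 1
  refine W_congr ?_
  simp only [ω_eq, ω'_eq, E.f, E.b, E.g, E.k, E.b', E.m, E.l, E.r]
  gus
  and_intros <;> ring

/-- the embedding -/
def ι : U K →* G := MonoidHom.mk' (ιf h) E.ιf_mul

theorem ι_apply (g : U K) : E.ι g = h.W g.u (-g.s) g.v g.r g.w * h.x6 g.t := rfl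

theorem inj : Function.Injective E.ι := fun g g' e => by
  obtain ⟨⟨h1, h2, h3, h4, h5⟩, h6⟩ := h.U_inj e
  exact U.ext h1 (neg_injective h2) h3 h4 h5 h6

theorem range : E.ι.range = h.U := by
  ext x
  exact ⟨by rintro ⟨g, rfl⟩; exact ⟨_, _, _, _, _, _, rfl⟩, by
    rintro ⟨a, b, c, d, e, f, rfl⟩
    exact ⟨⟨a, -b, c, d, e, f⟩, by rw [ι_apply, neg_neg]⟩⟩

theorem ι1 (u : K) : E.ι (y1 u) = h.x1 u := by
  rw [ι_apply, W1, y1_t, h.ad6.zero, mul_one]; exact W_congr (by simp)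
theorem ι2 (s : K) : E.ι (y2 s) = h.x2 (-s) := by
  rw [ι_apply, W2, y2_t, h.ad6.zero, mul_one]; exact W_congr (by simp)
theorem ι3 (u : K) : E.ι (y3 u) = h.x3 u := by
  rw [ι_apply, W3, y3_t, h.ad6.zero, mul_one]; exact W_congr (by simp)
theorem ι4 (s : K) : E.ι (y4 s) = h.x4 s := by
  rw [ι_apply, W4, y4_t, h.ad6.zero, mul_one]; exact W_congr (by simp)
theorem ι5 (u : K) : E.ι (y5 u) = h.x5 u := by
  rw [ι_apply, W5, y5_t, h.ad6.zero, mul_one]; exact W_congr (by simp)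
theorem ι6 (s : K) : E.ι (y6 s) = h.x6 s := by
  rw [ι_apply, y6_t, show h.W _ _ _ _ _ = 1 from (W_congr (by simp)).trans h.W0, one_mul]

theorem na (g : U K) (hg : g ∈ Q) : h.na * E.ι g * h.na⁻¹ = E.ι (wa g) := by
  have e : wa g = y5 g.u * y4 (-g.s) * y3 g.v * y2 g.r * y1 (-g.w) := by gds; gus; ring
  rw [e, ι_apply, mem_Q.1 hg, h.ad6.zero, mul_one, ← MulAut.conj_apply, W]
  simp only [map_mul, a1, a2, a3, a4, a5, E.ι1, E.ι2, E.ι3, E.ι4, E.ι5]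

theorem nb (g : U K) (hg : g ∈ Q') : h.nb * E.ι g * h.nb⁻¹ = E.ι (wb g) := by
  have e : wb g = y6 g.s * y5 (-g.v) * y4 g.r * y3 g.w * y2 (-g.t) := by gds; gus; and_intros <;> ring
  rw [e, ι_apply, ← MulAut.conj_apply, W, mem_Q'.1 hg, h.ad1.zero, one_mul]
  simp only [map_mul, b2, b3, b4, b5, b6, E.ι2, E.ι3, E.ι4, E.ι5, E.ι6, neg_neg]

theorem tor (x : Kˣ × Kˣ) {a d : K} (k : Ok a d) (ha : x.2 = a) (hd : x.1 = d) (g : U K) :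
    h.τ x * E.ι g * (h.τ x)⁻¹ = E.ι (dd a d 1 k g) := by
  subst ha hd
  rw [ι_apply, ι_apply, ← MulAut.conj_apply, map_mul, τ_W, t6]
  congr 1
  refine W_congr ?_
  simp [sa_eq, sb_eq, E.φ_eq, E.ν_eq]
  and_intros
  all_goals left; field_simp

theorem τ_mem (x : Kˣ × Kˣ) : h.τ x ∈ h.G0 := by
  have := mul_mem (mem_sup_left ⟨_, rfl⟩ : h.ιa (ABG.dg (x.1 ^ 2 * x.2)) ∈ h.G0) (mem_sup_right ⟨_, rfl⟩ : h.ιb (ABG.dg (x.1 ^ 3 * x.2 ^ 2)) ∈ h.G0)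
  rw [dga_eq, dgb_eq, ← map_mul] at this
  convert this using 2
  refine Prod.ext (Units.ext ?_) (Units.ext ?_)
  · simp [E.φ_eq]; field_simp
  · simp [E.ν_eq]; field_simp

theorem nrm {x : G} (hx : x ∈ h.G0) (hn : x ∈ normalizer (h.U : Set G)) : ∃ u a d k, ∀ g, x * E.ι g * x⁻¹ = E.ι (cj u (dd a d 1 k g)) := by
  obtain ⟨u, hu, n, hm, v, hv, rfl⟩ := h.bruhat hx
  rw [mul_mem_cancel_right (le_normalizer hv), mul_mem_cancel_left (le_normalizer hu)] at hn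
  have h2 : ∀ {y}, y ∈ h.U → R2.cj n y ∈ h.U := fun hy => (mem_normalizer_iff.1 hn _).1 hy
  obtain ⟨y, rfl⟩ | H | H := hm.tri h.halfA h.halfB
  · obtain ⟨w, hw⟩ : u * h.τ y * v * (h.τ y)⁻¹ ∈ E.ι.range := by
      rw [E.range, mul_assoc u, mul_assoc u]; exact mul_mem hu (h2 hv)
    have k : Ok (y.2 : K) y.1 := ⟨by simp, by simp⟩
    exact ⟨w, _, _, k, fun g => by simp only [cj, map_mul, map_inv, hw, ← E.tor y k rfl rfl]; group⟩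
  · obtain ⟨y, hy, e⟩ := H _ ⟨1, rfl⟩
    exact absurd (e ▸ h2 hy) h.not_mem_a2
  · obtain ⟨y, hy, e⟩ := H _ ⟨1, rfl⟩
    exact absurd (e ▸ h2 hy) h.not_mem_b2

theorem mem_norm {x : G} (hx : ∀ y ∈ h.U, x * y * x⁻¹ ∈ h.U) : x ∈ normalizer (h.U : Set G) := by
  have : Finite (h.U : Set G) := E.range ▸ Finite.of_surjective _ E.ι.rangeRestrict_surjective
  exact mem_normalizer_fintype hx

/-- the normaliser of `ι P`, `P = Q` or `Q'` -/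
theorem par {P : Subgroup (U K)} [P.Normal] (hR : sR ≤ P) (h16 : y1 1 ∈ P ∨ y6 1 ∈ P) (hd : ∀ a d k, ∀ g ∈ P, dd a d 1 k g ∈ P) {x : G}
    (hx : x ∈ h.G0) (hn : ∀ g ∈ P, ∃ g' ∈ P, x * E.ι g * x⁻¹ = E.ι g') : x ∈ normalizer (h.U : Set G) ∨ ∃ u, ∃ n,
      ((y6 1 ∉ P ∧ n = h.na) ∨ y1 1 ∉ P ∧ n = h.nb) ∧ n * E.ι u * x ∈ normalizer (h.U : Set G) := by
  obtain ⟨_, ⟨u, rfl⟩, n, hm, _, ⟨v, rfl⟩, rfl⟩ := E.range ▸ h.bruhat hx
  have mU : ∀ g, E.ι g ∈ normalizer (h.U : Set G) := fun g => le_normalizer (E.range.le ⟨g, rfl⟩)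
  have mT : ∀ t ∈ h.τ.range, t ∈ normalizer (h.U : Set G) := fun t ht => E.mem_norm (h.TU t ht)
  have mP : ∀ {g}, E.ι g ∈ (P.map E.ι : Set G) ↔ g ∈ P := mem_map_iff_mem E.inj
  have k : ∀ m : G, m * n ∈ h.τ.range → m * E.ι u⁻¹ * (E.ι u * n * E.ι v) ∈ normalizer (h.U : Set G) := fun m hm => by
    rw [map_inv, mul_assoc (E.ι u), mul_assoc, inv_mul_cancel_left, ← mul_assoc]; exact mul_mem (mT _ hm) (mU v)
  rcases wcases hm (S := P.map E.ι) (by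
      rintro _ ⟨y, rfl⟩ _ ⟨g, hg, rfl⟩
      exact ⟨_, hd _ _ ⟨y.2.ne_zero, y.1.ne_zero⟩ g hg, (E.tor y _ rfl rfl g).symm⟩) (by
      rintro _ ⟨g, hg, rfl⟩
      obtain ⟨g', -, e⟩ := hn _ (Normal.conj_mem ‹_› g hg v⁻¹)
      refine E.range.le ⟨u⁻¹ * g' * u, ?_⟩
      simp only [map_mul, map_inv, ← e, MulAut.conj_apply]; group)
    (fun s => by rw [← neg_neg s, ← E.ι2]; exact mP.2 (hR ⟨rfl, rfl⟩)) (fun s => E.ι3 s ▸ mP.2 (hR ⟨rfl, rfl⟩))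
    (fun s => E.ι4 s ▸ mP.2 (hR ⟨rfl, rfl⟩)) (fun s => E.ι5 s ▸ mP.2 (hR ⟨rfl, rfl⟩))
    (h16.imp (fun m => E.ι1 1 ▸ mP.2 m) fun m => E.ι6 1 ▸ mP.2 m) with m | ⟨m1, m⟩ | ⟨m1, m⟩
  · exact Or.inl (mul_mem (mul_mem (mU u) (mT _ m)) (mU v))
  · exact Or.inr ⟨_, _, Or.inl ⟨fun e => m1 (E.ι6 1 ▸ mP.2 e), rfl⟩, k _ m⟩
  · exact Or.inr ⟨_, _, Or.inr ⟨fun e => m1 (E.ι1 1 ▸ mP.2 e), rfl⟩, k _ m⟩

theorem pa {x : G} (hx : x ∈ h.G0) (hn : ∀ g ∈ Q, ∃ g' ∈ Q, x * E.ι g * x⁻¹ = E.ι g') :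
    x ∈ normalizer (h.U : Set G) ∨ ∃ t, h.na * E.ι (y6 t) * x ∈ normalizer (h.U : Set G) := by
  refine (E.par sR_le_Q (Or.inl rfl) (fun a d k g hg => by simp [mem_Q, mem_Q.1 hg]) hx hn).imp_right ?_
  rintro ⟨u, n, ⟨-, rfl⟩ | ⟨m, -⟩, e⟩
  swap
  · exact absurd rfl m
  have m : u * (y6 u.t)⁻¹ ∈ Q := div_mem_Q.2 rfl
  refine ⟨u.t, (mul_mem_cancel_left (le_normalizer (E.range.le ⟨wa (u * (y6 u.t)⁻¹), rfl⟩))).1 ?_⟩
  rw [← E.na _ m, map_mul, map_inv]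
  convert e using 1; group

theorem pb {x : G} (hx : x ∈ h.G0) (hn : ∀ g ∈ Q', ∃ g' ∈ Q', x * E.ι g * x⁻¹ = E.ι g') :
    x ∈ normalizer (h.U : Set G) ∨ ∃ t, h.nb * E.ι (y1 t) * x ∈ normalizer (h.U : Set G) := by
  refine (E.par sR_le_Q' (Or.inr rfl) (fun a d k g hg => by simp [mem_Q', mem_Q'.1 hg]) hx hn).imp_right ?_
  rintro ⟨u, n, ⟨m, -⟩ | ⟨-, rfl⟩, e⟩
  · exact absurd rfl m
  have m : u * (y1 u.u)⁻¹ ∈ Q' := div_mem_Q'.2 rfl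
  refine ⟨u.u, (mul_mem_cancel_left (le_normalizer (E.range.le ⟨wb (u * (y1 u.u)⁻¹), rfl⟩))).1 ?_⟩
  rw [← E.nb _ m, map_mul, map_inv]
  convert e using 1; group

theorem U_le : h.U ≤ h.G0 := by
  have a : ∀ s, h.ιa s ∈ h.G0 := fun s => mem_sup_left ⟨s, rfl⟩
  have b : ∀ s, h.ιb s ∈ h.G0 := fun s => mem_sup_right ⟨s, rfl⟩
  have c : ∀ {x y}, x ∈ h.G0 → y ∈ h.G0 → x * y * x⁻¹ ∈ h.G0 := fun hx hy => mul_mem (mul_mem hx hy) (inv_mem hx)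
  rintro _ ⟨_, _, _, _, _, _, rfl⟩
  exact mul_mem (mul_mem (mul_mem (mul_mem (mul_mem (b _) (c (b _) (a _))) (c (b _) (c (a _) (b _)))) (c (a _) (c (b _) (a _)))) (c (a _) (b _))) (a _)

theorem ι_mem (g : U K) : E.ι g ∈ h.G0 := E.U_le (E.range.le ⟨g, rfl⟩)

theorem exists_rp {p : ℕ} {M : Subgroup G} (hM : h.G0 = M) (idx : ¬ p ∣ h.U.relIndex M) (φ : RingAut K →* MulAut M)
    (hφ : ∀ ρ g k, (φ ρ ⟨E.ι g, k⟩ : G) = E.ι (fr ρ g)) : ∃ R : RP p K M, (∀ g, (R.ι g : G) = E.ι g) ∧ R.φ = φ := by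
  subst hM
  let j := E.ι.codRestrict h.G0 E.ι_mem
  have e : j.range = h.U.subgroupOf h.G0 := by
    ext x; rw [mem_subgroupOf, ← E.range]; exact exists_congr fun _ => Subtype.ext_iff
  have nm : ∀ {x : h.G0}, x ∈ normalizer (j.range : Set h.G0) ↔ x.1 ∈ normalizer (h.U : Set G) := by
    rw [e, ← subgroupOf_normalizer_eq E.U_le]; rfl
  exact ⟨{
    ι := j
    inj := fun _ _ e => E.inj (congrArg Subtype.val e)
    idx := by rwa [e]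
    na := ⟨⟨h.na, mem_sup_left ⟨_, rfl⟩⟩, fun g hg => Subtype.ext (E.na g hg)⟩
    nb := ⟨⟨h.nb, mem_sup_right ⟨_, rfl⟩⟩, fun g hg => Subtype.ext (E.nb g hg)⟩
    tor := fun a d k => ⟨⟨_, E.τ_mem (Units.mk0 d k.d0, Units.mk0 a k.a0)⟩, fun g => Subtype.ext (E.tor _ k rfl rfl g)⟩
    nrm := fun x hx => let ⟨u, a, d, k, e⟩ := E.nrm x.2 (nm.1 hx); ⟨u, a, d, k, fun g => Subtype.ext (e g)⟩
    φ := φ
    hφ := fun _ _ => Subtype.ext (hφ _ _ _)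
    pa := fun x hx => (E.pa x.2 fun g hg => (hx g hg).imp fun _ k => ⟨k.1, congrArg Subtype.val k.2⟩).imp nm.2 fun ⟨t, k⟩ =>
      ⟨t, ⟨h.na, mem_sup_left ⟨_, rfl⟩⟩, fun g hg => Subtype.ext (E.na g hg), nm.2 k⟩
    pb := fun x hx => (E.pb x.2 fun g hg => (hx g hg).imp fun _ k => ⟨k.1, congrArg Subtype.val k.2⟩).imp nm.2 fun ⟨t, k⟩ =>
      ⟨t, ⟨h.nb, mem_sup_right ⟨_, rfl⟩⟩, fun g hg => Subtype.ext (E.nb g hg), nm.2 k⟩ }, fun _ => rfl, rfl⟩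

end Ex

end CL.G2F
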