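/-
S5211: the automizer of `Q'`, `p ≥ 5` (port of FUS/D3/QP with `σ = id`: `tr = 3 ·`, `cr s t = 2 s t`, `sh = ·²`, `nm = ·³`).
-/
import Cfsg.Agent.FUS.G2.Aut5

set_option autoImplicit false
set_option linter.unusedSimpArgs false
set_option linter.unusedSectionVars false

namespace CL.G2F

open CL.Fus CL.RF4 CL.D3 Subgroup Cfsg Cfsg.FusionSystem
open scoped commutatorElement

variable {K : Type*} [Field K] [Finite K] [P5 K] {p : ℕ} [Fact p.Prime] [CharP K p] {F F' : FusionSystem (⊤ : Subgroup (U K))}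

namespace QP5

variable {g h : U K}

theorem cj_eq_br {Ω : Type*} [Group Ω] (x g : Ω) : cj x g = ⁅x, g⁆ * g := by simp [cj, commutatorElement_def]

theorem brR (g : U K) (hh : h ∈ sR) : ⁅g, h⁆ ∈ sA := ⟨br_u g h, by rw [br_s, hh.1, hh.2]; simp, br_t g h⟩
theorem brAV (g : U K) (hh : h ∈ sA) : ⁅g, h⁆ ∈ sV :=
  ⟨br_u g h, by rw [br_s, hh.1, hh.2.2]; simp, by rw [br_r, hh.1, hh.2.1, hh.2.2]; simp, br_t g h⟩
theorem brVZ (g : U K) (hh : h ∈ sV) : ⁅g, h⁆ ∈ sZ := by rw [br_V g hh]; exact ⟨rfl, rfl, rfl, rfl, rfl⟩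

theorem cjV (x : U K) (hg : g ∈ sV) : cj x g ∈ sV ∧ (cj x g).v = g.v + x.u * g.w ∧ (cj x g).w = g.w := by
  rw [cj_eq_br, br_V x hg]; gms at hg ⊢; gcs; simp only [hg]; gus; ring

theorem cjV' {x : U K} (hx : x ∈ Q') (hg : g ∈ sV) : cj x g = g := cj_eq_self_iff.2 (comm_V hx hg)

theorem mulVA (hg : g ∈ sV) (hh : h ∈ sA) : (g * h).r = h.r := by gms at hg hh; gcs; simp only [hg, hh]; gus

theorem cjA (x : U K) (hg : g ∈ sA) : cj x g ∈ sA ∧ (cj x g).r = g.r :=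
  ⟨Normal.conj_mem inferInstance g hg x, by rw [cj_eq_br, mulVA (brAV x hg) hg]⟩

theorem eqV (hg : g ∈ sV) (hh : h ∈ sV) (e1 : g.v = h.v) (e2 : g.w = h.w) : g = h := by
  gms at hg hh; gcs; simp only [hg, hh, e1, e2, and_self]

theorem mulA (hg : g ∈ sA) (hh : h ∈ sA) : (g * h).v = g.v + h.v ∧ (g * h).w = g.w + h.w := by
  gms at hg hh; gcs; simp only [hg, hh]; gus

theorem VQ : sV ≤ Q' (K := K) := fun _ h => h.1
theorem AQ : sA ≤ Q' (K := K) := fun _ h => h.1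
theorem ZQ : sZ ≤ Q' (K := K) := fun _ h => h.1
theorem YV : sY5 ≤ sV (K := K) := fun _ hg => ⟨hg.1, hg.2.1, hg.2.2.2.1, hg.2.2.2.2⟩
theorem mem_Z (hg : g ∈ sV) (e : g.w = 0) : g ∈ sZ := ⟨hg.1, hg.2.1, hg.2.2.1, e, hg.2.2.2⟩
theorem mem_Y (hg : g ∈ sV) (e : g.v = 0) : g ∈ sY5 := ⟨hg.1, hg.2.1, e, hg.2.2.1, hg.2.2.2⟩
theorem mem_V (hg : g ∈ sA) (e : g.r = 0) : g ∈ sV := ⟨hg.1, hg.2.1, e, hg.2.2⟩
theorem y3V (c : K) : y3 c ∈ sV := ⟨rfl, rfl, rfl, rfl⟩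
theorem y3Z (c : K) : y3 c ∈ sZ := ⟨rfl, rfl, rfl, rfl, rfl⟩
theorem y5V (c : K) : y5 c ∈ sV := ⟨rfl, rfl, rfl, rfl⟩
theorem y4A (c : K) : y4 c ∈ sA := ⟨rfl, rfl, rfl⟩
theorem mV (α : MulAut (U K)) (k : g ∈ sV) : α g ∈ sV := (map_mem α g).2.1.2 k
theorem mA (α : MulAut (U K)) (k : g ∈ sA) : α g ∈ sA := (map_mem α g).2.2.1.2 k
theorem mQ' (α : MulAut (U K)) (k : g ∈ Q') : α g ∈ Q' := (map_mem α g).2.2.2.2.2.2 k

theorem map_Z {f f' : U K → U K} (h : IsoOn Q' Q' f f') :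
    ∃ x y, ∀ z ∈ sZ, f z ∈ sV ∧ ∃ e, (f z).v = x * e ∧ (f z).w = y * e := by
  obtain ⟨iV, iA⟩ := ivQ' (CL.U5.au_pair h)
  have h2 : y2 1 ∈ Q' (K := K) := rfl
  refine ⟨-(f (y2 1)).s, (f (y2 1)).t, fun z hz => ⟨iV f (Or.inl rfl) _ (ZQ hz) (sZ_le_sV hz), ?_⟩⟩
  have ez : z = ⁅(y2 1 : U K), y4 (-z.v / 3)⁆ := by
    have := three_ne (K := K)
    rw [br_Q'A h2 (y4A _)]
    exact eqV (sZ_le_sV hz) ⟨rfl, rfl, rfl, rfl⟩ (by simp; field_simp) (by simp [hz.2.2.2.1])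
  rw [ez, h.hom.map_commutator h2 rfl, br_Q'A (h.maps _ h2) (iA f (Or.inl rfl) _ rfl (y4A _))]
  exact ⟨3 * (f (y4 (-z.v / 3))).r, by ring, by ring⟩

theorem dd_eq_of_A {a d a' d' : K} {ρ ρ' : RingAut K} (h : Ok a d) (h' : Ok a' d') (e1 : ∀ r, a * d ^ 2 * ρ r = a' * d' ^ 2 * ρ' r)
    (e2 : a ^ 2 * d ^ 3 = a' ^ 2 * d' ^ 3) (e3 : a * d ^ 3 = a' * d' ^ 3) : a = a' ∧ d = d' ∧ ρ = ρ' := by
  have k1 : a * d ^ 2 = a' * d' ^ 2 := by simpa using e1 1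
  have n : a' * d' ^ 3 ≠ 0 := by simp [h'.a0, h'.d0]
  obtain rfl : a = a' := mul_right_cancel₀ n (by linear_combination e2 - a * e3)
  have n' := mul_ne_zero h.a0 (pow_ne_zero 2 h.d0)
  exact ⟨rfl, mul_left_cancel₀ n' (by linear_combination e3 - d' * k1),
    RingEquiv.ext fun r => mul_left_cancel₀ n' (by rw [e1, k1])⟩

theorem wb_dd {a d : K} (ρ : RingAut K) (h : Ok a d) (h' : Ok a⁻¹ (a * d)) {g : U K} (hg : g ∈ Q') :
    wb (dd a d ρ h g) = dd a⁻¹ (a * d) ρ h' (wb g) := by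
  have := h.a0
  gds; simp only [map_add, map_sub, map_mul, map_neg, map_pow, map_ofNat, map_zero, mul_zero]
  and_intros <;> first | trivial | (field_simp; try ring) | ring

end QP5

open QP5

/-- D3/QP `extQ'` -/
theorem extQ' (hF : F.IsSaturated p) (hc : F.IsCentric Q') {f : U K → U K} (hf : Mor F Q' f) (h1 : ∀ x ∈ Q', f x ∈ Q')
    (h2 : ∀ x ∈ sZ, f x ∈ sZ) : ∃ g, Mor F ⊤ g ∧ Set.EqOn g f (Q' (K := K)) := by
  refine CL.U5.ext_of_chain isPGroup_top hF hc le_normalizer_of_normal (X := sZ) le_normalizer_of_normal (fun A hA iZ s _ => ?_) hf h1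
    fun x _ hx => h2 x hx
  obtain ⟨iV, iA⟩ := ivQ' hA
  have iR : Ivs Q' A (sR (K := K)) := (hA.iv_comm iA iZ).congr (fun y hy => ⟨fun e => ⟨hy, by
    simpa [br_Q'A hy (y4A 1), three_ne] using (e _ rfl (y4A 1)).2.2.2.1⟩, fun e x _ hx => by
      rw [SetLike.mem_coe, br_Q'A hy hx]; exact ⟨rfl, rfl, rfl, by simp [e.2], rfl⟩⟩) hA
  exact ((((Ch.base hA iZ fun y _ hy => comm_Z s hy).step iZ iV fun y _ hy => brVZ s hy).step iV iA fun y _ hy => brAV s hy).step iA iR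
    fun y _ hy => brR s hy).step iR Iv.top fun y _ _ => ⟨br_u s y, br_t s y⟩

/-- `Z = {⁅y2 1, a⁆ | a ∈ A₀}`, so `f Z = {⁅g, a⁆ | a ∈ A₀}`, `g = f (y2 1) ∉ A₀` (`ivQ'` for `{f, f'}`), `⁅g, a⁆ = (v, w) = (-3 g.s a.r, 3 g.t a.r)` (`br_Q'A`); `cj (y1 c)` maps `(v, w)` to `(v + c w, w)`. D3/QP `map_Z`, `line_cases` -/
theorem line_cases {f f' : U K → U K} (h : IsoOn Q' Q' f f') :
    (∀ x ∈ sZ, f x ∈ sZ) ∨ ∃ c, ∀ x ∈ sZ, cj (y1 c) (f x) ∈ sY5 := by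
  obtain ⟨x, y, k⟩ := map_Z h
  by_cases y0 : y = 0
  · exact Or.inl fun z hz => let ⟨v, e, _, e2⟩ := k z hz; mem_Z v (by rw [e2, y0, zero_mul])
  refine Or.inr ⟨-x / y, fun z hz => ?_⟩
  obtain ⟨v, e, e1, e2⟩ := k z hz
  exact mem_Y (cjV _ v).1 (by rw [(cjV _ v).2.1, e1, e2, y1_u]; field_simp; ring)

/-- D3/QP `exists_ns` verbatim -/
theorem exists_ns (hF : F.IsSaturated p) (hE : F.IsEssential p Q') {s : K} (h0 : s ≠ 0) :
    ∃ n, Mor F Q' n ∧ (∀ x ∈ Q', n x ∈ Q') ∧ (∀ x ∈ sA, n x ∈ sA ∧ (n x).r = x.r) ∧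
      ∀ x ∈ sV, (n x).v = -x.w / s ∧ (n x).w = s * x.v := by
  obtain ⟨f, f', hf, hf', i, k⟩ := exists_move hF hE (X := sZ) fun f => extQ' hF (centric_of hF hE)
  obtain ⟨c, k1⟩ := (line_cases i).resolve_left k
  obtain ⟨w, w', m, m', i0, wZ⟩ : ∃ w w', Mor F Q' w ∧ Mor F Q' w' ∧ IsoOn Q' Q' w w' ∧ ∀ x ∈ sZ, w x ∈ sY5 (K := K) :=
    ⟨_, _, hf.cj_comp trivial, hf'.comp (mor_cj' F Q' _) (isoOn_cj (P := Q') (y1 c)).maps', i.trans (isoOn_cj _), k1⟩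
  obtain ⟨iV, iA⟩ := ivQ' (CL.U5.au_pair i0)
  have wV := fun x (hx : x ∈ sV) => iV w (Or.inl rfl) x (VQ hx) hx
  have wV' := fun x (hx : x ∈ sV) => iV w' (Or.inr rfl) x (VQ hx) hx
  have wY : ∀ y ∈ sY5, w' y ∈ sZ := fun y hy => by
    obtain ⟨c, e⟩ := (Finite.injective_iff_surjective (f := fun c : K => (w (y3 c)).w)).1 (fun a b e =>
      congrArg U.v (i0.injOn (ZQ (y3Z a)) (ZQ (y3Z b)) (eqV (YV (wZ _ (y3Z _))) (YV (wZ _ (y3Z _)))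
        ((wZ _ (y3Z _)).2.2.1.trans (wZ _ (y3Z _)).2.2.1.symm) e))) y.w
    rw [← eqV (YV (wZ _ (y3Z _))) (YV hy) ((wZ _ (y3Z _)).2.2.1.trans hy.2.2.1.symm) e, i0.left _ rfl]
    exact y3Z _
  have e0 : ∀ a x, x ∈ Q' → ⁅a, w' x⁆ ∈ Q' → w (cj a (w' x)) = w ⁅a, w' x⁆ * x := fun a x hx e => by
    rw [cj_eq_br, i0.map_mul e (i0.maps' x hx), i0.right x hx]
  have ua : ∀ a : K, ∃ s : K, ∀ x ∈ sV, w (cj (y1 a) (w' x)) ∈ sV ∧ (w (cj (y1 a) (w' x))).v = x.v ∧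
      (w (cj (y1 a) (w' x))).w = s * x.v + x.w := fun a => by
    have ia := (i0.symm.trans (isoOn_cj (y1 a))).trans i0
    have e1 : ∀ x ∈ sV, (w (cj (y1 a) (w' x))).v = x.v := fun x hx => by
      have k := brVZ (y1 a) (wV' x hx)
      rw [e0 _ _ (VQ hx) (ZQ k), (mulA (sV_le_sA (YV (wZ _ k))) (sV_le_sA hx)).1, (wZ _ k).2.2.1, zero_add]
    obtain ⟨x, y, k⟩ := map_Z ia
    have x0 : x ≠ 0 := fun e => by
      obtain ⟨-, e', k, -⟩ := k _ (y3Z 1)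
      exact one_ne_zero ((e1 _ (y3V _)).symm.trans (k.trans (by rw [e, zero_mul])))
    refine ⟨y / x, fun z hz => ⟨wV _ (cjV _ (wV' z hz)).1, e1 z hz, ?_⟩⟩
    obtain ⟨v, e, k1, k2⟩ := k _ (y3Z z.v)
    have k3 := ia.map_mul (show y3 z.v ∈ Q' from rfl) (show y5 z.w ∈ Q' from rfl)
    rw [← eqV hz (mul_mem (y3V z.v) (y5V z.w)) (by gus) (by gus)] at k3
    have k4 : w (cj (y1 a) (w' (y5 z.w))) = y5 z.w := by
      rw [cj_eq_self_iff.2 (comm_Z _ (wY _ ⟨rfl, rfl, rfl, rfl, rfl⟩)), i0.right _ rfl]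
    simp only [Function.comp] at k1 k2 k3 v
    rw [e1 _ (y3V _), y3_v] at k1
    rw [k3, k4, (mulA (sV_le_sA v) (sV_le_sA (y5V _))).2, k2, k1, y5_w]
    field_simp
  choose t ht using ua
  obtain ⟨a, ha⟩ := (Finite.injective_iff_surjective (f := t)).1 (fun a b e => by
    have v := wV _ (y5V 1)
    have := eqV (ht a _ v).1 (ht b _ v).1 ((ht a _ v).2.1.trans (ht b _ v).2.1.symm) (by rw [(ht a _ v).2.2, (ht b _ v).2.2, e])
    rw [i0.left _ rfl] at this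
    have := congrArg U.v (i0.injOn (VQ (cjV _ (y5V _)).1) (VQ (cjV _ (y5V _)).1) this)
    rw [(cjV _ (y5V _)).2.1, (cjV _ (y5V _)).2.1] at this
    simpa using this) s
  have q := fun x => (isoOn_cj (P := Q' (K := K)) x).maps
  refine ⟨cj (y1 (-1 / s)) ∘ w ∘ cj (y1 a) ∘ w' ∘ cj (y1 (-1 / s)),
    (m.comp ((m'.comp (mor_cj' F _ _) (q _)).cj_comp trivial) fun g hg => q _ _ (i0.maps' _ (q _ g hg))).cj_comp trivial,
    fun g hg => q _ _ (i0.maps _ (q _ _ (i0.maps' _ (q _ g hg)))), fun x hx => ?_, fun x hx => ?_⟩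
  · obtain ⟨k1, k2⟩ := cjA (y1 (-1 / s)) hx
    have k3 := brAV (y1 a) (iA w' (Or.inr rfl) _ (AQ k1) k1)
    have k4 := mul_mem (sV_le_sA (wV _ k3)) k1
    simp only [Function.comp]
    rw [e0 _ _ (AQ k1) (VQ k3)]
    exact ⟨(cjA _ k4).1, by rw [(cjA _ k4).2, mulVA (wV _ k3) k1, k2]⟩
  · obtain ⟨k1, k2, k3⟩ := cjV (y1 (-1 / s)) hx
    obtain ⟨k4, k5, k6⟩ := ht a _ k1
    simp only [Function.comp]
    rw [(cjV _ k4).2.1, (cjV _ k4).2.2, k5, k6, ha, k2, k3, y1_u]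
    constructor <;> field_simp <;> ring

theorem QP5.stabQ' (hF : F.IsSaturated p) (hS : Std F) (hc : F.IsCentric Q') {f : U K → U K} (hf : Mor F Q' f)
    (h : ∀ x ∈ Q', f x ∈ Q') (h3 : ∀ x ∈ sZ, f x ∈ sZ) (h5 : ∀ x ∈ sY5, f x ∈ sY5) :
    ∃ x ∈ Q', ∃ a d ρ k, Mor F ⊤ (dd (K := K) a d ρ k) ∧ ∀ g ∈ Q', f g = cj x (dd a d ρ k g) := by
  obtain ⟨k, hk, e⟩ := extQ' hF hc hf h h3
  obtain ⟨x, a, d, ρ, ok, hd, hx⟩ := dd_mem hS hk
  refine ⟨x, ?_, a, d, ρ, ok, hd, fun g hg => by rw [← e hg, hx]⟩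
  have e1 := (h5 (y5 1) ⟨rfl, rfl, rfl, rfl, rfl⟩).2.2.1
  rw [← e (show y5 1 ∈ Q' from rfl), hx, (cjV _ (mV _ (y5V _))).2.1] at e1
  simpa [ok.a0, ok.d0, mem_Q'] using e1

/-- D3/QP `stabQ'`, `dd_eq_of_A` (`a d²`, `a² d³`, `a d³` determine `a`, `d`), `hb_mem` -/
theorem hb_mem (hF : F.IsSaturated p) (hS : Std F) (hE : F.IsEssential p Q') : Hb F := by
  intro c h
  have c0 : c ≠ 0 := by simpa using h.d0
  obtain ⟨n, m, q, a1, v1⟩ := exists_ns hF hE (s := -1 / c) (by simp [c0])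
  obtain ⟨n', m', q', a2, v2⟩ := exists_ns hF hE one_ne_zero
  have k : ∀ x ∈ sV, n (n' x) ∈ sV ∧ (n (n' x)).v = c * x.v ∧ (n (n' x)).w = c⁻¹ * x.w := fun x hx => by
    have k1 := mem_V (a2 x (sV_le_sA hx)).1 ((a2 x (sV_le_sA hx)).2.trans hx.2.2.1)
    refine ⟨mem_V (a1 _ (sV_le_sA k1)).1 ((a1 _ (sV_le_sA k1)).2.trans k1.2.2.1), ?_⟩
    rw [(v1 _ k1).1, (v1 _ k1).2, (v2 x hx).1, (v2 x hx).2]
    constructor <;> field_simp
  obtain ⟨x, hx, a, d, ρ, ok, hd, e⟩ := stabQ' hF hS (centric_of hF hE) (m.comp m' q') (fun x hx => q _ (q' x hx))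
    (fun x hx => mem_Z (k x (sZ_le_sV hx)).1 ((k x (sZ_le_sV hx)).2.2.trans (by rw [hx.2.2.2.1, mul_zero])))
    fun x hx => mem_Y (k x (YV hx)).1 ((k x (YV hx)).2.1.trans (by rw [hx.2.2.1, mul_zero]))
  obtain ⟨e1, e2, e3⟩ := dd_eq_of_A (ρ := ρ) (ρ' := 1) ok h (fun r => by
      have := congrArg U.r (e (y4 r) rfl)
      rw [(cjA _ (mA _ (y4A r))).2, Function.comp, (a1 _ (a2 _ (y4A r)).1).2, (a2 _ (y4A r)).2, dd_r, y4_r] at this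
      rw [← this, RingAut.one_apply]; field_simp)
    (by
      have := congrArg U.v (e (y3 1) rfl)
      rw [cjV' hx (mV _ (y3V _)), Function.comp, (k _ (y3V _)).2.1, dd_v, y3_v, map_one, mul_one, mul_one] at this
      rw [← this]; field_simp)
    (by
      have := congrArg U.w (e (y5 1) rfl)
      rw [cjV' hx (mV _ (y5V _)), Function.comp, (k _ (y5V _)).2.2, dd_w, y5_w, map_one, mul_one, mul_one] at this
      rw [← this]; field_simp)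
  rwa [dd_congr ok h e1 e2 e3] at hd

/-- Proof. `ε` fixes `s, t` (`br_Q'A`, as in D3). Use `δ₁ = dd 1 (-1)` (weights on `s r t v w`: `- + - - -`), `δ₂ = dd 4 2⁻¹` (`2, 1, 1/2, 2, 1/2`), `δ₃ = dd (-1) 1` (`- - + + -`).
`ε (y2 s)`: `r` is additive in `s`, `δ₁` gives `r (-s) = r s`, so `r = 0`; then `v`, `w` are additive, `δ₃`: `v (-s) = v s`, `v = 0`; `δ₂`: `2 w s = w (2 s) = w s / 2`, `w = 0` (`3 ≠ 0`).
`ε (y6 t)`: `r = 0` by `δ₁`; `δ₂`: `v (t / 2) = 2 v t`, so `v t = 4 v t`; `δ₃`: `w t = -w t`. `ε (y4 r)`: `δ₁` fixes `y4 r` and negates `v`, `w`. `eq_prod`. -/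
theorem rigidQ' (ε : U K → U K) (h1 : IsHomOn Q' ε) (h0 : ∀ g ∈ Q', ε g ∈ Q')
    (h2 : ∀ a d (h : Ok a d), (a = 1 ∧ d = -1) ∨ (a = 4 ∧ d = 2⁻¹) ∨ (a = -1 ∧ d = 1) → ∀ g ∈ Q', ε (dd a d 1 h g) = dd a d 1 h (ε g))
    (h3 : ∀ g ∈ sV, ε g = g) (h4 : ∀ g ∈ sA, ε g ∈ sA ∧ (ε g).r = g.r) : ∀ g ∈ Q', ε g = g := by
  have n2 := two_ne (K := K)
  have n3 := three_ne (K := K)
  have st : ∀ g ∈ Q', (ε g).s = g.s ∧ (ε g).t = g.t := fun g hg => by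
    have := h3 _ (brAV g (y4A 1))
    rw [h1.map_commutator hg rfl, br_Q'A (h0 g hg) (h4 _ (y4A 1)).1, br_Q'A hg (y4A 1), (h4 _ (y4A 1)).2] at this
    simpa [n3] using this
  have u0 : ∀ g ∈ Q', (ε g).u = 0 := h0
  have d1 := h2 1 (-1) ⟨one_ne_zero, by simp⟩ (Or.inl ⟨rfl, rfl⟩)
  have o2 : Ok (4 : K) 2⁻¹ := ⟨fun e => mul_ne_zero n2 n2 (by linear_combination e), by simp [n2]⟩
  have d2 := h2 4 2⁻¹ o2 (Or.inr (Or.inl ⟨rfl, rfl⟩))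
  have d3 := h2 (-1) 1 ⟨by simp, one_ne_zero⟩ (Or.inr (Or.inr ⟨rfl, rfl⟩))
  have q2 : ∀ a, y2 a ∈ Q' (K := K) := fun _ => rfl
  have q4 : ∀ a, y4 a ∈ Q' (K := K) := fun _ => rfl
  have q6 : ∀ a, y6 a ∈ Q' (K := K) := fun _ => rfl
  have e2 : ∀ a, ε (y2 a) = y2 a := fun a => by
    have k1 := d1 _ (q2 a)
    have k2 := d2 _ (q2 a)
    have k3 := d3 _ (q2 a)
    rw [show dd _ _ _ _ (y2 a) = (y2 a)⁻¹ by gds; gus; simp, h1.map_inv (q2 a)] at k1 k3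
    rw [show dd _ _ _ _ (y2 a) = y2 a * y2 a by gds; gus; field_simp; ring, h1 (q2 a) (q2 a)] at k2
    have s := st _ (q2 a)
    gds at k1 k2 k3 s ⊢
    simp only [u0 _ (q2 a), s] at k1 k2 k3 ⊢
    obtain ⟨-, -, -, r, -, -⟩ := k1
    obtain ⟨-, -, -, -, w, -⟩ := k2
    obtain ⟨-, -, v, -, -, -⟩ := k3
    field_simp at w
    have r0 : (ε (y2 a)).r = 0 := mul_left_cancel₀ n2 (by linear_combination -r)
    exact ⟨trivial, trivial, mul_left_cancel₀ n2 (by linear_combination -v + 3 * a * r0), r0,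
      mul_left_cancel₀ (mul_ne_zero (mul_ne_zero n2 n2) n3) (by linear_combination w), trivial⟩
  have e6 : ∀ a, ε (y6 a) = y6 a := fun a => by
    have k1 := d1 _ (q6 a)
    have k2 := h1 (mQ' (dd 4 2⁻¹ 1 o2) (q6 a)) (mQ' (dd 4 2⁻¹ 1 o2) (q6 a))
    have k3 := d3 _ (q6 a)
    rw [show dd _ _ _ _ (y6 a) = (y6 a)⁻¹ by gds; gus; simp, h1.map_inv (q6 a)] at k1
    rw [show dd _ _ _ _ (y6 a) * dd _ _ _ _ (y6 a) = y6 a by gds; gus; field_simp; ring, d2 _ (q6 a)] at k2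
    rw [show dd _ _ _ _ (y6 a) = y6 a by gds; gus] at k3
    have s := st _ (q6 a)
    gds at k1 k2 k3 s ⊢
    simp only [u0 _ (q6 a), s] at k1 k2 k3 ⊢
    obtain ⟨-, -, -, r, -, -⟩ := k1
    obtain ⟨-, -, v, -, -, -⟩ := k2
    obtain ⟨-, -, -, -, w, -⟩ := k3
    field_simp at v
    exact ⟨trivial, trivial, mul_left_cancel₀ (mul_ne_zero (pow_ne_zero 3 n2) n3) (by linear_combination -v),
      mul_left_cancel₀ n2 (by linear_combination -r), mul_left_cancel₀ n2 (by linear_combination w), trivial⟩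
  have e4 : ∀ a, ε (y4 a) = y4 a := fun a => by
    have k1 := d1 _ (q4 a)
    rw [show dd _ _ _ _ (y4 a) = y4 a by gds; gus; simp] at k1
    have s := st _ (q4 a)
    have r := (h4 _ (y4A a)).2
    gds at k1 s r ⊢
    simp only [u0 _ (q4 a), s, r] at k1 ⊢
    exact ⟨trivial, trivial, mul_left_cancel₀ n2 (by linear_combination k1.2.2.1), trivial,
      mul_left_cancel₀ n2 (by linear_combination k1.2.2.2.2.1), trivial⟩
  intro g hg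
  have e : g = y2 g.s * (y3 g.v * (y4 g.r * (y5 g.w * y6 g.t))) := by gus; exact hg
  have q3 := VQ (y3V g.v)
  have q5 := VQ (y5V g.w)
  rw [e, h1 (q2 _) (mul_mem q3 (mul_mem (q4 _) (mul_mem q5 (q6 _)))), h1 q3 (mul_mem (q4 _) (mul_mem q5 (q6 _))),
    h1 (q4 _) (mul_mem q5 (q6 _)), h1 q5 (q6 _), e2, e4, e6, h3 _ (y3V _), h3 _ (y5V _)]

/-- D3/QP `wb_mem`; for `δ = dd a d 1 ∈ F` the partner is `δ' = dd a⁻¹ (a d) 1` (`wb_dd`, `dd_eq_of_A`); `δ₁ = h_b(-1)`, `δ₂ = h_b(2)` lie in `F` by `hb_mem`, `δ₃` by `hm` -/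
theorem wb_mem (hF : F.IsSaturated p) (hS : Std F) (hE : F.IsEssential p Q') (hm : ∀ h : Ok (-1 : K) 1, Mor F ⊤ (dd (-1) 1 1 h)) :
    Mor F Q' wb := by
  obtain ⟨n, m, q, a1, v1⟩ := exists_ns hF hE (s := -1) (by simp)
  obtain ⟨n', m', i⟩ := exists_isoOn m q
  obtain ⟨iV, -⟩ := ivQ' (CL.U5.au_pair i)
  have nV := fun x (hx : x ∈ sV) => iV n (Or.inl rfl) x (VQ hx) hx
  have nV' := fun x (hx : x ∈ sV) => iV n' (Or.inr rfl) x (VQ hx) hx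
  have v2 : ∀ x ∈ sV, (n x).v = x.w ∧ (n x).w = -x.v := fun x hx => by simpa using v1 x hx
  have v3 : ∀ x ∈ sV, x.v = (n' x).w ∧ x.w = -(n' x).v := fun x hx => by simpa [i.right x (VQ hx)] using v2 _ (nV' x hx)
  obtain ⟨u, hu, hn⟩ := CL.D3.exists_norm (isPGroup_U p) (coprime_DF hF) (fun α _ g hg => mQ' α hg) i fun α hα => by
    obtain ⟨⟨a, d, ρ, ok, rfl⟩, hd⟩ := hα
    obtain ⟨u, hu, a', d', ρ', ok', hd', e⟩ := stabQ' hF hS (centric_of hF hE)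
      (m.comp ((hd.mono le_top).comp m' i.maps') fun x hx => mQ' _ (i.maps' x hx)) (fun x hx => q _ (mQ' _ (i.maps' x hx)))
      (fun x hx => have k := mV (dd a d ρ ok) (nV' x (sZ_le_sV hx)); mem_Z (nV _ k) ((v2 _ k).2.trans (by
        rw [dd_v, neg_eq_zero.1 ((v3 x (sZ_le_sV hx)).2.symm.trans hx.2.2.2.1)]; simp)))
      fun x hx => have k := mV (dd a d ρ ok) (nV' x (YV hx)); mem_Y (nV _ k) ((v2 _ k).1.trans (by
        rw [dd_w, ← (v3 x (YV hx)).1, hx.2.2.1]; simp))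
    exact ⟨u, hu, _, ⟨⟨_, _, _, ok', rfl⟩, hd'⟩, fun g hg => by simpa only [Function.comp, i.left g hg] using e _ (q g hg)⟩
  have q' : ∀ g ∈ Q', cj u (n g) ∈ Q' := fun g hg => cj_mem hu (q g hg)
  have NV : ∀ g ∈ sV, cj u (n g) = n g := fun g hg => cjV' hu (nV g hg)
  have NA : ∀ g ∈ sA, cj u (n g) ∈ sA ∧ (cj u (n g)).r = g.r := fun g hg =>
    ⟨(cjA u (a1 g hg).1).1, (cjA u (a1 g hg).1).2.trans (a1 g hg).2⟩
  refine (m.cj_comp (s := u) trivial).congr fun g hg => (isoOn_wb.right _ (q' g hg)).symm.trans (congrArg wb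
    (rigidQ' (wb' ∘ cj u ∘ n) (isoOn_wb.hom'.comp (m.cj_comp (s := u) trivial).isHomOn q') (fun _ _ => rfl) (fun a d h o x hx => ?_)
      (fun x hx => ?_) (fun x hx => ?_) g hg))
  · have hb : ∀ c a d (h : Ok a d), a = c ^ 2 → d = c⁻¹ → Mor F ⊤ (dd a d 1 h) := by
      rintro c _ _ h rfl rfl; exact hb_mem hF hS hE c h
    have hδ : Mor F ⊤ (dd a d 1 h) := by
      rcases o with ⟨e1, e2⟩ | ⟨e1, e2⟩ | ⟨rfl, rfl⟩
      exacts [hb (-1) a d h (by simp [e1]) (by simp [e2]), hb 2 a d h (by rw [e1]; norm_num) e2, hm h]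
    obtain ⟨_, ⟨⟨a', d', ρ', ok', rfl⟩, -⟩, e⟩ := hn _ ⟨⟨_, _, _, h, rfl⟩, hδ⟩
    have a0 := h.a0
    have h' : Ok a⁻¹ (a * d) := ⟨inv_ne_zero a0, mul_ne_zero a0 h.d0⟩
    obtain ⟨e1, e2, e3⟩ := dd_eq_of_A (ρ := ρ') (ρ' := 1) ok' h' (fun r => by
        have := congrArg U.r (e (y4 r) rfl)
        rw [(NA _ (mA _ (y4A r))).2, dd_r, dd_r, (NA _ (y4A r)).2, y4_r] at this
        rw [← this]; field_simp)
      (by
        have := congrArg U.v (e (y5 1) rfl)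
        rw [NV _ (mV _ (y5V _)), NV _ (y5V _), (v2 _ (mV _ (y5V _))).1, dd_v, dd_w, (v2 _ (y5V _)).1, y5_w, map_one, map_one,
          mul_one, mul_one] at this
        rw [← this]; field_simp)
      (by
        have := congrArg U.w (e (y3 1) rfl)
        rw [NV _ (mV _ (y3V _)), NV _ (y3V _), (v2 _ (mV _ (y3V _))).2, dd_v, dd_w, (v2 _ (y3V _)).2, y3_v, map_neg, map_one,
          map_one, mul_one, mul_neg, mul_one, neg_inj] at this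
        rw [← this]; field_simp)
    have := wb_dd 1 h h' (isoOn_wb.maps' _ (q' x hx))
    rw [isoOn_wb.right _ (q' x hx)] at this
    simp only [Function.comp]
    rw [e x hx, dd_congr ok' h' e1 e2 e3, ← this, isoOn_wb.left _ (mQ' _ rfl)]
  · have k := nV x hx
    simp only [Function.comp]
    rw [NV x hx]
    gms at k hx; gds; simp [k, hx, v2 x hx]
  · have k := NA x hx
    simp only [Function.comp]
    exact ⟨⟨rfl, k.1.2.2, neg_eq_zero.2 k.1.2.1⟩, by rw [wb'_r, k.2, k.1.2.2]; simp⟩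

/-- `line_cases`, `extQ'`; `wb Y₅ ≤ Z` (see `le_of_gen` in D3/Real) -/
theorem genQ' (hF : F.IsSaturated p) (hE : F.IsEssential p Q') (hb : Mor F Q' wb) : GenQ' F := by
  intro f hf m
  obtain ⟨f', -, i⟩ := exists_isoOn hf m
  refine (line_cases i).imp (extQ' hF (centric_of hF hE) hf m) fun ⟨c, k⟩ => ?_
  have m1 : ∀ x ∈ Q', cj (y1 c) (f x) ∈ Q' := fun x hx => (isoOn_cj (y1 c)).maps _ (m x hx)
  obtain ⟨g, hg, e⟩ := extQ' hF (centric_of hF hE) (hb.comp (hf.cj_comp (s := y1 c) trivial) m1) (fun _ _ => rfl) fun x hx => by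
    obtain ⟨-, e2, e3, e4, e5⟩ := k x hx
    exact ⟨rfl, by simp [e5], by simp [e2, e4], by simp [e2, e3, e5], e2⟩
  exact ⟨c, g, hg, fun x hx => e hx⟩

end CL.G2F
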