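/-
S5211: essential subgroups inside `Q` or `Q'`, `p ≥ 5` (models: FUS/D3/EsA, EsB1, EsB2).
-/
import Cfsg.Agent.FUS.G2.Aut5
import Cfsg.Agent.FUS.D3.Es

set_option autoImplicit false
set_option linter.unusedSimpArgs false
set_option linter.unusedSectionVars false

namespace CL.G2F

open CL.Fus CL.RF4 CL.D3 Subgroup Cfsg Cfsg.FusionSystem
open scoped commutatorElement

variable {K : Type*} [Field K] [Finite K] [P5 K] {p : ℕ} [Fact p.Prime] [CharP K p] {F F' : FusionSystem (⊤ : Subgroup (U K))}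
  {P : Subgroup (U K)} {A H : Set (U K → U K)}

namespace EsBx

variable {g h : U K}

theorem crd_n (c : U K → K) (g : U K) (e0 : c 1 = 0) (e : ∀ n : ℕ, c (g ^ n * g) = c (g ^ n) + c g) (n : ℕ) : c (g ^ n) = n * c g := by
  induction n with
  | zero => simp [e0]
  | succ n ih => rw [pow_succ, e, ih]; push_cast; ring

theorem pow_Q (hg : g ∈ Q) : (g ^ p).v = 0 := by
  have k := fun n => mem_Q.1 (pow_mem hg n)
  have kr := crd_n U.r g rfl fun n => by simp [U.mul_r, k n]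
  have kw := crd_n U.w g rfl fun n => by simp [U.mul_w, k n]
  have : ∀ n : ℕ, 2 * (g ^ n).v = n * (2 * g.v + (n - 1) * (3 * g.s * g.r - g.u * g.w)) := fun n => by
    induction n with
    | zero => simp
    | succ n ih => rw [pow_succ, U.mul_v, k n, kr, kw]; push_cast; linear_combination ih
  exact (mul_eq_zero.1 ((this p).trans (by rw [CharP.cast_eq_zero, zero_mul]))).resolve_left two_ne

theorem brA (hg : g ∈ Q') (hh : h ∈ Q') : ⁅g, h⁆ ∈ sA :=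
  ⟨br_u g h, by rw [br_s, mem_Q'.1 hg, mem_Q'.1 hh]; simp, br_t g h⟩

theorem br_r' (hg : g ∈ Q') (hh : h ∈ Q') : ⁅g, h⁆.r = 2 * (h.s * g.t - g.s * h.t) := by
  rw [br_r, mem_Q'.1 hg, mem_Q'.1 hh]; ring

theorem brV (hg : g ∈ Q') (hh : h ∈ Q') : ⁅g, h⁆ ∈ sV ↔ h.s * g.t = g.s * h.t := by
  have := brA hg hh
  rw [mem_sV, br_r' hg hh]
  simp only [this.1, this.2.1, this.2.2, true_and, and_true, mul_eq_zero, two_ne, false_or, sub_eq_zero]

theorem brR (g : U K) (hh : h ∈ sR) : ⁅g, h⁆ ∈ sA := ⟨br_u g h, by rw [br_s, hh.1, hh.2]; simp, br_t g h⟩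

theorem brR_r (g : U K) (hh : h ∈ sR) : ⁅g, h⁆.r = 2 * (h.s * g.t) := by rw [br_r, hh.1, hh.2]; ring

theorem brRV (g : U K) (hh : h ∈ sR) : ⁅g, h⁆ ∈ sV ↔ h.s * g.t = 0 := by
  have := brR g hh
  rw [mem_sV, brR_r g hh]
  simp only [this.1, this.2.1, this.2.2, true_and, and_true, mul_eq_zero (a := (2 : K)), two_ne, false_or]

theorem brAV (g : U K) (hh : h ∈ sA) : ⁅g, h⁆ ∈ sV := (brRV g (sA_le_sR hh)).2 (by rw [hh.2.1, zero_mul])

theorem brQZ (hg : g ∈ Q) (hh : h ∈ Q) : ⁅g, h⁆ ∈ sZ := by rw [br_Q hg hh]; exact ⟨rfl, rfl, rfl, rfl, rfl⟩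

theorem brVZ (g : U K) (hh : h ∈ sV) : ⁅g, h⁆ ∈ sZ := by rw [br_V g hh]; exact ⟨rfl, rfl, rfl, rfl, rfl⟩

theorem mr (hg : g ∈ sA) (h : U K) : (g * h).r = g.r + h.r := by rw [U.mul_r, hg.2.2]; ring

theorem cj_br (x g : U K) : cj x g = ⁅x, g⁆ * g := by simp [cj, commutatorElement_def]

theorem br1 (e : g * h = h * g) : ⁅g, h⁆ = 1 := commutatorElement_eq_one_iff_mul_comm.2 e

theorem six (e : (3 : K) = -3) : False := mul_ne_zero two_ne three_ne (by linear_combination e)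

theorem iv_V (c : Cx p ⊤ P A H) (hP : P ≤ Q') (hO : Omp p P ≤ sV) : Ivs P A sV :=
  (iv_Omp c.toAu).congr (fun _ _ => ⟨fun e => hO e, fun e => V_le_Om c hP e⟩) c.toAu

theorem comm_Y6 (hg : g ∈ sY6) (hh : h ∈ sY6) : g * h = h * g := by
  rw [mem_sY6] at hg hh; gcs; simp only [hg, hh]; gus; and_intros <;> ring

/-- the form on `Q / Z` -/
def bQ (K : Type*) [Field K] : LinearMap.BilinForm K (K × K × K × K) :=
  LinearMap.mk₂ K (fun x y => x.1 * y.2.2.2 - y.1 * x.2.2.2 + 3 * (y.2.1 * x.2.2.1) - 3 * (x.2.1 * y.2.2.1))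
    (fun _ _ _ => by simp; ring) (fun _ _ _ => by simp; ring) (fun _ _ _ => by simp; ring) fun _ _ _ => by simp; ring

end EsBx

open EsBx

/-- `CL.D3.es` with `R = Q`, `V₀ = Z₀ = Z`, `W = K × K × K × K` (or `Fin 4 → K`), `b = bf`, `z = y3`, `κ = 0` (`g ^ p = 1` on `Q`: `(g ^ n).v = n v + C(n, 2) c`, `p` odd; D3/EsA `pow_Q`, `esQ`) -/
theorem esQ (h : Cx p ⊤ P A H) (hP : P ≤ Q) : P = Q := by
  refine es h (k := K) (W := K × K × K × K) (V₀ := sZ) (Z₀ := sZ) le_top hP (fun v hv => (Z_le_Om h hv).1)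
    (sZ_le_sV.trans (sV_le_sA.trans (sA_le_sR.trans sR_le_Q))) le_rfl (fun g => (g.u, g.s, g.r, g.w))
    (fun g hg g' hg' => by simp [U.mul_u, U.mul_s, U.mul_r, U.mul_w, mem_Q.1 hg])
    (fun x => ⟨⟨x.1, x.2.1, 0, x.2.2.1, x.2.2.2, 0⟩, rfl, rfl⟩)
    (fun g hg => by simp [mem_sZ, mem_Q.1 hg]) (bQ K) (fun x => by simp [bQ]) (fun x e => ?_)
    y3 (fun c => by gcs; simp) (fun g => ⟨fun hg => ⟨g.v, by gms at hg; gcs; simp [hg]⟩,
      by rintro ⟨c, rfl⟩; exact ⟨rfl, rfl, rfl, rfl, rfl⟩⟩) (fun g hg g' hg' => by rw [br_Q hg hg']; rfl)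
    (fun _ => 0) (fun g hg => ?_) (fun c x => by simp) (by simp)
  · refine Prod.ext ?_ (Prod.ext ?_ (Prod.ext ?_ ?_))
    · simpa [bQ] using e (0, 0, 0, 1)
    · simpa [bQ, three_ne] using e (0, 0, 1, 0)
    · simpa [bQ, three_ne] using e (0, 1, 0, 0)
    · simpa [bQ] using e (1, 0, 0, 0)
  · have z := pow_mem_sZ (p := p) hg
    exact U.ext z.1 z.2.1 (pow_Q hg) z.2.2.1 z.2.2.2.1 z.2.2.2.2

/-- Proof. `Z = Z(Q)` (`Au.iv_Zn`), `R₀ = C_Q(V)` are invariant. `ff1` with `G = ⊤`, `B = V`, `C = R₀`, `M = A₀` (`br_r`: `2 s t`; `|R₀ : A₀| = q = |S : Q|`; chains `⊥ < Z < V`, `R₀ < ⊤`). `e5`: `h = α` on `Q`, `aut_form`: `Sm α (dd a d ρ)`.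
Last clause for `R₀ < ⊤`: `a ρ u = u`, so `a = 1`, `ρ = 1`; first clause: `a d s = -s`; second clause (`g = y6 1`, `w = y2 1`): `a d² r = -r`; so `d = -1`, `1 = -1`. -/
theorem stabV (h : Cx p ⊤ (Q (K := K)) A H) (ext : ∀ f ∈ H, ∃ α : MulAut (U K), ∀ y ∈ Q, f y = α y) (hV : Ivs Q A sV) : False := by
  have iZ : Ivs Q A (sZ (K := K)) := h.iv_Zn.congr (fun y hy => ⟨fun e => by
      have k := fun x hx => (comm_Q hy hx).1 (e.2 x hx)
      exact ⟨by simpa [bf] using k (y5 1) rfl, by simpa [bf, three_ne] using k (y4 1) rfl,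
        by simpa [bf, three_ne] using k (y2 1) rfl, by simpa [bf] using k (y1 1) rfl, hy⟩,
    fun e => ⟨hy, fun x _ => (comm_Z x e).symm⟩⟩) h.toAu
  have iR : Ivs Q A (sR (K := K)) := (h.iv_cent hV).congr (fun y hy => ⟨fun e => ⟨by
      simpa [bf] using (comm_Q hy rfl).1 (e (y5 1) rfl ⟨rfl, rfl, rfl, rfl⟩), hy⟩,
    fun e x _ hx => comm_V (sR_le_Q' e) hx⟩) h.toAu
  have F := h.ff1 ⊤ sV sR sA
    { le := sV_le_sA.trans sA_le_sR, le' := sR_le_Q, ivB := hV, ivC := iR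
      cen := fun x hx y hy => sZ_le_sV (brQZ hx (sR_le_Q hy))
      exp := fun y hy => sZ_le_sV (pow_mem_sZ (sR_le_Q hy))
      GP := le_top
      Gn := fun g _ y _ => br_t g y
      Gc := fun g _ y _ => br_t g y
      Gp := fun g _ => sR_le_Q (pow_mem_sR g)
      ne := fun e => one_ne_zero (mem_Q.1 (e (mem_top (y6 1))))
      hM := fun w hw => ⟨fun e g _ => brAV g e, fun e => ⟨hw.1, by simpa using (brRV (y6 1) hw).1 (e _ trivial), hw.2⟩⟩
      idx := (relIndex_le_card U.s fun m hm m' hm' e => by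
        gms at hm hm' ⊢; gcs; simp only [hm, hm', e]; gus).trans
        (card_le_relIndex y6 (fun _ => trivial) fun i j e => by rw [mem_Q] at e; gus at e; exact neg_add_eq_zero.1 e) }
    ((Chs.base h.toAu iZ fun g _ y _ hy => comm_Z g hy).step iZ hV fun g _ y _ hy => brVZ g hy)
    (Chs.top iR fun g _ y _ => ⟨br_u g y, br_t g y⟩)
  obtain ⟨f, h1, -, h2, h3, -, h4⟩ := F.e5 (p_ne_two (K := K))
  obtain ⟨α, e⟩ := ext f h1
  obtain ⟨a, d, ρ, ok, sm⟩ := aut_form α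
  have e1 := (h4 sR ⊤ ⟨iR, Iv.top, fun g _ y _ _ => ⟨br_u g y, br_t g y⟩⟩ (y1 1) rfl trivial).1
  have e2 := (h2 (y2 1) ⟨rfl, rfl⟩).2.1
  have m := brR (y6 (1 : K)) (h := y2 1) ⟨rfl, rfl⟩
  have e3 := (h3 (y6 1) trivial (y2 1) ⟨rfl, rfl⟩).2.2.1
  rw [e _ rfl, U.mul_u, (sm _).1] at e1
  rw [e _ rfl, U.mul_s, (sm _).2.2.1 ⟨rfl, rfl⟩] at e2
  rw [e _ m.2.2, mr m, (sm _).2.2.2.1 m, dd_r, brR_r _ ⟨rfl, rfl⟩] at e3
  simp only [U.inv_u, dd_u, dd_s, y1_u, y2_s, y2_t, y6_t, map_one, mul_one, map_ofNat, mul_zero] at e1 e2 e3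
  exact mul_ne_zero (two_ne (K := K)) two_ne (by linear_combination e3 - 2 * (d - 1) * e2 - 2 * d * e1)

/-- Proof. `O = Omp p P ≥ V` (`V_le_Om`). `A₀ ≤ P` (`mem2`, `B = O`, `D = V`). `O ≤ V`: `z ∈ O ≤ A₀` commutes with `g ∈ P`, `g.t ≠ 0` (`br_Q'A`). If `h.s g.t ≠ g.s h.t` for some `g, h ∈ P`, then `Zq P V = A₀` is invariant and `Q' ≤ P` (`mem3`, `B = V`, `C = A₀`).
Else `c = g.s / g.t` (`cj1_s`), `P₁ = img (cj (y1 c)) P ≤ R_∞` has a context (`h (y1 c)`), `A₀ ≤ P₁`, `Omp p P₁ = V` again, `R_∞ ≤ P₁` (`mem2`, `B = V`, `D = V`). -/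
theorem esB0 (h : Es p P) (hP : P ≤ Q') (hQ : ¬ P ≤ Q) (hO : Omp p P ≤ sA) : P = Q' ∨ ∃ c, img (cj (y1 c)) P = sRi := by
  obtain ⟨A, H, c⟩ := h.cy
  replace c := c.toCx
  obtain ⟨g, hg, gt⟩ := SetLike.not_le_iff_exists.1 hQ
  have hA : sA ≤ P := fun a ha => c.mem2 trivial (iv_Omp c.toAu) (fun y _ hy => comm_A ha (hO hy)) (V_le_Om c hP)
    (fun v hv => (V_le_Om c hP hv).1) fun y _ => br_symm (brAV y ha)
  have hV : Omp p P ≤ sV := fun z hz => by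
    have := congrArg U.w ((br_Q'A (hP hg) (hO hz)).symm.trans (br1 (hz.2.2 g hg).symm))
    exact ⟨(hO hz).1, (hO hz).2.1, by simpa [three_ne, show g.t ≠ 0 from gt] using this, (hO hz).2.2⟩
  have iV := iv_V c hP hV
  by_cases k : ∀ y ∈ P, y.s * g.t = g.s * y.t
  · obtain ⟨A', H', c'⟩ := h (y1 (g.s / g.t))
    have le : img (cj (y1 (g.s / g.t))) P ≤ sRi := img_le_iff.2 fun x hx => ⟨by rw [cj1_u]; exact hP hx, by
      rw [cj1_s, div_mul_eq_mul_div, ← k x hx, mul_div_cancel_right₀ _ gt, sub_self]⟩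
    refine .inr ⟨_, le.antisymm fun x hx => c'.mem2 trivial (iv_V c'.toCx (img_cj_le.2 hP) fun z hz => ?_)
      (fun y _ hy => comm_V hx.1 hy) le_rfl (le_img_cj.2 (sV_le_sA.trans hA)) fun y hy =>
        (brV hx.1 (le hy).1).2 (by rw [hx.2, (le hy).2, zero_mul, zero_mul])⟩
    rw [← cj_cj_inv (y1 (g.s / g.t)) z] at hz ⊢
    exact Normal.conj_mem inferInstance _ (hV (cj_mem_Omp.1 hz)) _
  push Not at k
  obtain ⟨g', hg', k⟩ := k
  have iA : Ivs P A sA := (iv_Zq c.toAu (fun y _ b hb => Normal.conj_mem inferInstance b hb y) iV).congr (fun y hy => ⟨fun e => by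
    have e1 := (brV (hP hy) (hP hg)).1 (e.2 g hg)
    have e2 := (brV (hP hy) (hP hg')).1 (e.2 g' hg')
    exact ⟨hP hy, (mul_eq_zero.1 (by linear_combination g'.s * e1 - g.s * e2)).resolve_right (sub_ne_zero.2 k.symm),
      (mul_eq_zero.1 (by linear_combination g'.t * e1 - g.t * e2)).resolve_right (sub_ne_zero.2 k.symm)⟩,
    fun e => ⟨hy, fun x _ => br_symm (brAV x e)⟩⟩) c.toAu
  exact .inl (hP.antisymm fun x hx => c.mem3 trivial iV iA (fun y _ hy => comm_V hx hy) (fun y _ hy => brAV x hy) le_rfl hA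
    fun y hy => brA hx (hP hy))

/-- Proof. `V = Omp p R_∞` is invariant. `ff1` with `G = Q'`, `B = V`, `C = R_∞`, `M = A₀`. `e5`: `h` inverts `t` on `R_∞`, inverts `r` on `A₀` (`A₀ / V` = commutators; so `h A₀ ≤ A₀`), fixes `V` pointwise (`Sts ⊥ V`).
`cm` with `g = y2 1`, `B = V` (`cj g y = ⁅g, y⁆ y`, `⁅g, y⁆.r = -2 y.t`): `h (cj g y) = cj (e g) (h y)`, `e ∈ R_∞`. For `y = y4 1`: `cj g y = y3 (-3) y`, `h y = y4 (-1) v₀`; compare `v`: `-3 = 3`. -/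
theorem esRi (h : Cy p (sRi (K := K)) A H) : False := by
  have iV : Ivs sRi A (sV (K := K)) := iv_V h.toCx sRi_le_Q' fun y hy => by
    have e1 := congrArg U.w (br1 (hy.2.2 (y6 1) ⟨rfl, rfl⟩))
    have e2 := congrArg U.w (br1 (hy.2.2 (y4 1) ⟨rfl, rfl⟩))
    rw [br_w] at e1 e2
    exact ⟨hy.1.1, hy.1.2, by simpa [three_ne, hy.1.1, hy.1.2] using e1, by simpa [three_ne] using e2⟩
  have gn : ∀ g ∈ Q', ∀ y ∈ sRi, ⁅g, y⁆ ∈ sRi (K := K) := fun g hg y hy => sA_le_sRi (brA hg hy.1)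
  have F := h.ff1 Q' sV sRi sA
    { le := sV_le_sA.trans sA_le_sRi, le' := le_rfl, ivB := iV, ivC := h.iv_self
      cen := fun x hx y hy => (brV hx.1 hy.1).2 (by rw [hx.2, hy.2, zero_mul, zero_mul])
      exp := fun y hy => ⟨(pow_mem hy p).1, (pow_mem hy p).2, crd_pow U.r y rfl fun n => by simp [U.mul_r, hy.1, hy.2], (pow_mem_sR y).2⟩
      GP := le_top
      Gn := gn
      Gc := fun g hg y hy => sA_le_sRi (brA hg hy)
      Gp := fun g hg => sA_le_sRi (pow_mem_sA hg)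
      ne := fun e => one_ne_zero (e (show y2 (1 : K) ∈ Q' from rfl)).2
      hM := fun w hw => ⟨fun e g _ => brAV g e, fun e =>
        ⟨hw.1, hw.2, by simpa [hw.2, eq_comm] using (brV (show y2 (1 : K) ∈ Q' from rfl) hw.1).1 (e _ rfl)⟩⟩
      idx := (relIndex_le_card U.t fun m hm m' hm' e => by
        gms at hm hm' ⊢; gcs; simp only [hm, hm', e]; gus).trans
        (card_le_relIndex y2 (fun _ => rfl) fun i j e => by have := e.2; gus at this; exact neg_add_eq_zero.1 this) }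
    (Chs.base h.toAu iV fun g hg y _ hy => comm_V hg hy) (Chs.top h.iv_self gn)
  obtain ⟨f, -, h1, h2, h3, -, h4⟩ := F.e5 (p_ne_two (K := K))
  have VR : sV ≤ sRi (K := K) := sV_le_sA.trans sA_le_sRi
  have f1 : ∀ y ∈ sRi, (f y).t = -y.t := fun y hy => eq_neg_of_add_eq_zero_right (h2 y hy).2.2
  have f2 : ∀ y ∈ sV, f y = y := fun y hy => (inv_mul_eq_one.1 (mem_bot.1
    (h4 ⊥ sV ⟨h.iv_bot, iV, fun g hg y _ hy => mem_bot.2 (br1 (comm_V hg hy))⟩ y (VR hy) hy))).symm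
  have f3 : ∀ y ∈ sA, f y ∈ sA := fun y hy =>
    ⟨(h.maps f h1 y (sA_le_sRi hy)).1, (h.maps f h1 y (sA_le_sRi hy)).2, by rw [f1 y (sA_le_sRi hy), hy.2.2, neg_zero]⟩
  have f4 : ∀ g ∈ Q', ∀ y ∈ sRi, (f ⁅g, y⁆).r = -⁅g, y⁆.r := fun g hg y hy =>
    eq_neg_of_add_eq_zero_right ((mr (brA hg hy.1) _).symm.trans (h3 g hg y hy).2.2.1)
  have f5 : (f (y4 1)).r = -1 := by
    have m := brA (show y2 (-2⁻¹ : K) ∈ Q' from rfl) (show y6 (1 : K) ∈ Q' from rfl)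
    have e : ⁅y2 (-2⁻¹ : K), y6 (1 : K)⁆.r = 1 := by rw [br_r]; simp [two_ne]
    have v : y4 (1 : K) * ⁅y2 (-2⁻¹ : K), y6 (1 : K)⁆⁻¹ ∈ sV := div_mem_sV.2 ⟨m.1.symm, m.2.1.symm, e.symm, m.2.2.symm⟩
    rw [← inv_mul_cancel_right (y4 (1 : K)) ⁅y2 (-2⁻¹ : K), y6 (1 : K)⁆, h.hom f h1 (VR v) (sA_le_sRi m), f2 _ v, mr (sV_le_sA v), v.2.2.1,
      f4 _ rfl _ ⟨rfl, rfl⟩, e, zero_add]
  obtain ⟨e, he, k⟩ := h.cm f h1 (y2 1) (gn _ rfl) sV iV (fun y _ hy => by rw [f2 y hy, cj_eq_self_iff.2 (comm_V rfl hy), f2 y hy])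
    fun y hy => by
      have m := f3 _ (brA (show y2 (1 : K) ∈ Q' from rfl) hy.1)
      have m' := brA (show y2 (1 : K) ∈ Q' from rfl) (h.maps f h1 y hy).1
      rw [cj_br, cj_br, h.hom f h1 (gn _ rfl y hy) hy, mul_inv_rev, mul_assoc, mul_inv_cancel_left]
      refine div_mem_sV.2 ⟨m.1.trans m'.1.symm, m.2.1.trans m'.2.1.symm, ?_, m.2.2.trans m'.2.2.symm⟩
      rw [f4 _ rfl y hy, br_r' rfl hy.1, br_r' rfl (h.maps f h1 y hy).1, f1 y hy]
      simp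
  have k := k (y4 1) ⟨rfl, rfl⟩
  have a : y4 (1 : K) ∈ sA := ⟨rfl, rfl, rfl⟩
  rw [cj_br, cj_br, h.hom f h1 (gn _ rfl _ (sA_le_sRi a)) (sA_le_sRi a), f2 _ (brAV _ a), mul_left_inj, br_Q'A rfl a,
    br_Q'A (mul_mem he.1 (show y2 (1 : K) ∈ Q' from rfl)) (f3 _ a)] at k
  have := congrArg U.v k
  simp only [U.mul_s, he.2, f5, y2_s, y2_u, y4_r] at this
  exact six (K := K) (by linear_combination -this)

/-- Proof. `z ∈ O ∖ A₀`; every `g ∈ P` has `z.s g.t = g.s z.t` (`br_r`), so `z.t ≠ 0` (`hQ`). Conjugating by `x = y2 s * y1 c` makes `z.s = z.r = 0`; then `C_{Q'}(z) = Y₆ V` (`br_r`, `br_w`) is abelian, `mem1` for the context of the conjugate (`cj_mem_Omp`). -/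
theorem esB1 (h : Es p P) (hP : P ≤ Q') (hQ : ¬ P ≤ Q) (hO : ¬ Omp p P ≤ sA) : ∃ x, img (cj x) P = sY6 := by
  obtain ⟨z, hz, zA⟩ := SetLike.not_le_iff_exists.1 hO
  have zu : z.u = 0 := hP hz.1
  have zt : z.t ≠ 0 := fun e => hQ fun g hg => by
    have := (brV (hP hg) zu).1 (br1 (hz.2.2 g hg).symm ▸ one_mem _)
    rw [e, mul_zero] at this
    exact (mul_eq_zero.1 this).resolve_left fun e' => zA ⟨zu, e', e⟩
  obtain ⟨x, x1, x2⟩ : ∃ x : U K, cj x z ∈ sY6 ∧ (cj x z).t ≠ 0 := by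
    have := two_ne (K := K)
    refine ⟨y2 ((z.r * z.t - z.s * z.t ^ 2) / (2 * z.t ^ 2)) * y1 (z.s / z.t), ?_, by gus; simpa using zt⟩
    rw [mem_sY6]; gcs; simp only [zu]; gus; and_intros <;> field_simp <;> ring
  obtain ⟨A, H, c⟩ := h x
  have le : img (cj x) P ≤ sY6 := fun y hy => by
    have yu : y.u = 0 := img_cj_le.2 hP hy
    have e := br1 ((cj_mem_Omp.2 hz).2.2 y hy)
    have e1 := congrArg U.r e
    have e2 := congrArg U.w e
    rw [br_r] at e1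
    rw [br_w] at e2
    have ys : y.s = 0 := by simpa [yu, x1.1, x1.2.1, x2, two_ne] using e1
    exact ⟨yu, ys, by simpa [yu, ys, x1.1, x1.2.1, x1.2.2, x2, three_ne] using e2⟩
  exact ⟨x, le.antisymm fun y hy => c.mem1 trivial fun w hw => comm_Y6 hy (le hw)⟩

/-- Proof. `N(Y₆ V) ≤ R_∞` (conjugate `y6 1`: `br_s`, `br_r`) has order `q⁴ < q⁵`. `ff1` with `G = A₀`, `B = ⊥`, `C = Y₆ V`, `M = V`. `e5`: `h` inverts `t`, inverts `Y₅`, is trivial on `V / Y₅` (third clause, `D = Y₅`); `ext'`: `h = α` on `P`, `α ∈ Aut(Q')` keeps `V`, `A₀` (`ivQ'` for `{α, α'}`, `au_pair` of D3/QP).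
`⁅y6 1, y4 r⁆ = y5 (3 r)` gives `(α (y4 r)).r = r`, so `α` fixes `r` on `A₀`; `⁅y2 1, y6 1⁆.r = -2` gives `(α (y2 1)).s = -1`; `⁅y2 1, y4 1⁆ = y3 (-3)` (`br_Q'A`) gives `-3 = 3`. -/
theorem esY6 (h : Cy p (sY6 (K := K)) A H) : False := by
  have VY : sV ≤ sY6 (K := K) := fun _ e => ⟨e.1, e.2.1, e.2.2.1⟩
  have gn : ∀ g ∈ sA, ∀ y ∈ sY6, ⁅g, y⁆ ∈ sY6 (K := K) := fun g hg y _ => VY (br_symm (brAV y hg))
  have F := h.ff1 sA ⊥ sY6 sV
    { le := bot_le, le' := le_rfl, ivB := h.iv_bot, ivC := h.iv_self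
      cen := fun x hx y hy => mem_bot.2 (br1 (comm_Y6 hx hy))
      exp := fun y hy => mem_bot.2 (U.ext (pow_mem hy p).1 (pow_mem hy p).2.1
        (crd_pow U.v y rfl fun n => by simp [U.mul_v, hy.1, hy.2.1]) (pow_mem hy p).2.2
        (crd_pow U.w y rfl fun n => by simp [U.mul_w, hy.1, hy.2.1, hy.2.2]) (pow_mem_sR y).2)
      GP := le_top
      Gn := gn
      Gc := fun g hg y hy => br1 (comm_A hg hy) ▸ one_mem _
      Gp := fun g hg => pow_sA (p := p) hg ▸ one_mem _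
      ne := fun e => one_ne_zero (e (show y4 (1 : K) ∈ sA from ⟨rfl, rfl, rfl⟩)).2.2
      hM := fun w hw => ⟨fun e g hg => mem_bot.2 (br1 (comm_V hg.1 e)), fun e => ⟨hw.1, hw.2.1, hw.2.2, by
        have := congrArg U.w (mem_bot.1 (e (y4 1) ⟨rfl, rfl, rfl⟩))
        rw [br_w] at this
        simpa [three_ne] using this⟩⟩
      idx := (relIndex_le_card U.t fun m hm m' hm' e => by
        rw [mem_sY6] at hm hm'; gms; gcs; simp only [hm, hm', e]; gus).trans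
        (card_le_relIndex y4 (fun _ => ⟨rfl, rfl, rfl⟩) fun i j e => by have := e.2.2; gus at this; exact neg_add_eq_zero.1 this) }
    .refl (Chs.top h.iv_self gn)
  obtain ⟨f, h0, h1, h2, h3, h4, -⟩ := F.e5 (p_ne_two (K := K))
  have y6Y : y6 (1 : K) ∈ sY6 := ⟨rfl, rfl, rfl⟩
  obtain ⟨α, α', i, e⟩ := h.ext' (fun _ e => e.1) ((Nat.card_le_card_of_injective
    (fun g : normalizer (sY6 (K := K) : Set (U K)) => (⟨⟨⟨g.1.t, 0, g.1.v, g.1.r, g.1.w, 0⟩, rfl⟩, rfl⟩ : {x : Q (K := K) // x.1.s = 0}))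
    fun g g' e => by
      have k : ∀ g : normalizer (sY6 (K := K) : Set (U K)), g.1.u = 0 ∧ g.1.s = 0 := fun g => by
        obtain ⟨-, e1, e2⟩ := cj_mem_of_mem_normalizer g.2 y6Y
        rw [cj_br] at e1 e2
        rw [U.mul_s, br_s] at e1
        rw [U.mul_r, br_r] at e2
        have e3 : g.1.u = 0 := by simpa using e1
        exact ⟨e3, by simpa [e3, two_ne] using e2⟩
      exact Subtype.ext (U.ext ((k g).1.trans (k g').1.symm) ((k g).2.trans (k g').2.symm) (congrArg (·.1.1.v) e)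
        (congrArg (·.1.1.r) e) (congrArg (·.1.1.w) e) (congrArg (·.1.1.u) e))).trans_lt
    (Finite.card_subtype_lt (x := ⟨y2 1, rfl⟩) one_ne_zero)) f h0
  obtain ⟨-, iA⟩ := ivQ' (U5.au_pair i)
  have aA : ∀ a ∈ sA, α a ∈ sA := fun a ha => iA α (.inl rfl) a ha.1 ha
  have m6 : α (y6 1) ∈ sY6 := e _ y6Y ▸ h.maps f h1 _ y6Y
  have t6 : (α (y6 1)).t = -1 := e _ y6Y ▸ eq_neg_of_add_eq_zero_right (h2 _ y6Y).2.2.2
  have a1 : ∀ a ∈ sA, (α a).r = a.r := fun a ha => by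
    have k := congrArg U.w (mem_bot.1 (h3 a ha _ y6Y))
    rw [e _ (gn a ha _ y6Y), i.hom.map_commutator ha.1 rfl, U.mul_w, br_t, br_w, br_w, t6, m6.1, m6.2.1, m6.2.2, (aA a ha).1,
      (aA a ha).2.1, ha.1, ha.2.1] at k
    simp only [y6_r, y6_t, y6_s, y6_u, U.one_w] at k
    exact mul_left_cancel₀ three_ne (by linear_combination k)
  have a2 : (α (y2 1)).s = -1 := by
    have k := a1 _ (brA (show y2 (1 : K) ∈ Q' from rfl) y6Y.1)
    rw [i.hom.map_commutator rfl rfl, br_r' (i.maps _ rfl) m6.1, br_r' rfl rfl, t6, m6.2.1] at k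
    simp only [y6_s, y6_t, y2_s, y2_t] at k
    exact mul_left_cancel₀ two_ne (by linear_combination k)
  have a : y4 (1 : K) ∈ sA := ⟨rfl, rfl, rfl⟩
  have v := brAV (y2 1) a
  have k := (h4 sY5 bot_le (fun g hg w hw => br_symm (by
    rw [br_Q'A hw.1 hg, hw.2.1]; exact ⟨rfl, rfl, by simp, rfl, rfl⟩)) _ (VY v) v).2.2.1
  rw [e _ (VY v), i.hom.map_commutator rfl rfl, br_Q'A (i.maps _ rfl) (aA _ a), br_Q'A rfl a, a1 _ a, a2] at k
  gus at k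
  exact six (K := K) (by linear_combination k)

end CL.G2F
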