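/-
S5211: no essential subgroups outside `Q` and `Q'`, `p ≥ 5`, `q ≠ 7`.
-/
import Cfsg.Agent.FUS.G2.Aut5

set_option autoImplicit false
set_option linter.unusedSimpArgs false
set_option linter.unusedSectionVars false

namespace CL.G2F

open CL.Fus CL.RF4 CL.D3 Subgroup Cfsg Cfsg.FusionSystem
open scoped commutatorElement

variable {K : Type*} [Field K] [Finite K] [P5 K] {p : ℕ} [Fact p.Prime] [CharP K p] {F F' : FusionSystem (⊤ : Subgroup (U K))}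
  {P : Subgroup (U K)} {A H : Set (U K → U K)}

namespace EsC

variable {g y z : U K}

theorem exists_ut (hQ : ¬ P ≤ Q) (hQ' : ¬ P ≤ Q') : ∃ g ∈ P, g.u ≠ 0 ∧ g.t ≠ 0 := by
  obtain ⟨g, hg, n⟩ := SetLike.not_le_iff_exists.1 hQ
  obtain ⟨g', hg', n'⟩ := SetLike.not_le_iff_exists.1 hQ'
  by_cases c1 : g.u = 0
  · by_cases c2 : g'.t = 0
    · exact ⟨g * g', mul_mem hg hg', by rwa [U.mul_u, c1, zero_add], by rwa [U.mul_t, c2, add_zero]⟩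
    · exact ⟨g', hg', n', c2⟩
  · exact ⟨g, hg, c1, n⟩

theorem brQZ (hg : g ∈ Q) (hy : y ∈ Q) : ⁅g, y⁆ ∈ sZ := by rw [br_Q hg hy]; exact ⟨rfl, rfl, rfl, rfl, rfl⟩

theorem brVZ (g : U K) (hy : y ∈ sV) : ⁅g, y⁆ ∈ sZ := by rw [br_V g hy]; exact ⟨rfl, rfl, rfl, rfl, rfl⟩

theorem brAV (g : U K) (hy : y ∈ sA) : ⁅g, y⁆ ∈ sV :=
  ⟨br_u .., by simp [br_s, hy.1, hy.2.2], by simp [br_r, hy.1, hy.2.1, hy.2.2], br_t ..⟩

theorem brRA (g : U K) (hy : y ∈ sR) : ⁅g, y⁆ ∈ sA := ⟨br_u .., by simp [br_s, hy.1, hy.2], br_t ..⟩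

theorem br4 (g : U K) (hy : y ∈ sA) : ⁅g, y⁆.w = 3 * y.r * g.t := by simp [br_w, hy.1, hy.2.1, hy.2.2]

theorem brV' (hy : y ∈ sV) (g : U K) : ⁅y, g⁆ = y3 (-(g.u * y.w)) := by
  rw [← commutatorElement_inv, br_V g hy]; gus

theorem s_zero (t0 : g.t ≠ 0) (hy : y ∈ sR) (e : ⁅g, y⁆ ∈ sV) : y ∈ sA := by
  have := e.2.2.1
  rw [br_r, hy.1, hy.2] at this
  exact ⟨hy.1, (mul_eq_zero.1 (show y.s * (2 * g.t) = 0 by linear_combination this)).resolve_right (mul_ne_zero two_ne t0), hy.2⟩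

theorem r_zero (t0 : g.t ≠ 0) (hy : y ∈ sR) (e : ⁅g, y⁆ ∈ sZ) : y ∈ sV := by
  have hA := s_zero t0 hy (sZ_le_sV e)
  have := e.2.2.2.1
  rw [br4 g hA] at this
  exact ⟨hy.1, hA.2.1, (mul_eq_zero.1 (show y.r * (3 * g.t) = 0 by linear_combination this)).resolve_right (mul_ne_zero three_ne t0), hy.2⟩

theorem w_zero (u0 : g.u ≠ 0) (hy : y ∈ sV) (e : ⁅g, y⁆ = 1) : y ∈ sZ := by
  have := congrArg U.v e
  rw [br_V g hy] at this
  exact ⟨hy.1, hy.2.1, hy.2.2.1, by simpa [u0] using this, hy.2.2.2⟩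

theorem ut (u0 : g.u ≠ 0) (t0 : g.t ≠ 0) (e : ⁅y, g⁆.s = 0) : y.u = 0 ↔ y.t = 0 := by
  rw [br_s] at e
  exact ⟨fun k => by simpa [k, u0] using e, fun k => by simpa [k, t0] using e⟩

theorem scale (α : MulAut (U K)) {μ : K} (e1 : (α z).u = μ * z.u) (e2 : (α z).t = μ * z.t) :
    (α (y3 (z.u ^ 2 * z.t ^ 3))).v = μ ^ 5 * (z.u ^ 2 * z.t ^ 3) := by
  obtain ⟨a, d, ρ, ok, sm⟩ := aut_form α
  rw [(sm z).1, dd_u] at e1
  rw [(sm z).2.1, dd_t] at e2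
  rw [(sm _).2.2.2.2.2 ⟨rfl, rfl, rfl, rfl, rfl⟩, dd_v, y3_v, map_mul, map_pow, map_pow]
  calc _ = (a * ρ z.u) ^ 2 * (d * ρ z.t) ^ 3 := by ring
    _ = _ := by rw [e1, e2]; ring

theorem iZ (h : Cx p ⊤ P A H) (hO : Omp p P ≤ sZ) : Ivs P A sZ :=
  (iv_Omp (p := p) h.toAu).congr (fun _ _ => ⟨fun k => hO k, fun k => Z_le_Om h k⟩) h.toAu

end EsC

open EsC

/-- regular unipotent elements have order 25 in characteristic 5: `(z ^ 5).v = c u² t³` with `c ≠ 0` (expand `z ^ 5`, `grind` or `linear_combination` with `5 = 0`) -/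
theorem pow_five [CharP K 5] {z : U K} (hu : z.u ≠ 0) (ht : z.t ≠ 0) : z ^ 5 ≠ 1 := by
  intro e
  have h5 : (5 : K) = 0 := CharP.cast_eq_zero K 5
  have k := congrArg U.v e
  rw [show z ^ 5 = z * z * z * z * z by simp only [pow_succ, pow_zero, one_mul]] at k
  simp only [U.mul_u, U.mul_s, U.mul_v, U.mul_r, U.mul_w, U.mul_t, U.one_v] at k
  exact mul_ne_zero three_ne (mul_ne_zero (pow_ne_zero 2 hu) (pow_ne_zero 3 ht)) (by
    linear_combination k - (z.v + 54 * z.u ^ 2 * z.t ^ 3 + 18 * z.s ^ 2 * z.t + 60 * z.u * z.s * z.t ^ 2 - 2 * z.u * z.w +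
      6 * z.s * z.r + 12 * z.u * z.r * z.t) * h5)

/-- `q ≠ 7`, `p ≥ 7`: `q > 7`, so `X ^ 6 - 1` has a nonzero non-root -/
theorem exists_six (hp : p ≠ 5) (h7 : Nat.card K ≠ 7) : ∃ μ : K, μ ≠ 0 ∧ μ ^ 6 ≠ 1 := by
  by_contra! k
  have := Fintype.ofFinite K
  have d := (FiniteField.forall_pow_eq_one_iff K 6).1 fun x => Units.ext (by simpa using k x x.ne_zero)
  have l := Nat.le_of_dvd (by norm_num) d
  have l2 := p_le_card (K := K) (p := p)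
  have h2 : p ≠ 2 := p_ne_two (K := K)
  have h3 : p ≠ 3 := fun e => three_ne (K := K) (three_iff.2 e)
  have hpp : p.Prime := Fact.out
  rw [Nat.card_eq_fintype_card] at h7 l2
  have : p ≤ 6 := by omega
  interval_cases p <;> first | omega | exact absurd hpp (by decide)

/-- Proof. `g ∈ P` with `g.u, g.t ≠ 0` (D3/EsC1 `exists_ut`). `y ∈ R₀` commuting with such an element lies in `Z` (`br_r`, `br_w`, `br_V`). Let `z ∈ O = Omp p P`, `z ∉ Z`; then `z ∉ R₀`, `z.u g.t = g.u z.t` (`br_s`), `z.u, z.t ≠ 0`; `p ≠ 5` (`pow_five`).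
`Sec` with `G = V`, `B = ⊥`, `C = O`, `M = Z`: `⁅v, w⁆ = y3 (-(w.u v.w))`; `w ∈ O` with `w.u = 0` has `w.t = 0` so lies in `Z`; `|O : Z| ≤ q ≤ |V : V ⊓ P|` (`V ⊓ P ≤ Z`). `f6` with `c = y5 γ`, `a = y5 (γ / μ)`, `γ = -(z.u z.t³)`, `w = z`:
`(h z).u = μ z.u`, `h z ∈ P` commutes with `z` so `(h z).t = μ z.t`, and `h (y3 (u² t³)) = y3 (u² t³ / μ)`. `ext`, `aut_form`: `a ρ u = μ u`, `d ρ t = μ t`, `a² d³ ρ (u² t³) = μ⁵ u² t³`; `μ⁶ = 1` against `exists_six`. -/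
theorem Om_eq (h7 : Nat.card K ≠ 7) (h : Cy p P A H) (hQ : ¬ P ≤ Q) (hQ' : ¬ P ≤ Q') : Omp p P ≤ sZ := by
  have c := h.toCx
  obtain ⟨g₀, h0, u0, t0⟩ := exists_ut hQ hQ'
  have ZO := Z_le_Om c
  have ZP : sZ ≤ P := fun z hz => (ZO hz).1
  have b1 : ∀ z ∈ Omp p P, ∀ g ∈ P, ⁅z, g⁆ = 1 := fun z hz g hg => commutatorElement_eq_one_iff_mul_comm.2 (hz.2.2 g hg)
  have b2 : ∀ z ∈ Omp p P, ∀ g ∈ P, ⁅g, z⁆ = 1 := fun z hz g hg => commutatorElement_eq_one_iff_mul_comm.2 (hz.2.2 g hg).symm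
  have uZ : ∀ z ∈ Omp p P, z.u = 0 → z ∈ sZ := fun z hz e =>
    w_zero u0 (r_zero t0 ⟨e, (ut u0 t0 (by rw [b1 z hz _ h0]; rfl)).1 e⟩ (b2 z hz _ h0 ▸ one_mem _)) (b2 z hz _ h0)
  intro z hz
  by_contra zZ
  have zu : z.u ≠ 0 := fun e => zZ (uZ z hz e)
  have zt : z.t ≠ 0 := fun e => zu ((ut u0 t0 (by rw [b1 z hz _ h0]; rfl)).2 e)
  have hp : p ≠ 5 := by
    rintro rfl
    exact pow_five zu zt hz.2.1
  obtain ⟨μ, μ0, μ6⟩ := exists_six (K := K) hp h7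
  have PV : ∀ v ∈ sV, v ∈ P → v.w = 0 := fun v hv e => (w_zero zu hv (b1 z hz v e)).2.2.2.1
  have V5 : ∀ w : K, y5 w ∈ sV := fun _ => ⟨rfl, rfl, rfl, rfl⟩
  have γ0 : -(z.u * z.t ^ 3) ≠ 0 := neg_ne_zero.2 (mul_ne_zero zu (pow_ne_zero 3 zt))
  obtain ⟨f, hf, fA, e⟩ := h.f6 sV ⊥ (Omp p P) sZ
    { le := bot_le, le' := fun _ e => e.1, ivB := c.iv_bot, ivC := iv_Omp c.toAu
      cen := fun x hx y hy => mem_bot.2 (b2 y hy x hx)
      exp := fun y hy => mem_bot.2 hy.2.1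
      GP := le_top
      Gn := fun g hg y _ => ZP (br_symm (brVZ y hg))
      Gc := fun g hg y _ => ZP (br_symm (brVZ y hg))
      Gp := fun g hg => pow_sA (p := p) (sV_le_sA hg) ▸ one_mem _
      ne := fun e => one_ne_zero (PV (y5 1) (V5 1) (e (V5 1)))
      hM := fun w hw => ⟨fun e g _ => mem_bot.2 (commutatorElement_eq_one_iff_mul_comm.2 (comm_Z g e)), fun e => uZ w hw (by
        have := congrArg U.v (mem_bot.1 (e (y5 1) (V5 1)))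
        rw [brV' (V5 1)] at this; simpa using this)⟩
      idx := (relIndex_le_card U.u fun m hm m' hm' e => uZ _ (mul_mem (inv_mem hm) hm') (by
          rw [U.mul_u, U.inv_u, e, neg_add_cancel])).trans
        (card_le_relIndex y5 V5 fun i j e => by
          have := PV _ (mul_mem (inv_mem (V5 i)) (V5 j)) e
          gus at this; exact neg_add_eq_zero.1 this) }
    .refl (Chs.top (iv_Omp c.toAu) fun g hg y _ => ZO (br_symm (brVZ y hg)))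
    (y5 (-(z.u * z.t ^ 3) / μ)) (V5 _) (fun e => div_ne_zero γ0 μ0 (PV _ (V5 _) e)) (y5 (-(z.u * z.t ^ 3))) (V5 _)
    fun e => γ0 (PV _ (V5 _) e)
  obtain ⟨α, hα⟩ := h.ext hQ hQ' f hf
  obtain ⟨e1, e2⟩ := e z hz
  rw [mem_bot, inv_mul_eq_one, brV' (V5 _), brV' (V5 _)] at e1 e2
  rw [hα z hz.1] at e1
  have k1 : (α z).u = μ * z.u := by
    have := congrArg U.v e1
    simp only [y3_v, y5_w] at this
    field_simp at this
    linear_combination this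
  have k2 : (α z).t = μ * z.t := by
    have := congrArg U.s (b1 z hz _ (hα z hz.1 ▸ c.maps f fA z hz.1))
    rw [br_s, k1, U.one_s] at this
    exact mul_left_cancel₀ zu (by linear_combination -this)
  have k3 := scale α k1 k2
  rw [hα _ (ZP ⟨rfl, rfl, rfl, rfl, rfl⟩), show -(z.u * (y5 (-(z.u * z.t ^ 3))).w) = z.u ^ 2 * z.t ^ 3 by rw [y5_w]; ring] at e2
  rw [e2, y3_v, y5_w] at k3
  field_simp at k3
  exact μ6 k3.symm

/-- Proof. `Z = O` is invariant, `V ≤ P` (`mem2`). `O₂ = Omq p P Z ≥ V`. `y ∈ R₀` with `⁅g, y⁆ ∈ Z` (`g.u, g.t ≠ 0`) lies in `V`. Suppose `z ∈ O₂ ∖ V`; `z.u, z.t ≠ 0`. `ff1` with `G = A₀`, `B = Z`, `C = O₂`, `M = V` (`⁅a, x⁆.w = -3 a.r x.t`; `A₀ ⊓ P ≤ V`; `|O₂ : V| ≤ q`; chains `⊥ < Z`, `O₂ < ⊤`).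
`e5`: `z * h z ∈ V`, `h` fixes `Z`; `ext`, `aut_form`: `a ρ u = -u`, `d ρ t = -t`, so `u² t³ = a² d³ ρ (u² t³) = -u² t³`, false. -/
theorem ivV (h : Cy p P A H) (hQ : ¬ P ≤ Q) (hQ' : ¬ P ≤ Q') (hO : Omp p P ≤ sZ) : sV ≤ P ∧ Ivs P A sZ ∧ Ivs P A sV := by
  have c := h.toCx
  obtain ⟨g₀, h0, u0, t0⟩ := exists_ut hQ hQ'
  have iZ := iZ c hO
  have ZP : sZ ≤ P := fun z hz => (Z_le_Om c hz).1
  have VP : sV ≤ P := fun v hv => c.mem2 trivial iZ (fun y _ hy => comm_Z v hy) le_rfl ZP fun y _ => br_symm (brVZ y hv)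
  obtain ⟨Y, hY⟩ : ∃ C, C = Omq p P sZ fun y _ b hb => Normal.conj_mem inferInstance b hb y := ⟨_, rfl⟩
  have iY : Ivs P A Y := hY ▸ iv_Omq c.toAu _ iZ
  have mY : ∀ {g}, g ∈ Y → g ∈ P ∧ g ^ p ∈ sZ ∧ ∀ y ∈ P, ⁅g, y⁆ ∈ sZ := fun e => mem_Omq.1 (hY ▸ e)
  have VY : sV ≤ Y := fun a ha =>
    hY ▸ mem_Omq.2 ⟨VP ha, by rw [pow_sA (sV_le_sA ha)]; exact one_mem _, fun y _ => br_symm (brVZ y ha)⟩
  have tV : ∀ w ∈ Y, w.t = 0 → w ∈ sV := fun w hw e =>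
    r_zero t0 ⟨(ut u0 t0 ((mY hw).2.2 _ h0).2.1).2 e, e⟩ (br_symm ((mY hw).2.2 _ h0))
  refine ⟨VP, iZ, iY.congr (fun z _ => ⟨fun hz => by_contra fun zV => ?_, fun k => VY k⟩) c.toAu⟩
  have zt : z.t ≠ 0 := fun e => zV (tV z hz e)
  have zu : z.u ≠ 0 := fun e => zt ((ut u0 t0 ((mY hz).2.2 _ h0).2.1).1 e)
  have A4 : ∀ r : K, y4 r ∈ sA := fun _ => ⟨rfl, rfl, rfl⟩
  have PA : ∀ a ∈ sA, a ∈ P → a.r = 0 := fun a ha e => (r_zero zt (sA_le_sR ha) ((mY hz).2.2 a e)).2.2.1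
  have F := c.ff1 sA sZ Y sV
    { le := sZ_le_sV.trans VY
      le' := fun _ e => (mY e).1, ivB := iZ, ivC := iY
      cen := fun x hx y hy => br_symm ((mY hy).2.2 x hx)
      exp := fun y hy => (mY hy).2.1
      GP := le_top
      Gn := fun g hg y _ => VP (br_symm (brAV y hg))
      Gc := fun g hg y _ => VP (br_symm (brAV y hg))
      Gp := fun g hg => pow_sA (p := p) hg ▸ one_mem _
      ne := fun e => one_ne_zero (PA (y4 1) (A4 1) (e (A4 1)))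
      hM := fun w hw => ⟨fun e g hg => commutatorElement_eq_one_iff_mul_comm.2 (comm_A hg (sV_le_sA e)) ▸ one_mem _, fun e => tV w hw (by
        have := (br_symm (e (y4 1) (A4 1))).2.2.2.1
        rw [br4 w (A4 1)] at this; simpa [three_ne] using this)⟩
      idx := (relIndex_le_card U.t fun m hm m' hm' e => tV _ (mul_mem (inv_mem hm) hm') (by
          rw [U.mul_t, U.inv_t, e, neg_add_cancel])).trans
        (card_le_relIndex y4 A4 fun i j e => by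
          have := PA _ (mul_mem (inv_mem (A4 i)) (A4 j)) e
          gus at this; exact neg_add_eq_zero.1 this) }
    (Chs.base c.toAu iZ fun g _ y _ hy => comm_Z g hy) (Chs.top iY fun g hg y _ => VY (br_symm (brAV y hg)))
  obtain ⟨f, hf, fA, e1, -, -, e4⟩ := F.e5 (p_ne_two (K := K))
  obtain ⟨α, hα⟩ := h.ext hQ hQ' f hf
  have k := e1 z hz
  rw [hα z (mY hz).1] at k
  have k3 := scale α (μ := -1) (z := z) (by have := k.1; rw [U.mul_u] at this; linear_combination this)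
    (by have := k.2.2.2; rw [U.mul_t] at this; linear_combination this)
  have z3 : y3 (z.u ^ 2 * z.t ^ 3) ∈ sZ := ⟨rfl, rfl, rfl, rfl, rfl⟩
  have := mem_bot.1 (e4 ⊥ sZ ⟨c.iv_bot, iZ, fun g _ y _ hy => mem_bot.2 (commutatorElement_eq_one_iff_mul_comm.2 (comm_Z g hy))⟩
    _ (ZP z3) z3)
  rw [← hα _ (ZP z3), ← inv_mul_eq_one.1 this, y3_v] at k3
  exact mul_ne_zero two_ne (mul_ne_zero (pow_ne_zero 2 zu) (pow_ne_zero 3 zt)) (by linear_combination k3)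

/-- Proof. `A₀ ≤ P` (`mem2`, `B = V`). `P ⊓ Q' = C_P(V)` is invariant, `A₀ = Zq P V ⊓ Q'` (`z ∈ Zq P V`, `z.u = 0`: `br_s` gives `z.t = 0`, `br_r` gives `z.s = 0`) is invariant, `R₀ ≤ P` (`mem3`, `B = V`, `C = A₀`),
`P ⊓ Q = {x | ⁅x, A₀⁆ ≤ Z}` and `R₀ = Q ⊓ Q'` are invariant; every `g` stabilises `⊥ < Z < V < A₀ < R₀ < P` (`mem_of_ch`), so `P = ⊤`. -/
theorem top_of (h : Cx p ⊤ P A H) (hQ : ¬ P ≤ Q) (hQ' : ¬ P ≤ Q') (hV : sV ≤ P) (iZ : Ivs P A sZ) (iV : Ivs P A sV) : P = ⊤ := by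
  obtain ⟨g₀, h0, u0, t0⟩ := exists_ut hQ hQ'
  have AP : sA ≤ P := fun a ha => h.mem2 trivial iV (fun y _ hy => comm_A ha (sV_le_sA hy)) le_rfl hV fun y _ => br_symm (brAV y ha)
  have V5 : (y5 1 : U K) ∈ sV := ⟨rfl, rfl, rfl, rfl⟩
  have A4 : (y4 1 : U K) ∈ sA := ⟨rfl, rfl, rfl⟩
  have iQ' : Ivs P A Q' := (h.iv_cent iV).congr (fun y _ => ⟨fun k => by
    have := congrArg U.v (commutatorElement_eq_one_iff_mul_comm.2 (k _ (hV V5) V5))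
    rw [br_V y V5] at this; simpa [mem_Q'] using this, fun k x _ hx => comm_V k hx⟩) h.toAu
  have iA : Ivs P A sA := ((h.iv_comm h.iv_self iV).inter iQ').congr (fun y _ => ⟨fun k =>
    s_zero t0 ⟨k.2, (ut u0 t0 (k.1 _ h0 h0).2.1).1 k.2⟩ (br_symm (k.1 _ h0 h0)),
    fun k => ⟨fun x _ _ => br_symm (brAV x k), k.1⟩⟩) h.toAu
  have RP : sR ≤ P := fun g hg => h.mem3 trivial iV iA (fun y _ hy => comm_V hg.1 hy) (fun y _ hy => brAV g hy) le_rfl AP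
    fun y _ => br_symm (brRA y hg)
  have iQ : Ivs P A Q := (h.iv_comm iA iZ).congr (fun y _ => ⟨fun k => by
    have := (k _ (AP A4) A4).2.2.2.1
    rw [br4 y A4] at this; simpa [three_ne, mem_Q] using this, fun k x _ hx => brQZ k hx.2.2⟩) h.toAu
  have iR : Ivs P A sR := (iQ'.inter iQ).congr (fun y _ => Iff.rfl) h.toAu
  exact eq_top_iff.2 fun g _ => h.mem_of_ch trivial ((((Ch.base h.toAu iZ fun y _ => comm_Z g).step iZ iV fun y _ => brVZ g).step iV iA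
    fun y _ => brAV g).step iA iR fun y _ => brRA g) iR (fun y _ => ⟨br_u .., br_t ..⟩) fun y _ => RP ⟨br_u .., br_t ..⟩

theorem esC (h7 : Nat.card K ≠ 7) (h : Cy p P A H) (hQ : ¬ P ≤ Q) (hQ' : ¬ P ≤ Q') : False :=
  let ⟨h1, h2, h3⟩ := ivV h hQ hQ' (Om_eq h7 h hQ hQ')
  h.ne (top_of h.toCx hQ hQ' h1 h2 h3)

end CL.G2F
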