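/-
S5211: the torus of the `SL₂` of an offender (new clause for FUS/D3/FF0, CxF).
-/
import Cfsg.Agent.FUS.D3.CxF

set_option autoImplicit false
set_option linter.unusedSimpArgs false
set_option linter.unusedSectionVars false
set_option linter.unusedVariables false

namespace CL.G2F

open CL.Fus CL.RF4 CL.D3 Subgroup Cfsg Cfsg.FusionSystem
open scoped commutatorElement

namespace F6

section
open CL.BHS CL.MSS

theorem ff60 {G : Type*} [Group G] [Finite G] {p : ℕ} [Fact p.Prime] {V H T M A : Subgroup G} (hp : p ≠ 2) (hV : IsElementaryAbelian p V)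
    (hHV : H ≤ normalizer (V : Set G)) (hf : H ⊓ centralizer (V : Set G) = ⊥) (hT : CL.MSS.SylIn p T H) (hTM : T ≤ M) (hMH : M < H)
    (se : ∀ Q ≤ M, IsPGroup p Q → Q ≠ ⊥ → H ⊓ normalizer (Q : Set G) ≤ M) (hA : A ≤ T) (hAe : IsElementaryAbelian p A) (h1 : A ≠ ⊥)
    (hc : Nat.card V ≤ Nat.card A * Nat.card (V ⊓ centralizer (A : Set G) : Subgroup G)) :
    ∀ a ∈ A, a ≠ 1 → ∀ c ∈ A, c ≠ 1 → ∃ y ∈ M, ∀ w ∈ V, ⁅a, y * w * y⁻¹⁆ = ⁅c, w⁆ ∧ y * ⁅c, w⁆ * y⁻¹ = ⁅a, w⁆ := by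
  open CL.PComp CL.Push CL.Th CL.Dickson in
  obtain ⟨H₁, e₁⟩ : ∃ K, K = pElementClosure p H := ⟨_, rfl⟩
  have l1 : H₁ ≤ H := e₁ ▸ pElementClosure_le p H
  have l2 : T ≤ H₁ := e₁ ▸ le_pElementClosure_of_isPGroup hT.le hT.pgroup
  have T1 : T ≠ ⊥ := fun e => h1 (eq_bot_iff.2 (e ▸ hA))
  have hT₁ := hT.of_le l2 l1
  have hM₁ : M ⊓ H₁ < H₁ := lt_of_le_of_ne inf_le_right fun e => hMH.not_ge (by
    rw [← hT₁.frattini_sup l1 (e₁ ▸ le_normalizer_pElementClosure p H)]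
    exact sup_le (e ▸ inf_le_left) (se T hTM hT.pgroup T1))
  have hV₁ := l1.trans hHV
  have hf₁ : H₁ ⊓ centralizer (V : Set G) = ⊥ := eq_bot_iff.2 (hf ▸ inf_le_inf_right _ l1)
  have se₁ : ∀ Q ≤ M ⊓ H₁, IsPGroup p Q → Q ≠ ⊥ → H₁ ⊓ normalizer (Q : Set G) ≤ M ⊓ H₁ := fun Q hQ hp h =>
    le_inf ((inf_le_inf_right _ l1).trans (se Q (hQ.trans inf_le_left) hp h)) inf_le_left
  obtain ⟨A', hA', lA, -⟩ := exists_mo (V := V) (hA.trans l2) hAe h1 hc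
  have h := (spe_dm hV hV₁ hf₁ hT₁ (le_inf hTM l2) hM₁ se₁ hA').toDS
  obtain ⟨A₁, hA₁, B₁, hB₁, l₁, e⟩ := spe_line hV hV₁ hf₁ hT₁ (le_inf hTM l2) hM₁ se₁ (by rw [e₁, pElementClosure_idem]) hA'
  obtain ⟨g, hg, rfl⟩ := (e ▸ h.line_syl hA₁ hB₁ l₁).exists_conj hT₁
  have l := l₁.cj (hV₁ hg)
  have mT := h.cj _ hA₁ g hg
  have mB := h.cj _ hB₁ g hg
  have e' : g •ᶜ A₁ ⊔ g •ᶜ B₁ = H₁ := by rw [← cj_sup, e, cj_eq_of_mem hg]
  generalize g •ᶜ A₁ = T at *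
  generalize g •ᶜ B₁ = B at *
  have t := h.ti _ mT
  have t' := h.ti _ hA'
  obtain rfl : A = T := by
    obtain ⟨a, ha, a1⟩ := t'.exists_ne
    have k : Cv[V, A'] = Cv[V, T] := le_antisymm
      (fun v hv => ⟨hv.1, t.fix a (hA (lA ha)) a1 v hv.1 (commutatorElement_eq_one_iff_mul_comm.2 (hv.2 a ha).symm)⟩)
      (inf_le_inf_left _ (centralizer_le (lA.trans hA)))
    have k' := t'.card.trans t.card.symm
    rw [k] at k'
    exact le_antisymm hA ((eq_of_le_of_card_ge (lA.trans hA) (Nat.eq_of_mul_eq_mul_right Nat.card_pos k').ge).ge.trans lA)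
  obtain ⟨n, F, _, _, -, -, hF⟩ := h.exists_field mT
  obtain ⟨ρ, ψ, N⟩ := h.exists_natL mT mB l F hF
  obtain ⟨z, hz⟩ := N.bij.2 (-1)
  have cV : ∀ x ∈ V, ∀ y ∈ V, x * y = y * x := fun x hx y hy => congrArg Subtype.val (hV.1.1.1 ⟨x, hx⟩ ⟨y, hy⟩)
  have zc : ∀ a ∈ A ⊔ B, a * z = z * a := fun a ha =>
    congrArg Subtype.val (N.bij.1 (show ρ (⟨a, ha⟩ * z) = ρ (z * ⟨a, ha⟩) by simp [hz]))
  have zV : ∀ w ∈ V, z * w * (z : G)⁻¹ ∈ V := fun w hw => N.toNatD.conj_mem z hw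
  have ψz : ∀ w ∈ V, ψ (z * w * (z : G)⁻¹) = -ψ w := fun w hw => by
    rw [N.act z w hw, hz]; ext i; fin_cases i <;> simp [CL.Quad.smul_fin_two]
  have k1 : ∀ w ∈ V, w * (z * w * (z : G)⁻¹) ∈ centralizer ((A ⊔ B : Subgroup G) : Set G) := fun w hw =>
    ((N.ker _ (mul_mem hw (zV w hw))).1 (by rw [N.add _ hw _ (zV w hw), ψz w hw, add_neg_cancel])).2
  have bV : ∀ a ∈ A, ∀ w ∈ V, ⁅a, w⁆ ∈ V := fun a ha w hw => mul_mem (N.toNatD.conj_mem ⟨a, mem_sup_left ha⟩ hw) (inv_mem hw)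
  have k2 : ∀ a ∈ A, ∀ w ∈ V, ⁅a, w⁆ * (z * ⁅a, w⁆ * (z : G)⁻¹) = 1 := fun a ha w hw => by
    have e1 : z * ⁅a, w⁆ * (z : G)⁻¹ = ⁅a, z * w * (z : G)⁻¹⁆ := by
      rw [← cj_comm_elt, ← zc a (mem_sup_left ha), mul_inv_cancel_right]
    have e2 := cV _ (bV a ha _ (zV w hw)) _ (inv_mem hw)
    rw [e1, ← commutatorElement_eq_one_iff_mul_comm.2 (k1 w hw a (mem_sup_left ha))]
    generalize z * w * (z : G)⁻¹ = y at e2 ⊢
    rw [commutatorElement_def a w, mul_assoc, ← e2]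
    simp only [commutatorElement_def]; group
  have inj : ∀ x ∈ V, ∀ y ∈ V, x * (z * x * (z : G)⁻¹) = 1 → y * (z * y * (z : G)⁻¹) = 1 → ψ x = ψ y → x = y :=
    fun x hx y hy e1 e2 e3 => by
      have d := (N.toNatD.eq_iff hx hy).1 e3
      have d1 : (x⁻¹ * y) ^ 2 = 1 := by
        have : z * (x⁻¹ * y) * (z : G)⁻¹ = x⁻¹ * y := by rw [d.2 z z.2, mul_inv_cancel_right]
        rw [pow_two]
        nth_rewrite 2 [← this]
        rw [show z * (x⁻¹ * y) * (z : G)⁻¹ = (z * x * (z : G)⁻¹)⁻¹ * (z * y * (z : G)⁻¹) by group, eq_inv_of_mul_eq_one_right e1,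
          eq_inv_of_mul_eq_one_right e2, inv_inv, cV x hx _ (inv_mem hy)]
        group
      have := Nat.dvd_gcd (orderOf_dvd_of_pow_eq_one d1) (orderOf_dvd_of_pow_eq_one (hV.2 _ d.1))
      rw [(Nat.coprime_primes Nat.prime_two Fact.out).2 hp.symm, Nat.dvd_one, orderOf_eq_one_iff] at this
      exact inv_mul_eq_one.1 this
  have lam : ∀ a ∈ A, ∃ c : F, (a ≠ 1 → c ≠ 0) ∧ ∀ w ∈ V, ψ ⁅a, w⁆ = ![c * ψ w 1, 0] := fun a ha => by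
    obtain ⟨c, hc⟩ := (h.natL_memA mT N (by rw [hF, Nat.card_eq_fintype_card]) ⟨a, mem_sup_left ha⟩).1 ha
    refine ⟨c, fun a1 c0 => a1 (congrArg Subtype.val (N.bij.1 (show ρ ⟨a, mem_sup_left ha⟩ = ρ 1 by rw [← hc, c0, u_zero, map_one]))),
      fun w hw => ?_⟩
    have := N.toNatD.comm ⟨a, mem_sup_left ha⟩ hw
    rw [← commutatorElement_inv, N.toNatD.inv (by rw [← commutatorElement_inv]; exact inv_mem (bV a ha w hw)), this, ← hc]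
    ext i; rw [Pi.neg_apply, Pi.sub_apply, CL.Quad.smul_fin_two]; fin_cases i <;> simp [u]
  intro a ha a1 c hc c1
  obtain ⟨x, x0, hx⟩ := lam a ha
  obtain ⟨d, d0, hd⟩ := lam c hc
  replace x0 := x0 a1
  replace d0 := d0 c1
  obtain ⟨D, D0, D1, D2, D3⟩ : ∃ D : Matrix.SpecialLinearGroup (Fin 2) F, D 0 0 = x / d ∧ D 0 1 = 0 ∧ D 1 0 = 0 ∧ D 1 1 = d / x :=
    ⟨⟨!![x / d, 0; 0, d / x], by simp [Matrix.det_fin_two]; field_simp⟩, rfl, rfl, rfl, rfl⟩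
  obtain ⟨y, hy⟩ := N.bij.2 D
  have yV : ∀ w ∈ V, y * w * (y : G)⁻¹ ∈ V := fun w hw => N.toNatD.conj_mem y hw
  have ψy : ∀ w ∈ V, ψ (y * w * (y : G)⁻¹) = ![x / d * ψ w 0, d / x * ψ w 1] := fun w hw => by
    rw [N.act y w hw, hy]; ext i; fin_cases i <;> simp [CL.Quad.smul_fin_two, D0, D1, D2, D3]
  have mA := h.natL_memA mT N (by rw [hF, Nat.card_eq_fintype_card])
  refine ⟨y, se A hTM hT.pgroup T1 ⟨l1 (e' ▸ y.2), mem_normalizer_fintype fun b hb => ?_⟩, fun w hw => ⟨?_, ?_⟩⟩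
  · obtain ⟨s, hs⟩ := (mA ⟨b, mem_sup_left hb⟩).1 hb
    refine (mA (y * ⟨b, mem_sup_left hb⟩ * y⁻¹)).2 ⟨(x / d) ^ 2 * s, ?_⟩
    rw [map_mul, map_mul, map_inv, ← hs, hy, eq_mul_inv_iff_mul_eq]
    refine CL.Quad.eq_of_smul_eq fun v => ?_
    have us : ∀ (c : F) (v : Fin 2 → F), u c • v = ![v 0 + c * v 1, v 1] := fun c v => by
      ext i; rw [CL.Quad.smul_fin_two]; fin_cases i <;> simp [u]
    rw [mul_smul, mul_smul, us, us]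
    ext i; fin_cases i <;> simp [CL.Quad.smul_fin_two, D0, D1, D2, D3]
    field_simp
  · refine inj _ (bV a ha _ (yV w hw)) _ (bV c hc w hw) (k2 a ha _ (yV w hw)) (k2 c hc w hw) ?_
    rw [hx _ (yV w hw), hd w hw, ψy w hw]
    congr 1; simp; field_simp
  · refine inj _ (yV _ (bV c hc w hw)) _ (bV a ha w hw) ?_ (k2 a ha w hw) ?_
    · have := congrArg (fun v : G => y * v * (y : G)⁻¹) (k2 c hc w hw)
      have e : (z : G) * (y * ⁅c, w⁆ * (y : G)⁻¹) * (z : G)⁻¹ = y * (z * ⁅c, w⁆ * (z : G)⁻¹) * (y : G)⁻¹ := by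
        rw [show (z : G) * (y * ⁅c, w⁆ * (y : G)⁻¹) * (z : G)⁻¹ = (z * y) * ⁅c, w⁆ * ((z : G) * y)⁻¹ by group, ← zc y y.2]; group
      rw [e]; simpa [mul_assoc] using this
    · rw [ψy _ (bV c hc w hw), hd w hw, hx w hw]
      congr 1
      · simp; field_simp
      · simp

end

variable {Ω : Type*} [Group Ω] [Finite Ω] {p : ℕ} [Fact p.Prime] {S E G B C M : Subgroup Ω} {N H : Subgroup (MulAut E)}

open CL.D3.CF

theorem core6 (hp : p ≠ 2) (hS : IsPGroup p S) (hE : E ≤ S) (hc : centralizerIn S E ≤ E) (hT : SylIn p (autInducedBy S E) N)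
    (hH : RelSPE (Inn E) (autInducedBy S E) N H) (h : Sec p S E (fn N) G B C M)
    (hK : ∀ α ∈ N, (∀ w ∈ C, w⁻¹ * autFun α w ∈ B) → α ∈ H)
    (hK' : ∀ α ∈ autInducedBy S E, (∀ w ∈ C, w⁻¹ * autFun α w ∈ B) → α ∈ Inn E) : 
    ∀ a ∈ G, a ∉ E → ∀ c ∈ G, c ∉ E → ∃ h ∈ fn H, h ∈ fn N ∧
      ∀ w ∈ C, ⁅a, h w⁆⁻¹ * ⁅c, w⁆ ∈ B ∧ (h ⁅c, w⁆)⁻¹ * ⁅a, w⁆ ∈ B := by
  obtain ⟨Γ, _, _, ι, f, r1, r2, r3⟩ := model h
  have : Finite (MulAut E) := Finite.of_injective _ DFunLike.coe_injective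
  have iC : ∀ α : N, ∀ w ∈ C, autFun α.1 w ∈ C := fun α w hw => h.ivC _ ⟨_, α.2, rfl⟩ w (h.le' hw) hw
  have r1' : ∀ w w', ι w = ι w' ↔ w.1⁻¹ * w'.1 ∈ B := fun w w' => by rw [← inv_mul_eq_one, ← map_inv, ← map_mul, r1]; rfl
  have kf : ∀ α, f α = 1 ↔ ∀ w ∈ C, w⁻¹ * autFun α.1 w ∈ B := fun α => ⟨fun e w hw => (r1' ⟨w, hw⟩ ⟨_, iC α w hw⟩).1 (by
    rw [← r2 α ⟨w, hw⟩ ⟨_, iC α w hw⟩ rfl, e]; simp), fun e => r3 α fun w => (r2 α w ⟨_, iC α w w.2⟩ rfl).trans ((r1' _ _).2 (e w w.2)).symm⟩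
  have kH : f.ker ≤ H.subgroupOf N := fun α hα => hK _ α.2 ((kf α).1 hα)
  obtain ⟨φ, kφ, cφ, tφ⟩ : ∃ φ : normalizerIn S E →* N, (∀ g, f (φ g) = 1 ↔ g.1 ∈ E) ∧ (∀ g, (φ g).1 = cjAut E g.1 g.2.2) ∧
      φ.range = (autInducedBy S E).subgroupOf N := ⟨MonoidHom.mk' (fun g => ⟨cjAut E g.1 g.2.2, hT.le (cjAut_mem_autInducedBy g.2.1 _)⟩)
    fun a b => Subtype.ext (cjAut_mul a.2.2 b.2.2), fun g => (kf _).trans ⟨fun e => (cjAut_mem_inn_iff hE hc g.2.1 g.2.2).1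
      (hK' _ (cjAut_mem_autInducedBy g.2.1 _) e), fun e w hw => by
        change _ * autFun (cjAut E g.1 g.2.2) w ∈ B
        rw [autFun_cjAut _ (h.le' hw), ← inv_inv w, inv_inv w⁻¹, cj_br]; exact h.cen _ e _ (inv_mem hw)⟩, fun _ => rfl,
    le_antisymm (by rintro _ ⟨g, rfl⟩; exact cjAut_mem_autInducedBy g.2.1 g.2.2) fun α hα => by
      obtain ⟨g, h1, h2, e⟩ := mem_autInducedBy_iff_cjAut.1 hα
      exact ⟨⟨g, h1, h2⟩, Subtype.ext e⟩⟩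
  have GD : G ≤ normalizerIn S E := fun g hg => ⟨h.GP hg, mem_normalizer_of_comm (h.Gn g hg)⟩
  obtain ⟨a, ha⟩ : ∃ a : G →* Γ, ∀ g, a g = f (φ ⟨g, GD g.2⟩) := ⟨f.comp (φ.comp (inclusion GD)), fun _ => rfl⟩
  have ka : ∀ g, a g = 1 ↔ g.1 ∈ E := fun g => by rw [ha, kφ]
  have bC : ∀ g ∈ G, ∀ w ∈ C, ⁅g, w⁆ ∈ C := fun g hg w hw => by
    have := iC (φ ⟨g, GD hg⟩) w hw
    rw [cφ, autFun_cjAut _ (h.le' hw)] at this
    exact mul_mem this (inv_mem hw)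
  have ca : ∀ g w, ⁅a g, ι w⁆ = ι ⟨⁅g.1, w.1⁆, bC _ g.2 _ w.2⟩ := fun g w => by
    rw [commutatorElement_def, ha, r2 _ w ⟨_, iC _ w w.2⟩ rfl, ← map_inv, ← map_mul]
    exact congrArg ι (Subtype.ext (by simp [cφ, autFun_cjAut _ (h.le' w.2), cj, commutatorElement_def]))
  have cM : ∀ w, ι w ∈ centralizer (a.range : Set Γ) ↔ w.1 ∈ M := fun w => by
    rw [h.hM _ w.2, mem_centralizer_iff]
    exact ⟨fun k g hg => (r1 ⟨_, bC g hg _ w.2⟩).1 ((ca ⟨g, hg⟩ w).symm.trans (commutatorElement_eq_one_iff_mul_comm.2 (k _ ⟨_, rfl⟩))),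
      by rintro k _ ⟨g, rfl⟩; exact commutatorElement_eq_one_iff_mul_comm.1 ((ca g w).trans ((r1 _).2 (k _ g.2)))⟩
  have n1 : Nat.card a.range = E.relIndex G := by
    rw [← index_ker, show a.ker = E.subgroupOf G from Subgroup.ext ka]; rfl
  have n2 : Nat.card (ι.range ⊓ centralizer (a.range : Set Γ) : Subgroup Γ) * M.relIndex C = Nat.card ι.range := by
    rw [← CxF.card_rel (inf_le_left (a := ι.range) (b := centralizer (a.range : Set Γ))), inf_relIndex_left, ← index_comap,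
      show comap ι (centralizer (a.range : Set Γ)) = M.subgroupOf C from Subgroup.ext cM]; rfl
  obtain ⟨-, R, hR⟩ := sylIn_iff_exists_sylow.1 hT
  have hT' : SylIn p ((autInducedBy S E).subgroupOf N) ⊤ := hR ▸ sylIn_top R
  have tH : (autInducedBy S E).subgroupOf N ≤ H.subgroupOf N := fun _ k => hH.le hT.le k
  have e3 := ff60 (p := p) (V := ι.range) (H := f.range) (T := ((autInducedBy S E).subgroupOf N).map f)
    (M := (H.subgroupOf N).map f) (A := a.range) hp ⟨⟨⟨by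
      rintro ⟨_, x, rfl⟩ ⟨_, y, rfl⟩
      exact Subtype.ext (commutatorElement_eq_one_iff_mul_comm.1 ((map_commutatorElement ι x y).symm.trans
        ((r1 _).2 (h.cen _ (h.le' x.2) _ y.2))))⟩⟩, by rintro _ ⟨x, rfl⟩; rw [← map_pow]; exact (r1 _).2 (h.exp _ x.2)⟩
    (le_normalizer_iff.2 (by rintro _ ⟨α, rfl⟩ _ ⟨w, rfl⟩; exact ⟨_, (r2 α w ⟨_, iC α w w.2⟩ rfl).symm⟩))
    (eq_bot_iff.2 (by rintro _ ⟨⟨α, rfl⟩, k⟩; exact r3 α fun w => by rw [← k _ ⟨w, rfl⟩, mul_inv_cancel_right]))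
    ⟨map_le_range _ _, (hT'.map f).isPGroup, fun Q k1 k2 k3 => (hT'.map f).eq_of_le (f.range_eq_map ▸ k3) k1 k2⟩ (map_mono tH) (lt_of_le_not_ge (map_le_range _ _) fun k => hH.2.1.not_ge fun x hx =>
      (comap_map_eq_self kH).le (k ⟨⟨x, hx⟩, rfl⟩))
    (se f hT' tH (fun s hs k g e => hH.mem_of_conj_mem' hT le_normalizer_of_normal hs (fun k' => k (by
      obtain ⟨g, rfl⟩ := tφ.ge hs
      exact (kφ g).2 ((cjAut_mem_inn_iff hE hc g.2.1 g.2.2).1 (cφ g ▸ k')))) g.2 e) kH)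
    (by rintro _ ⟨g, rfl⟩; exact ⟨_, tφ.le ⟨_, rfl⟩, (ha g).symm⟩) ⟨⟨⟨by
      rintro ⟨_, x, rfl⟩ ⟨_, y, rfl⟩
      exact Subtype.ext (commutatorElement_eq_one_iff_mul_comm.1 ((map_commutatorElement a x y).symm.trans
        ((ka _).2 (h.Gc _ x.2 _ y.2))))⟩⟩, by rintro _ ⟨x, rfl⟩; rw [← map_pow]; exact (ka _).2 (h.Gp _ x.2)⟩
    (fun e => h.ne fun g hg => (ka ⟨g, hg⟩).1 (e.le ⟨_, rfl⟩)) (by rw [← n2, n1, mul_comm]; exact Nat.mul_le_mul_right _ h.idx)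
  intro x hx nx z hz nz
  obtain ⟨_, ⟨y, hy, rfl⟩, e⟩ := e3 _ ⟨⟨x, hx⟩, rfl⟩ (mt (ka _).1 nx) _ ⟨⟨z, hz⟩, rfl⟩ (mt (ka _).1 nz)
  refine ⟨_, ⟨y.1, hy, rfl⟩, ⟨y.1, y.2, rfl⟩, fun w hw => ?_⟩
  obtain ⟨e1, e2⟩ := e _ ⟨⟨w, hw⟩, rfl⟩
  rw [r2 y ⟨w, hw⟩ ⟨_, iC y w hw⟩ rfl, ca, ca, r1'] at e1
  rw [ca, ca, r2 y _ ⟨_, iC y _ (bC z hz w hw)⟩ rfl, r1'] at e2
  exact ⟨e1, e2⟩

theorem one6 (hp : p ≠ 2) (hS : IsPGroup p S) (hE : E ≤ S) (hc : centralizerIn S E ≤ E) (hT : SylIn p (autInducedBy S E) N)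
    (hH : RelSPE (Inn E) (autInducedBy S E) N H) (h : Sec p S E (fn N) G B C M) (h1 : Chs E (fn N) G ⊥ B) (h2 : Chs E (fn N) G C ⊤) :
    ∀ a ∈ G, a ∉ E → ∀ c ∈ G, c ∉ E → ∃ h ∈ fn H, h ∈ fn N ∧
      ∀ w ∈ C, ⁅a, h w⁆⁻¹ * ⁅c, w⁆ ∈ B ∧ (h ⁅c, w⁆)⁻¹ * ⁅a, w⁆ ∈ B := by
  have : Finite (MulAut E) := Finite.of_injective _ DFunLike.coe_injective
  have hI : N ≤ normalizer (Inn E : Set (MulAut E)) := le_normalizer_of_normal
  have iv : ∀ {D}, Ivs E (fn N) D → AutInv N D := fun k α hα => k _ ⟨α, hα, rfl⟩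
  have k : ∀ κ ∈ Tv N (fun D₁ D₂ => D₁ = B ∧ D₂ = C), ∀ y ∈ Tv N (Sts E (fn N) G), κ * y * κ⁻¹ * y⁻¹ ∈ Inn E := fun κ hκ y hy => by
    have k1 := mul_mem (Tv_conj hκ.1 hy) (inv_mem hy)
    have k2 := mul_mem hκ (Tv_conj hy.1 (inv_mem hκ))
    simp only [← mul_assoc] at k2
    have st := fun {D D'} (r : Chs E (fn N) G D D') => Relation.ReflTransGen.mono (p := StabStep p N (κ * y * κ⁻¹ * y⁻¹))
      (fun _ _ r => .inl ⟨iv r.1, iv r.2.1, k1.2 _ _ r r.1 r.2.1⟩) _ _ r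
    exact hH.map_pCore_eq hT hI ▸ mem_pCore_of_chain (hS.to_le hE) k1.1 le_top
      (((st h1).tail (.inl ⟨iv h.ivB, iv h.ivC, k2.2 B C ⟨rfl, rfl⟩ h.ivB h.ivC⟩)).trans (st h2))
  obtain ⟨g, hg, n⟩ := SetLike.not_le_iff_exists.1 h.ne
  have hn := mem_normalizer_of_comm (h.Gn g hg)
  have c1 := cjAut_mem_autInducedBy (h.GP hg) hn
  have c2 := mt (cjAut_mem_inn_iff hE hc (h.GP hg) hn).1 n
  have c3 := cj_Tv hg hn (hT.le c1)
  refine core6 hp hS hE hc hT hH h (fun α hα e => hH.mem_of_conj_mem hT hI hα c1 c2 ?_) fun α hα e => by_contra fun n' => ?_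
  · simpa [cj] using mul_mem (hH.1.le (k α ((mem_K h).2 ⟨hα, e⟩) _ c3)) c1
  refine hH.2.1.not_ge fun x hx => hH.mem_of_conj_mem' hT hI c1 c2 hx (hH.mem_of_conj_mem hT hI (Tv_conj hx c3).1 hα n' ?_)
  have := mul_mem (inv_mem (hH.1.le (k α ((mem_K h).2 ⟨hT.le hα, e⟩) _ (Tv_conj hx c3)))) hα
  generalize x * _ * x⁻¹ = y at this
  simpa [cj, mul_assoc] using this

end F6

/-- Proof. Copy `ff0` (FUS/D3/FF0) and `ff_core`, `ff_one` (FUS/D3/CxF) with one more clause instead of `e4`, `e5`. In `ff0`: `ρ a = !![1, λ a; 0, 1]`, `ψ [a, w] = ![λ a * ψ w 1, 0]`; take `y ∈ H₁` with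
`ρ y = diag(μ⁻¹, μ)`, `μ = λ c / λ a`; `y` normalises `T`, so `y ∈ M`; `ψ [a, y w y⁻¹] = ψ [c, w]`, `ψ (y [c, w] y⁻¹) = ψ [a, w]`, and all four are inverted by `z` (`ρ z = -1`, central), on which set `ψ` is injective. -/
theorem ff6 {Ω : Type*} [Group Ω] [Finite Ω] {p : ℕ} [Fact p.Prime] {S E G B C M : Subgroup Ω} {F : FusionSystem S} (hp : p ≠ 2)
    (hS : IsPGroup p S) (hF : F.IsSaturated p) (hE : F.IsEssential p E) (h : Sec p S E (fn (F.autGroup E)) G B C M)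
    (h1 : Chs E (fn (F.autGroup E)) G ⊥ B) (h2 : Chs E (fn (F.autGroup E)) G C ⊤) :
    ∀ a ∈ G, a ∉ E → ∀ c ∈ G, c ∉ E → ∃ h ∈ fn (extAut F E), h ∈ fn (F.autGroup E) ∧
      ∀ w ∈ C, ⁅a, h w⁆⁻¹ * ⁅c, w⁆ ∈ B ∧ (h ⁅c, w⁆)⁻¹ * ⁅a, w⁆ ∈ B := by
  have hES : E ≤ S := hE.1.1
  exact F6.one6 hp hS hES (centralizerIn_le_of_isCentric hE.1) (sylIn_of_fullyNormalized hS hF hE.2.1)
    (relSPE_extAut_of_essential hS hF hE) h h1 h2

/-- Proof. `h = autFun α`; `γ = cjAut E g` (`mem_normalizer_of_comm`) lies in `Aut_F(E)`; `β = α γ α⁻¹ γ⁻¹` is trivial on `B ⊓ E` and on `E / B` (write `y = cj g (h x)`; `B` is invariant), so inner: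
`mem_inn_of_chain`, `isRadical_of_essential` as in `inner_of_triv` of D3/QS. -/
theorem cm_of {Ω : Type*} [Group Ω] [Finite Ω] {p : ℕ} [Fact p.Prime] {S E : Subgroup Ω} {F : FusionSystem S}
    (hS : IsPGroup p S) (hF : F.IsSaturated p) (hE : F.IsEssential p E) {h : Ω → Ω} (hh : h ∈ fn (F.autGroup E)) {g : Ω} (hg : g ∈ S)
    (hn : ∀ y ∈ E, ⁅g, y⁆ ∈ E) {B : Subgroup Ω} (hB : Ivs E (fn (F.autGroup E)) B) (e1 : ∀ y ∈ E, y ∈ B → h (cj g y) = cj g (h y))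
    (e2 : ∀ y ∈ E, h (cj g y) * (cj g (h y))⁻¹ ∈ B) : ∃ e ∈ E, ∀ y ∈ E, h (cj g y) = cj (e * g) (h y) := by
  obtain ⟨α, hα, rfl⟩ := hh
  have hn' := mem_normalizer_of_comm hn
  have hγ : cjAut E g hn' ∈ F.autGroup E := (sylIn_of_fullyNormalized hS hF hE.2.1).le (cjAut_mem_autInducedBy hg hn')
  have iB : AutInv (F.autGroup E) B := fun β hβ => hB _ ⟨β, hβ, rfl⟩
  have m := mul_mem (mul_mem hα hγ) (inv_mem (mul_mem hγ hα))
  have ev' : ∀ y ∈ E, autFun (cjAut E g hn' * α) y = cj g (autFun α y) := fun y hy => by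
    rw [autFun_mul _ _ hy, autFun_cjAut _ (autFun_mem α hy)]
  have ev : ∀ y ∈ E, autFun (α * cjAut E g hn' * (cjAut E g hn' * α)⁻¹) (cj g (autFun α y)) = autFun α (cj g y) := fun y hy => by
    rw [← ev' y hy, ← autFun_mul _ _ hy, inv_mul_cancel_right, autFun_mul _ _ hy, autFun_cjAut _ hy]
  have sj : ∀ x ∈ E, cj g (autFun α (autFun (cjAut E g hn' * α)⁻¹ x)) = x := fun x hx => by
    rw [← ev' _ (autFun_mem _ hx), autFun_autFun_inv _ hx]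
  obtain ⟨e, he, k⟩ := mem_inn_iff.1 (mem_inn_of_chain hS (isRadical_of_essential hS hF hE) m le_top
    (.tail (.single (.inl ⟨autInv_bot _, iB, fun x hx hb => by
      have y1 := autFun_mem (cjAut E g hn' * α)⁻¹ hx
      have := ev _ y1
      rw [e1 _ y1 (iB _ (inv_mem (mul_mem hγ hα)) x hx hb), sj x hx] at this
      rw [this]; simp⟩)) (.inl ⟨iB, autInv_of_le _ le_top, fun x hx _ => by
      have y1 := autFun_mem (cjAut E g hn' * α)⁻¹ hx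
      have k := e2 _ y1
      rw [← ev _ y1, sj x hx] at k
      have nx : x⁻¹ ∈ normalizer (E : Set Ω) := le_normalizer (inv_mem hx)
      have := iB _ ((sylIn_of_fullyNormalized hS hF hE.2.1).le (cjAut_mem_autInducedBy (hE.1.1 (inv_mem hx)) nx)) _
        (mul_mem (autFun_mem _ hx) (inv_mem hx)) k
      rw [autFun_cjAut _ (mul_mem (autFun_mem _ hx) (inv_mem hx))] at this
      simpa [cj, mul_assoc] using this⟩)))
  refine ⟨e, he, fun y hy => ?_⟩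
  have y1 : cj g (autFun α y) ∈ E := ev' y hy ▸ autFun_mem _ hy
  rw [← ev y hy, k y1]; simp [cj, mul_assoc]

end CL.G2F
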