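/-
S5211: the essential subgroups are `Q` and `Q'`, `p ≥ 5`, `q ≠ 7` (port of FUS/D3/Ess).
-/
import Cfsg.Agent.FUS.G2.EsB
import Cfsg.Agent.FUS.G2.EsC
import Cfsg.Agent.FUS.G2.F6

set_option autoImplicit false
set_option linter.unusedSimpArgs false
set_option linter.unusedSectionVars false

namespace CL.G2F

open CL.Fus CL.RF4 CL.D3 Subgroup Cfsg Cfsg.FusionSystem
open scoped commutatorElement

variable {K : Type*} [Field K] [Finite K] [P5 K] {p : ℕ} [Fact p.Prime] [CharP K p] {F F' : FusionSystem (⊤ : Subgroup (U K))}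
  {P : Subgroup (U K)} {A H : Set (U K → U K)}

theorem es_cases (h7 : Nat.card K ≠ 7) (h : Es p P) : P = Q ∨ P = Q' := by
  obtain ⟨A, H, c⟩ := h.cy
  by_cases hQ : P ≤ Q
  · exact Or.inl (esQ c.toCx hQ)
  by_cases hQ' : P ≤ Q'
  · by_cases hO : Omp p P ≤ sA
    · refine (esB0 h hQ' hQ hO).elim Or.inr fun ⟨c, e⟩ => ?_
      obtain ⟨A, H, c⟩ := h (y1 c)
      exact (esRi (e ▸ c)).elim
    · obtain ⟨x, e⟩ := esB1 h hQ' hQ hO
      obtain ⟨A, H, c⟩ := h x
      exact (esY6 (e ▸ c)).elim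
  exact (esC h7 c hQ hQ').elim

/-- D3/Ess `ext_top'` -/
theorem ext_top' (hF : F.IsSaturated p) {R : Subgroup (U K)} (h : ∀ E, F.IsEssential p E → Nat.card R ≤ Nat.card E → E = Q ∨ E = Q')
    (hQ : ¬ R ≤ Q) (hQ' : ¬ R ≤ Q') {f : U K → U K} (hf : Mor F R f) : ∃ g, Mor F ⊤ g ∧ Set.EqOn g f R := by
  refine alperin_ind isPGroup_top hF (motive := fun f => ∃ g, Mor F ⊤ g ∧ Set.EqOn g f R) ⟨id, mor_id F le_rfl, fun _ _ => rfl⟩
    (fun f g ⟨k, hk, e⟩ e' => ⟨k, hk, e.trans e'⟩) (fun f E g hf ⟨k, hk, e⟩ hE hg _ m => ?_) hf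
  rcases hE with rfl | hE
  · exact ⟨_, hg.comp hk fun _ _ => trivial, fun x hx => congrArg g (e hx)⟩
  obtain ⟨α, hα⟩ := exists_aut_top hk
  rcases h E hE (hf.card_img.ge.trans (card_le_of_le (img_le_iff.2 m))) with rfl | rfl
  · exact absurd (fun x hx => (map_mem α x).2.2.2.2.1.1 (hα x ▸ e hx ▸ m x hx)) hQ
  · exact absurd (fun x hx => (map_mem α x).2.2.2.2.2.1 (hα x ▸ e hx ▸ m x hx)) hQ'


/-- `alperin_ind` as in `ext_top'`, motive: `f` agrees on `R` with some `g`, `Mor F Q' g`, `g Q' ≤ Q'`; a step through `E = Q` is excluded by `hQ`; `map_mem` for `E = ⊤` -/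
theorem ext_Q' (hF : F.IsSaturated p) {R : Subgroup (U K)} (h : ∀ E, F.IsEssential p E → Nat.card R ≤ Nat.card E → E = Q ∨ E = Q')
    (hR : R ≤ Q') (hQ : ∀ f, Mor F R f → ¬ ∀ x ∈ R, f x ∈ Q) {f : U K → U K} (hf : Mor F R f) :
    ∃ g, Mor F Q' g ∧ (∀ x ∈ Q', g x ∈ Q') ∧ Set.EqOn g f R := by
  refine alperin_ind isPGroup_top hF (motive := fun f => ∃ g, Mor F Q' g ∧ (∀ x ∈ Q', g x ∈ Q') ∧ Set.EqOn g f R)
    ⟨id, mor_id F le_top, fun _ k => k, fun _ _ => rfl⟩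
    (fun f g ⟨k, hk, m, e⟩ e' => ⟨k, hk, m, e.trans e'⟩) (fun f E g hf ⟨k, hk, m', e⟩ hE hg ig m => ?_) hf
  rcases hE with rfl | hE
  · obtain ⟨α, hα⟩ := exists_aut_top hg
    exact ⟨_, hg.comp hk fun _ _ => trivial, fun x hx => by rw [Function.comp, hα]; exact (map_mem α _).2.2.2.2.2.2 (m' x hx),
      fun x hx => congrArg g (e hx)⟩
  rcases h E hE (hf.card_img.ge.trans (card_le_of_le (img_le_iff.2 m))) with rfl | rfl
  · exact absurd m (hQ f hf)
  · exact ⟨_, hg.comp hk m', fun x hx => ig ▸ mem_img_of_mem g (m' x hx), fun x hx => congrArg g (e hx)⟩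


/-- `f P` is centric, so contains `Z`, so is normalised by `Q` (`br_Q`); `P` is fully normalised -/
theorem not_le_Q (hF : F.IsSaturated p) (hE : F.IsEssential p P) (hc : Nat.card (normalizer (P : Set (U K))) < Nat.card (Q (K := K)))
    {f : U K → U K} (hf : Mor F P f) : ¬ ∀ x ∈ P, f x ∈ Q := fun k => by
  have hZ : sZ ≤ img f P := fun z hz => hE.1.2 _ hf.isConj ⟨trivial, mem_centralizer_iff.2 fun y _ => comm_Z y hz⟩
  have hN : Q ≤ normalizerIn ⊤ (img f P) := fun g hg => ⟨trivial, mem_normalizer_of_comm fun y hy => hZ (by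
    rw [br_Q hg (img_le_iff.2 k hy)]; exact ⟨rfl, rfl, rfl, rfl, rfl⟩)⟩
  have := (card_le_of_le hN).trans (hE.2.1.2 _ hf.isConj)
  rw [normalizerIn, top_inf_eq] at this
  exact hc.not_ge this


/-- Induction as D3/Ess `ess_cases`; `ext` as there; `cm`: `cm_of`; `f6`: `ff6`. `ext'`: closure induction on `extAut` (as `ext_of_mem_extAut`, motive: restriction of an `F`-automorphism of `Q'`). For a generator `(R, f)`, `P < R`:
if `R ≤ Q'` use `ext_Q'` (`not_le_Q`, `Mor.mono`); else `¬ R ≤ Q'`, `¬ R ≤ Q` (`not_le_Q` with `id`), `ext_top'` and `map_mem`. -/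
theorem essL (h7 : Nat.card K ≠ 7) : EssL p K := by
  intro F hF P hE
  induction hn : Nat.card (U K) - Nat.card P using Nat.strong_induction_on generalizing P F with
  | _ n ih =>
  refine es_cases (p := p) h7 fun g => ?_
  obtain ⟨F', hc⟩ := (isoOn_cj (P := ⊤) g).exists_corr F
  have hF' := hc.isSaturated hF
  have hE' := (hc.isEssential_iff le_top).2 hE
  have e : Nat.card (img (cj g) P) = Nat.card P := (mor_cj' F P g).card_img
  generalize img (cj g) P = P' at hE' e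
  have big : ∀ R, P' < R → ∀ E, F'.IsEssential p E → Nat.card R ≤ Nat.card E → E = Q ∨ E = Q' := fun R hR E hE hc => ih _ (by
    have := CL.Fus.card_lt_of_lt hR le_rfl
    have := card_le_card_group E
    omega) F' hF' E hE rfl
  refine ⟨_, _, cx_of_essential isPGroup_top hF' hE', (lt_of_essential isPGroup_top hF' hE').ne, fun hQ hQ' => ?_, fun hQ' hN => ?_,
    fun h hh x hx B hB => cm_of isPGroup_top hF' hE' hh trivial hx hB,
    fun G B C M => ff6 (p_ne_two (K := K)) isPGroup_top hF' hE'⟩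
  · rintro _ ⟨α, hα, rfl⟩
    obtain ⟨k, hk, e'⟩ := ext_of_mem_extAut (fun R f hR hf => ext_top' hF' (big R hR) (fun k => hQ (hR.le.trans k))
      (fun k => hQ' (hR.le.trans k)) hf) hα
    obtain ⟨β, hβ⟩ := exists_aut_top hk
    exact ⟨β, fun y hy => (e' hy).symm.trans (hβ y)⟩
  rintro _ ⟨α, hα, rfl⟩
  obtain ⟨k, hk, m, e'⟩ : ∃ k, Mor F' Q' k ∧ (∀ x ∈ Q', k x ∈ Q') ∧ Set.EqOn k (autFun α) P' := by
    induction hα using closure_induction with
    | mem α k =>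
      obtain ⟨R, f, h1, h2, h3⟩ := k
      have nQ : ∀ f, Mor F' R f → ¬ ∀ x ∈ R, f x ∈ Q := fun f hf k => not_le_Q hF' hE' hN (hf.mono h1.le) fun x hx => k x (h1.le hx)
      by_cases hR : R ≤ Q'
      · obtain ⟨k, hk, m, e⟩ := ext_Q' hF' (big R h1) hR nQ h2
        exact ⟨k, hk, m, (e.mono h1.le).trans h3⟩
      · obtain ⟨k, hk, e⟩ := ext_top' hF' (big R h1) (nQ id (mor_id F' le_top)) hR h2
        obtain ⟨β, hβ⟩ := exists_aut_top hk
        exact ⟨k, hk.mono le_top, fun x hx => hβ x ▸ (map_mem β x).2.2.2.2.2.2 hx, (e.mono h1.le).trans h3⟩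
    | one => exact ⟨id, mor_id F' le_top, fun _ k => k, fun x hx => (autFun_one hx).symm⟩
    | mul α β _ _ ha hb =>
      obtain ⟨a, ha, m, e⟩ := ha
      obtain ⟨b, hb, m', e'⟩ := hb
      exact ⟨_, ha.comp hb m', fun x hx => m _ (m' x hx), fun x hx => by
        rw [Function.comp, e' hx, e (autFun_mem β hx), autFun_mul _ _ hx]⟩
    | inv α _ ha =>
      obtain ⟨a, ha, m, e⟩ := ha
      obtain ⟨b, hb, i⟩ := exists_isoOn ha m
      exact ⟨b, hb, i.maps', fun x hx => by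
        rw [← autFun_autFun_inv α hx, ← e (autFun_mem _ hx), i.left _ (hQ' (autFun_mem _ hx)), e (autFun_mem _ hx), autFun_autFun_inv α hx]⟩
  obtain ⟨k', -, i⟩ := exists_isoOn hk m
  exact ⟨k, k', i, fun y hy => (e' hy).symm⟩


theorem ext_top (h7 : Nat.card K ≠ 7) (hF : F.IsSaturated p) {R : Subgroup (U K)} (hQ : ¬ R ≤ Q) (hQ' : ¬ R ≤ Q') {f : U K → U K}
    (hf : Mor F R f) : ∃ g, Mor F ⊤ g ∧ Set.EqOn g f R :=
  ext_top' hF (fun _ hE _ => essL h7 F hF _ hE) hQ hQ' hf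

/-- the elements of the strongly embedded subgroup of `Aut_F(Q)` extend to `S` -/
theorem ext_extAutQ (h7 : Nat.card K ≠ 7) (hF : F.IsSaturated p) {α : MulAut (Q (K := K))} (hα : α ∈ extAut F Q) :
    ∃ g, Mor F ⊤ g ∧ Set.EqOn g (autFun α) (Q (K := K)) :=
  ext_of_mem_extAut (fun _ _ hR hf => ext_top h7 hF hR.not_ge (fun k => one_ne_zero (α := K) (k (hR.le (show y1 1 ∈ Q from rfl)))) hf) hα

end CL.G2F
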