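/-
S5211: the automizer of `Q`, `p ≥ 5`, `q ≠ 7` (port of FUS/D3/QS).
-/
import Cfsg.Agent.FUS.G2.Ess5

set_option autoImplicit false
set_option linter.unusedSimpArgs false
set_option linter.unusedSectionVars false
set_option linter.unusedVariables false
set_option linter.unnecessarySeqFocus false

namespace CL.G2F

open CL.Fus CL.RF4 CL.D3 Subgroup Cfsg Cfsg.FusionSystem
open scoped commutatorElement

variable {K : Type*} [Field K] [Finite K] [P5 K] {p : ℕ} [Fact p.Prime] [CharP K p] {F F' : FusionSystem (⊤ : Subgroup (U K))}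

namespace QS5

variable {f f' : U K → U K} {g h : U K}

theorem b0 (i : IsoOn Q Q f f') (hg : g ∈ Q) (hh : h ∈ Q) : bf (f g) (f h) = 0 ↔ bf g h = 0 := by
  rw [← comm_Q hg hh, ← comm_Q (i.maps _ hg) (i.maps _ hh), ← i.map_mul hg hh, ← i.map_mul hh hg, i.eq_iff (mul_mem hg hh) (mul_mem hh hg)]

theorem Z_le : sZ ≤ Q (K := K) := fun _ k => k.2.2.2.2
theorem V_le : sV ≤ Q (K := K) := fun _ k => k.2.2.2

theorem mapZ (i : IsoOn Q Q f f') (hg : g ∈ sZ) : f g ∈ sZ := by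
  have m := i.maps _ (Z_le hg)
  have := bW_nondeg three_ne (y := pW (f g)) fun z => by
    rw [← pW_lW z, bW_pW, ← i.right _ (lW_mem z), b0 i (Z_le hg) (i.maps' _ (lW_mem z)), ← comm_Q (Z_le hg) (i.maps' _ (lW_mem z)),
      comm_Z _ hg]
  simpa using (pW_eq_iff m (one_mem _)).1 this

theorem wd (i : IsoOn Q Q f f') (hg : g ∈ Q) : pW (f (lW (pW g))) = pW (f g) := by
  rw [pW_eq_iff (i.maps _ (lW_mem _)) (i.maps _ hg), ← i.map_inv hg, ← i.map_mul (lW_mem _) (inv_mem hg)]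
  exact mapZ i ((pW_eq_iff (lW_mem _) hg).1 rfl)

theorem exX0 (i : IsoOn Q Q f f') : ∃ x : MulAut (W K), ∀ g ∈ Q, pW (f g) = x (pW g) :=
  ⟨⟨⟨fun y => pW (f (lW y)), fun y => pW (f' (lW y)), fun y => by
      simp only [wd i.symm (i.maps _ (lW_mem y)), i.left _ (lW_mem y), pW_lW], fun y => by
      simp only [wd i (i.maps' _ (lW_mem y)), i.right _ (lW_mem y), pW_lW]⟩, fun y z => by
    have := wd i (mul_mem (lW_mem y) (lW_mem z))
    rw [pW_mul (lW_mem y), i.map_mul (lW_mem y) (lW_mem z), pW_mul (i.maps _ (lW_mem y))] at this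
    exact this⟩, fun _ hg => (wd i hg).symm⟩

theorem extW {x y : MulAut (W K)} (e : ∀ g ∈ Q, x (pW g) = y (pW g)) : x = y := MulEquiv.ext fun z => e _ (lW_mem z)

/-- the action of `Aut(Q)` on `W` -/
theorem exΦ : ∃ Φ : MulAut (Q (K := K)) →* MulAut (W K), ∀ α, ∀ g ∈ Q, pW (autFun α g) = Φ α (pW g) := by
  choose x hx using fun α : MulAut (Q (K := K)) => exX0 (isoOn_autFun α)
  exact ⟨MonoidHom.mk' x fun α β => extW fun g hg => by
    rw [← hx _ g hg, autFun_mul _ _ hg, hx _ _ (autFun_mem β hg), hx _ g hg]; rfl, hx⟩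

theorem fZ (hf : IsHomOn Q f) (h1 : ∀ g ∈ Q, f g ∈ Q) (hg : g ∈ Q) (hh : h ∈ Q) : f (y3 (bf g h)) = y3 (bf (f g) (f h)) := by
  rw [← br_Q hg hh, hf.map_commutator hg hh, br_Q (h1 _ hg) (h1 _ hh)]

theorem fixZ (hf : IsHomOn Q f) (h1 : ∀ g ∈ Q, f g ∈ Q) (e : ∀ g ∈ Q, pW (f g) = pW g) (hg : g ∈ sZ) : f g = g := by
  have := fZ hf h1 (g := y1 g.v) (h := y5 1) rfl rfl
  simp only [← bW_pW, e _ (show y1 g.v ∈ Q from rfl), e _ (show y5 1 ∈ Q from rfl)] at this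
  rwa [show y3 _ = g from U.ext hg.1.symm hg.2.1.symm (by simp [bW]) hg.2.2.1.symm hg.2.2.2.1.symm hg.2.2.2.2.symm] at this

theorem mem_V (hg : g ∈ Q) : g ∈ sV ↔ pW g ∈ VW := ⟨fun k => ⟨k.1, k.2.1, k.2.2.1⟩, fun k => ⟨k.1, k.2.1, k.2.2, hg⟩⟩

theorem dd_Q {a d : K} {ρ : RingAut K} (k : Ok a d) (hg : g ∈ Q) : dd a d ρ k g ∈ Q := by rw [mem_Q] at *; simp [hg]

theorem cj_Q {u : U K} (hu : u ∈ Q) (hg : g ∈ Q) : cj u g = y3 (bf u g) * g := by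
  rw [← br_Q hu hg, commutatorElement_def, inv_mul_cancel_right, cj]

theorem wa_dd {a d : K} (ρ : RingAut K) (h : Ok a d) (h' : Ok (a * d ^ 3) d⁻¹) {g : U K} (hg : g ∈ Q) :
    wa (dd a d ρ h g) = dd (a * d ^ 3) d⁻¹ ρ h' (wa g) := by
  have n0 := h.d0
  gds
  simp only [map_add, map_sub, map_mul, map_neg, map_zero, map_ofNat]
  and_intros <;> field_simp <;> ring

end QS5

open QS5

/-- D3/QS `extQ` (`cx_of`, `stabV`, `ext_extAutQ`, `exists_aut_top`) -/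
theorem extQ (h7 : Nat.card K ≠ 7) (hF : F.IsSaturated p) (hE : F.IsEssential p Q) {f : U K → U K} (hf : Mor F Q f) (h1 : ∀ x ∈ Q, f x ∈ Q)
    (h2 : ∀ x ∈ sV, f x ∈ sV) : ∃ g, Mor F ⊤ g ∧ Set.EqOn g f (Q (K := K)) := by
  obtain ⟨α, hα, e⟩ := hf.exists_aut (hf.img_eq_self h1)
  have hN : F.autGroup Q ⊓ stabAut Q sV ≤ extAut F Q := by
    by_contra k
    refine stabV (cx_of (N := F.autGroup Q ⊓ stabAut Q sV) isPGroup_top hF hE (le_inf (autInducedBy_le_autGroup F le_top) fun β hβ x hx => ?_) inf_le_left k) ?_ ?_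
    · obtain ⟨s, -, e'⟩ := mem_autInducedBy_iff.1 hβ
      rw [e' hx]
      exact (mem_normalizer_iff.1 (le_normalizer_of_normal (K := ⊤) (mem_top s)) x).symm
    · rintro _ ⟨γ, hγ, rfl⟩
      obtain ⟨g, hg, e'⟩ := ext_extAutQ h7 hF hγ
      obtain ⟨β, hβ⟩ := exists_aut_top hg
      exact ⟨β, fun y hy => by rw [← hβ, e' hy]⟩
    · rintro _ ⟨γ, hγ, rfl⟩ y hy k
      exact (hγ.2 y hy).2 k
  obtain ⟨g, hg, e'⟩ := ext_extAutQ h7 hF (hN ⟨hα, mem_stabAut_of_finite V_le fun x hx => e (V_le hx) ▸ h2 x hx⟩)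
  exact ⟨g, hg, e'.trans e⟩

/-- D3/QS `exX`, for any automorphism of `Q` -/
theorem exX {f f' : U K → U K} (i : IsoOn Q Q f f') : (∀ g ∈ sZ, f g ∈ sZ) ∧ ∃ x : MulAut (W K), ∀ g ∈ Q, pW (f g) = x (pW g) :=
  ⟨fun _ hg => mapZ i hg, exX0 i⟩

theorem exists_XW {f : U K → U K} (hf : Mor F Q f) (h1 : ∀ g ∈ Q, f g ∈ Q) : ∃ x ∈ XW F, ∀ g ∈ Q, pW (f g) = x (pW g) := by
  obtain ⟨f', -, i⟩ := exists_isoOn hf h1
  obtain ⟨x, hx⟩ := exX0 i
  exact ⟨x, ⟨f, hf, h1, hx⟩, hx⟩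

/-- D3/QS `inner_of_triv` -/
theorem inner_of_triv (hF : F.IsSaturated p) (hE : F.IsEssential p Q) {f : U K → U K} (hf : Mor F Q f) (h1 : ∀ g ∈ Q, f g ∈ Q)
    (e : ∀ g ∈ Q, pW (f g) = pW g) : ∃ u ∈ Q, ∀ g ∈ Q, f g = cj u g := by
  obtain ⟨α, hα, k⟩ := hf.exists_aut (hf.img_eq_self h1)
  have iZ : AutInv (F.autGroup Q) (sZ (K := K)) := fun β _ y _ hy => mapZ (isoOn_autFun β) hy
  obtain ⟨u, hu, e'⟩ := mem_inn_iff.1 (mem_inn_of_chain isPGroup_top (isRadical_of_essential isPGroup_top hF hE) hα le_rfl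
    (.tail (.single (.inl ⟨autInv_bot _, iZ, fun y hy hz => by rw [k hy, fixZ hf.isHomOn h1 e hz]; simp⟩))
      (.inl ⟨iZ, autInv_of_le _ le_rfl, fun y hy _ => by
        rw [k hy]; exact Normal.mem_comm inferInstance ((pW_eq_iff (h1 y hy) hy).1 (e y hy))⟩)))
  exact ⟨u, hu, fun g hg => (k hg).symm.trans (e' hg)⟩

theorem dW_mem {a d : K} {ρ : RingAut K} {k : Ok a d} (m : Mor F ⊤ (dd a d ρ k)) : dW a d ρ k ∈ XW F :=
  ⟨_, m.mono le_top, fun _ => dd_Q k, fun g _ => pW_dd k g⟩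

/-- D3/QS `std0` -/
theorem std0 (h7 : Nat.card K ≠ 7) (hF : F.IsSaturated p) (hS : Std F) (hE : F.IsEssential p Q) {x : MulAut (W K)} (hx : x ∈ XW F)
    (e : ∀ v ∈ VW, x v ∈ VW) : ∃ t a d ρ k, Mor F ⊤ (dd (K := K) a d ρ k) ∧ x = tt t * dW a d ρ k := by
  obtain ⟨f, hf, h1, h2⟩ := hx
  obtain ⟨g, hg, k⟩ := extQ h7 hF hE hf h1 fun y hy => (mem_V (h1 _ (V_le hy))).2 (h2 _ (V_le hy) ▸ e _ ((mem_V (V_le hy)).1 hy))
  obtain ⟨y, a, d, ρ, ok, m, e'⟩ := dd_mem hS hg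
  exact ⟨y.t, a, d, ρ, ok, m, extW fun z hz => by rw [← h2 z hz, ← k hz, e', pW_cj _ (dd_Q ok hz), pW_dd]; rfl⟩

/-- `std0`, `t = 0` on `e1`, `dW_inj` (D3/QS `ht_mem`) -/
theorem dd_of_dW (h7 : Nat.card K ≠ 7) (hF : F.IsSaturated p) (hS : Std F) (hE : F.IsEssential p Q) {a d : K} {ρ : RingAut K} {k : Ok a d}
    (h : dW a d ρ k ∈ XW F) : Mor F ⊤ (dd a d ρ k) := by
  obtain ⟨t, a', d', ρ', k', m, e⟩ := std0 h7 hF hS hE h fun v hv => ⟨by simp [hv.1], by simp [hv.2.1], by simp [hv.2.2]⟩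
  obtain rfl : t = 0 := by simpa [k'.a0] using congrArg (fun α : MulAut (W K) => (α e1).s) e
  rw [tt_zero, one_mul] at e
  obtain ⟨rfl, rfl, rfl⟩ := dW_inj _ e
  exact m

/-- D3/QS `qd` (`sq` is vacuous: `p_ne_two`) -/
theorem qd (h7 : Nat.card K ≠ 7) (hF : F.IsSaturated p) (hS : Std F) (hE : F.IsEssential p Q) (hb : Hb F) : QD p (XW F) := by
  obtain ⟨Φ, hΦ⟩ := exΦ (K := K)
  have hT := sylIn_of_fullyNormalized isPGroup_top hF hE.2.1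
  have nQ : ∀ s : U K, s ∈ normalizer (Q (K := K) : Set (U K)) := fun s => le_normalizer_of_normal (K := ⊤) (mem_top s)
  have cΦ : ∀ s, Φ (cjAut Q s (nQ s)) = tt s.t := fun s => extW fun g hg => by rw [← hΦ _ g hg, autFun_cjAut _ hg, pW_cj _ hg]
  have lift : ∀ x ∈ XW F, ∃ α ∈ F.autGroup Q, Φ α = x := fun x ⟨f, hf, h1, h3⟩ => by
    obtain ⟨α, hα, e⟩ := hf.exists_aut (hf.img_eq_self h1)
    exact ⟨α, hα, extW fun g hg => by rw [← hΦ _ g hg, e hg, h3 g hg]⟩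
  refine ⟨?_, fun x ⟨f, hf, h1, h3⟩ => ?_, fun hp => absurd hp (p_ne_two (K := K)), fun x hx e => ?_, fun x hx t t' ht e => ?_, ?_,
    fun c k => dW_mem (hb c k)⟩
  · convert hT.map Φ using 1
    · refine le_antisymm ?_ ?_
      · rintro _ ⟨t, rfl⟩
        exact ⟨_, cjAut_mem_autInducedBy (mem_top (y6 t)) (nQ _), cΦ _⟩
      · rintro _ ⟨α, hα, rfl⟩
        obtain ⟨s, -, hs, rfl⟩ := mem_autInducedBy_iff_cjAut.1 hα
        exact ⟨_, (cΦ s).symm⟩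
    · refine le_antisymm lift ?_
      rintro _ ⟨α, hα, rfl⟩
      exact ⟨_, mor_autFun le_top hα, fun _ => autFun_mem α, hΦ α⟩
  · refine ⟨fun c => (f (y3 c)).v, fun a b => ?_⟩
    rw [← pW_lW a, ← pW_lW b, ← h3 _ (lW_mem a), ← h3 _ (lW_mem b), bW_pW, bW_pW]
    simp only [fZ hf.isHomOn h1 (lW_mem a) (lW_mem b), y3_v]
  · obtain ⟨t, a, d, ρ, k, m, e⟩ := std0 h7 hF hS hE hx e
    exact ⟨t, a, d, ρ, k, dW_mem m, e⟩
  · obtain ⟨α, hα, rfl⟩ := lift x hx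
    have c := fun t : K => cjAut_mem_autInducedBy (mem_top (y6 t : U K)) (nQ _)
    have m := mul_mem (mul_mem (mul_mem hα (hT.le (c t))) (inv_mem hα)) (inv_mem (hT.le (c t')))
    obtain ⟨u, hu, k⟩ := inner_of_triv hF hE (mor_autFun le_top m) (fun _ => autFun_mem _) fun g hg => by
      rw [hΦ _ g hg, map_mul, map_mul, map_mul, map_inv, map_inv, cΦ, cΦ, y6_t, y6_t, e, mul_inv_cancel, MulAut.one_apply]
    have := (relSPE_extAut_of_essential isPGroup_top hF hE).mem_of_conj_mem hT (autGroup_le_normalizer_inn F Q) hα (c t)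
      (mt (cjAut_mem_inn_iff le_top (centralizerIn_le_of_isCentric hE.1) (mem_top _) _).1 ht)
      ((mul_mem_cancel_right (inv_mem (c t'))).1 (inn_le_autInducedBy le_top (mem_inn_iff.2 ⟨u, hu, k⟩)))
    obtain ⟨g, hg, e'⟩ := ext_extAutQ h7 hF this
    obtain ⟨β, hβ⟩ := exists_aut_top hg
    have q : y5 (1 : K) ∈ Q := rfl
    rw [show (e4 : W K) = pW (y5 1) from rfl, ← hΦ _ _ q, ← mem_V (autFun_mem _ q), ← e' q, hβ]
    exact (map_mem β _).2.1.2 ⟨rfl, rfl, rfl, rfl⟩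
  · obtain ⟨f, f', hf, -, i, n⟩ := exists_move hF hE (X := sV) fun f hf h1 h2 => extQ h7 hF hE hf h1 h2
    obtain ⟨x, hx, e⟩ := exists_XW hf i.maps
    refine ⟨x, hx, fun k => n fun y hy => (mem_V (i.maps _ (V_le hy))).2 ?_⟩
    have b : ∀ a b, bW (x a) (x b) = 0 ↔ bW a b = 0 := fun a b => by
      rw [← pW_lW a, ← pW_lW b, ← e _ (lW_mem a), ← e _ (lW_mem b), bW_pW, bW_pW, b0 i (lW_mem a) (lW_mem b)]
    have bV : ∀ {v : W K}, v ∈ VW → ∀ z, bW z v = z.u * v.w := fun {v} hv z => by simp [bW, hv.1, hv.2.1, hv.2.2]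
    have w0 : (x e4).w ≠ 0 := fun e0 => by
      have : x e4 = 1 := W.ext k.1 k.2.1 k.2.2 e0
      rw [map_eq_one_iff _ x.injective] at this
      simpa using congrArg W.w this
    have hy' := (mem_V (V_le hy)).1 hy
    have key : ∀ z : W K, z.u = 0 → bW z (x (pW y)) = 0 := fun z hz => by
      have := (b (x⁻¹ z) e4).1 (by rw [MulAut.apply_inv_self, bV k, hz, zero_mul])
      rw [bV ⟨rfl, rfl, rfl⟩, e4_w, mul_one] at this
      rw [← MulAut.apply_inv_self _ x z, b, bV hy', this, zero_mul]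
    rw [e _ (V_le hy)]
    exact ⟨by simpa [bW] using key e4 rfl, by simpa [bW, three_ne] using key (e3 1) rfl, by simpa [bW, three_ne] using key (e2 1) rfl⟩

/-- Proof. D3/QS `wa_mem`, shorter: `ε = wa' ∘ n`, `ε g = g · y3 (χ g)`, `χ` additive on `Q`, zero on `Z`. `key` for `δ = dd (-1) 1 1` (`a² d³ = 1`, partner `dd (a d³) d⁻¹ = δ`): `χ (δ g) = χ g + bf u g`; `δ g · g ∈ Z`, so `χ (δ g) = -χ g`, `χ g = bf u₁ g`, `u₁ = -u / 2` coordinatewise. -/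
theorem wa_mem (hF : F.IsSaturated p) (hE : F.IsEssential p Q) (hm : ∀ h : Ok (-1 : K) 1, Mor F ⊤ (dd (-1) 1 1 h)) (ha : aW ∈ XW F) :
    Mor F Q wa := by
  obtain ⟨n, hn, n1, n2⟩ := ha
  obtain ⟨n', hn', i⟩ := exists_isoOn hn n1
  have iε := i.trans isoOn_wa.symm
  obtain ⟨ε, hε⟩ : ∃ ε, ε = wa' ∘ n := ⟨_, rfl⟩
  rw [← hε] at iε
  have nε : ∀ g ∈ Q, n g = wa (ε g) := fun g hg => by rw [hε, Function.comp, isoOn_wa.right _ (n1 g hg)]
  have pε : ∀ g ∈ Q, pW (ε g) = pW g := fun g hg => aW.injective (by rw [← pW_wa, ← nε g hg, n2 g hg])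
  obtain ⟨χ, hχ⟩ : ∃ χ : U K → K, ∀ g, (ε g).v = g.v + χ g := ⟨fun g => (ε g).v - g.v, fun g => by ring⟩
  have add : ∀ g ∈ Q, ∀ h ∈ Q, χ (g * h) = χ g + χ h := fun g hg h hh => by
    have := congrArg U.v (iε.map_mul hg hh)
    obtain ⟨-, -, a3, a4⟩ := W.ext_iff.1 (pε g hg)
    obtain ⟨b1, b2, -, -⟩ := W.ext_iff.1 (pε h hh)
    simp only [pW_u, pW_s, pW_r, pW_w] at a3 a4 b1 b2
    simp only [hχ, U.mul_v, a3, a4, b1, b2, mem_Q.1 hg, mem_Q.1 (iε.maps g hg)] at this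
    linear_combination this
  have χZ : ∀ g ∈ sZ, χ g = 0 := fun g hg => by have := hχ g; rw [fixZ iε.hom iε.maps pε hg] at this; simpa using this
  have k : Ok (-1 : K) 1 := ⟨by simp, one_ne_zero⟩
  obtain ⟨u, hu, key⟩ : ∃ u ∈ Q, ∀ g ∈ Q, χ (dd (-1) 1 1 k g) = χ g + bf u g := by
    have k' : Ok ((-1 : K) * 1 ^ 3) 1⁻¹ := ⟨by simp, by simp⟩
    have m1 := (hm k).mono (Q := Q) le_top
    have hm' : Mor F ⊤ (dd ((-1 : K) * 1 ^ 3) 1⁻¹ 1 k') := dd_congr k k' (by simp) (by simp) rfl ▸ hm k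
    obtain ⟨δ', m2, j⟩ := exists_isoOn (hm'.mono (Q := Q) le_top) fun _ => dd_Q k'
    have q1 : ∀ g ∈ Q, n (dd (-1) 1 1 k g) ∈ Q := fun g hg => n1 _ (dd_Q k hg)
    have q2 : ∀ g ∈ Q, δ' (n (dd (-1) 1 1 k g)) ∈ Q := fun g hg => j.maps' _ (q1 g hg)
    have q3 : ∀ g ∈ Q, n' (δ' (n (dd (-1) 1 1 k g))) ∈ Q := fun g hg => i.maps' _ (q2 g hg)
    have rel : ∀ g ∈ Q, dd (-1) 1 1 k (ε (n' (δ' (n (dd (-1) 1 1 k g))))) = ε (dd (-1) 1 1 k g) := fun g hg =>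
      isoOn_wa.injOn (dd_Q k (iε.maps _ (q3 g hg))) (iε.maps _ (dd_Q k hg)) (by
        rw [wa_dd 1 k k' (iε.maps _ (q3 g hg)), ← nε _ (q3 g hg), i.right _ (q2 g hg), j.right _ (q1 g hg), nε _ (dd_Q k hg)])
    obtain ⟨u, hu, e'⟩ := inner_of_triv hF hE (hn'.comp (m2.comp (hn.comp m1 fun _ => dd_Q k) q1) q2) q3 fun g hg =>
      (dW (-1) 1 1 k).injective (by
        have := congrArg pW (rel g hg)
        rwa [pW_dd, pε _ (q3 g hg), pε _ (dd_Q k hg), pW_dd] at this)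
    refine ⟨u, hu, fun g hg => ?_⟩
    have := congrArg U.v (rel g hg)
    rw [show n' (δ' (n (dd (-1) 1 1 k g))) = cj u g from e' g hg, cj_Q hu hg] at this
    simp only [dd_v, hχ, RingAut.one_apply, one_mul, add _ (show y3 (bf u g) ∈ Q from rfl) g hg,
      χZ _ (show y3 (bf u g) ∈ sZ from ⟨rfl, rfl, rfl, rfl, rfl⟩), U.mul_v] at this
    simp at this
    linear_combination -this
  have h2 := two_ne (K := K)
  have cχ : ∀ g ∈ Q, χ g = -bf u g / 2 := fun g hg => by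
    have e1 := add _ (dd_Q (ρ := 1) k hg) g hg
    rw [χZ _ (by rw [mem_Q] at hg; rw [mem_sZ]; gds; simp [hg]), key g hg] at e1
    field_simp
    linear_combination -e1
  obtain ⟨u₁, uQ, hu₁⟩ : ∃ u₁ ∈ Q (K := K), ∀ g, bf u₁ g = -bf u g / 2 :=
    ⟨⟨-u.u / 2, -u.s / 2, 0, -u.r / 2, -u.w / 2, 0⟩, rfl, fun g => by simp only [bf]; ring⟩
  refine (hn.comp (mor_cj' F Q _) fun g hg => (isoOn_cj u₁).maps' g hg).congr (g := wa) fun g hg => ?_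
  have q := (isoOn_cj (P := Q) u₁).maps' g hg
  rw [Function.comp, nε _ q]
  conv_rhs => rw [← cj_cj_inv u₁ g]
  generalize cj _⁻¹ g = g at q
  obtain ⟨a1, a2, a3, a4⟩ := W.ext_iff.1 (pε g q)
  simp only [pW_u, pW_s, pW_r, pW_w] at a1 a2 a3 a4
  rw [cj_Q uQ q]
  congr 1
  gcs
  simp [a1, a2, a3, a4, hχ, cχ g q, hu₁, mem_Q.1 q, mem_Q.1 (iε.maps g q)]
  ring

/-- `exists_XW`, `extQ`, `pW_cj`; `wa (Y₁ Y₃) ≤ V` (see `le_of_gen` in D3/Real) -/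
theorem genQ (h7 : Nat.card K ≠ 7) (hF : F.IsSaturated p) (hE : F.IsEssential p Q) (ha : Mor F Q wa) (hk : KOne (XW F)) : GenQ F := by
  intro f hf h1
  obtain ⟨x, hx, e⟩ := exists_XW hf h1
  rcases hk x hx with k | ⟨t, k⟩
  · exact .inl (extQ h7 hF hE hf h1 fun y hy => (mem_V (h1 _ (V_le hy))).2 (e _ (V_le hy) ▸ k _ ((mem_V (V_le hy)).1 hy)))
  have m1 : ∀ y ∈ Q, cj (y6 t) (f y) ∈ Q := fun y hy => (isoOn_cj (y6 t)).maps _ (h1 y hy)
  obtain ⟨g, hg, e'⟩ := extQ h7 hF hE (ha.comp (hf.cj_comp (s := y6 t) trivial) m1) (fun y hy => isoOn_wa.maps _ (m1 y hy))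
    fun y hy => by
      have := k _ ((mem_V (V_le hy)).1 hy)
      rw [← e _ (V_le hy), ← y6_t t, ← pW_cj _ (h1 _ (V_le hy))] at this
      obtain ⟨e1, e2, e3⟩ := this
      exact ⟨by rw [Function.comp, wa_u]; exact neg_eq_zero.2 e3, e2, by rw [Function.comp, wa_r]; exact neg_eq_zero.2 e1, rfl⟩
  exact .inr ⟨t, g, hg, fun y hy => e' hy⟩

end CL.G2F
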