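/-
S5211: realisation by `G₂(q)` extended by field automorphisms (port of FUS/D3/Real).
-/
import Cfsg.Agent.FUS.G2.Tools
import Cfsg.Agent.FUS.Realized
import Cfsg.Agent.FUS.GroupFusion
import Cfsg.Agent.FUS.S4.Tools

set_option autoImplicit false
set_option linter.unusedSimpArgs false
set_option linter.unusedSectionVars false

namespace CL.G2F

open CL.Fus CL.RF4 CL.D3 Subgroup Cfsg Cfsg.FusionSystem
open scoped commutatorElement

variable {K : Type*} [Field K] [Finite K] {p : ℕ} [Fact p.Prime] [CharP K p] {F F' : FusionSystem (⊤ : Subgroup (U K))}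

/-- Alperin (`alperin_isSubsystemOf`) -/
theorem le_of_three (he : EssL p K) (hF : F.IsSaturated p) (h : ∀ f, Mor F ⊤ f → Mor F' ⊤ f)
    (hQ : F.IsEssential p Q → ∀ f, Mor F Q f → (∀ x ∈ Q, f x ∈ Q) → Mor F' Q f)
    (hQ' : F.IsEssential p Q' → ∀ f, Mor F Q' f → (∀ x ∈ Q', f x ∈ Q') → Mor F' Q' f) : F ≤ F' := by
  refine alperin_isSubsystemOf isPGroup_top hF fun P f hP hf e => ?_
  have m : ∀ x ∈ P, f x ∈ P := img_le_iff.1 e.le
  rcases hP with rfl | hP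
  · exact h f hf
  rcases he F hF P hP with rfl | rfl
  exacts [hQ hP f hf m, hQ' hP f hf m]

/-- `le_of_three`; `f = cj (y6 t)⁻¹ ∘ wa⁻¹ ∘ g` (`key` in D3/Real `le_of_gen`) -/
theorem le_of_gen (he : EssL p K) (hF : F.IsSaturated p) (h : ∀ f, Mor F ⊤ f → Mor F' ⊤ f) (gq : GenQ F) (gq' : GenQ' F)
    (ha : Mor F' Q wa) (hb : Mor F' Q' wb) : F ≤ F' := by
  have key : ∀ {P : Subgroup (U K)} [P.Normal] {f w g : U K → U K} (s : U K), (∀ x ∈ P, f x ∈ P) → Mor F' P w →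
      (∀ x ∈ P, w x ∈ P) → Mor F ⊤ g → (∀ x ∈ P, g x = w (cj s (f x))) → Mor F' P f := fun {P _ f w g} s m hw' i hg e => by
    have m1 : ∀ x ∈ P, cj s (f x) ∈ P := fun x hx => (isoOn_cj s).maps _ (m x hx)
    obtain ⟨w'', hw'', i'⟩ := exists_isoOn hw' i
    refine ((hw''.comp ((h g hg).mono le_top) fun x hx => e x hx ▸ i _ (m1 x hx)).cj_comp (s := s⁻¹) trivial).congr
      fun x hx => ?_
    simp only [Function.comp, e x hx, i'.left _ (m1 x hx), cj_inv_cj]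
  refine le_of_three he hF h (fun _ f hf m => ?_) fun _ f hf m => ?_
  · rcases gq f hf m with ⟨g, hg, e⟩ | ⟨t, g, hg, e⟩
    exacts [((h g hg).mono le_top).congr e, key (y6 t) m ha isoOn_wa.maps hg e]
  · rcases gq' f hf m with ⟨g, hg, e⟩ | ⟨t, g, hg, e⟩
    exacts [((h g hg).mono le_top).congr e, key (y1 t) m hb isoOn_wb.maps hg e]

/-- the fusion system of `G` on `U K` -/
theorem exists_sys {G : Type*} [Group G] [Finite G] (ι : U K →* G) (hι : Function.Injective ι) (idx : ¬ p ∣ ι.range.index) :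
    ∃ E : FusionSystem (⊤ : Subgroup (U K)), E.IsRealizable p ∧ E.IsSaturated p ∧
      ∀ P f, Mor E P f ↔ ∃ g : G, ∀ x ∈ P, ι (f x) = cj g (ι x) := by
  let κ : (⊤ : Subgroup (U K)) →* G := ι.comp (⊤ : Subgroup (U K)).subtype
  have hκ : Function.Injective κ := hι.comp (subtype_injective _)
  obtain ⟨e', he⟩ := exists_isoOn_of_injective κ hκ
  obtain ⟨E, hE⟩ := he.symm.exists_corr (groupFusionSystem κ.range)
  have hr : E.IsRealizedBy κ := hE.symm.isRealizedBy fun x => (homFn_coe κ x).symm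
  have hκr : κ.range = ι.range := by rw [MonoidHom.range_comp, range_subtype, ← MonoidHom.range_eq_map]
  have hR : E.IsRealizable p := isRealizable_of_isRealizedBy hr ⟨IsPGroup.toSylow (P := κ.range)
    (hκr ▸ (isPGroup_U p).of_surjective _ ι.rangeRestrict_surjective) (hκr ▸ idx), rfl⟩
  exact ⟨E, hR, isSaturated_of_isRealizable hR, fun P f =>
    ((isRealizedBy_iff (e := ι) fun _ => rfl).1 hr).2 P f le_top fun _ _ => trivial⟩

/-- The system of `G ⋊ Ψ` (`Ψ ≤ Aut K` of order prime to `p`): as `realizable` in D3/Real; `GenQ E`, `GenQ' E` from `R.pa`, `R.pb` (`y = (x, ψ)`, `fr ψ` keeps `Q`, `Q'`). -/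
theorem exists_std_sys {G : Type*} [Group G] [Finite G] (R : RP p K G) (Ψ : Subgroup (RingAut K)) (hΨ : ¬ p ∣ Nat.card Ψ) :
    ∃ E : FusionSystem (⊤ : Subgroup (U K)), E.IsRealizable p ∧ E.IsSaturated p ∧ Ht E ∧ Mor E Q wa ∧ Mor E Q' wb ∧ GenQ E ∧ GenQ' E ∧
      (∀ ρ ∈ Ψ, Mor E ⊤ (fr ρ)) ∧ ∀ f, Mor E ⊤ f → ∃ u a d k, ∃ ρ ∈ Ψ, ∀ g, f g = cj u (dd a d 1 k (fr ρ g)) := by
  let H := G ⋊[R.φ.comp Ψ.subtype] Ψ
  have : Finite (RingAut K) := Finite.of_injective _ DFunLike.coe_injective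
  have : Finite H := Finite.of_equiv _ SemidirectProduct.equivProd.symm
  let ι : U K →* H := SemidirectProduct.inl.comp R.ι
  have hι : Function.Injective ι := SemidirectProduct.inl_injective.comp R.inj
  obtain ⟨E, hR, hS, hm⟩ := exists_sys (p := p) ι hι (by
    rw [MonoidHom.range_comp, index_map_of_injective _ SemidirectProduct.inl_injective,
      SemidirectProduct.range_inl_eq_ker_rightHom, index_ker, (Fact.out : p.Prime).dvd_mul, not_or]
    exact ⟨R.idx, fun k => hΨ (k.trans (card_subgroup_dvd_card _))⟩)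
  have hin : ∀ {P f} (x : G), (∀ g ∈ P, x * R.ι g * x⁻¹ = R.ι (f g)) → Mor E P f := fun x h =>
    (hm _ _).2 ⟨.inl x, fun g hg => by simp only [ι, cj, MonoidHom.comp_apply, ← h g hg, map_mul, map_inv]⟩
  have Et : Ht E := fun a d k => let ⟨x, h⟩ := R.tor a d k; hin x fun g _ => h g
  have hr' : ∀ (ψ : Ψ) g, cj (SemidirectProduct.inr ψ : H) (ι g) = ι (fr ψ.1 g) := fun ψ g => by
    simp only [ι, cj, MonoidHom.comp_apply, ← R.hφ, ← map_inv]
    exact (SemidirectProduct.inl_aut ψ _).symm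
  have Ef : ∀ ρ ∈ Ψ, Mor E ⊤ (fr ρ) := fun ρ hρ => (hm _ _).2 ⟨.inr ⟨ρ, hρ⟩, fun g _ => (hr' ⟨ρ, hρ⟩ g).symm⟩
  have dec : ∀ {P f}, Mor E P f → ∃ x, ∃ ρ ∈ Ψ, ∀ g ∈ P, R.ι (f g) = x * R.ι (fr ρ g) * x⁻¹ := fun {P f} hf => by
    obtain ⟨y, hy⟩ := (hm _ _).1 hf
    exact ⟨y.left, _, y.right.2, fun g hg => SemidirectProduct.inl_injective (φ := R.φ.comp Ψ.subtype) (by
      have := hy g hg
      rw [← y.inl_left_mul_inr_right, cj_mul, hr'] at this
      simpa only [ι, cj, MonoidHom.comp_apply, map_mul, map_inv] using this)⟩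
  have ext : ∀ x ∈ normalizer (R.ι.range : Set G), ∀ ρ ∈ Ψ, ∃ g, Mor E ⊤ g ∧ ∀ y, R.ι (g y) = x * R.ι (fr ρ y) * x⁻¹ :=
    fun x hx ρ hρ => by
      obtain ⟨u, a, d, k, e⟩ := R.nrm x hx
      exact ⟨_, ((Et a d k).comp (Ef ρ hρ) fun _ _ => trivial).cj_comp (s := u) trivial, fun y => (e _).symm⟩
  have gen : ∀ {P : Subgroup (U K)} [P.Normal] {w : U K → U K} {s : K → U K}, (∀ ρ, ∀ g ∈ P, fr ρ g ∈ P) →
      (∀ x, (∀ g ∈ P, ∃ g' ∈ P, x * R.ι g * x⁻¹ = R.ι g') → x ∈ normalizer (R.ι.range : Set G) ∨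
        ∃ t n, (∀ g ∈ P, n * R.ι g * n⁻¹ = R.ι (w g)) ∧ n * R.ι (s t) * x ∈ normalizer (R.ι.range : Set G)) →
      ∀ f, Mor E P f → (∀ x ∈ P, f x ∈ P) → (∃ g, Mor E ⊤ g ∧ Set.EqOn g f P) ∨
        ∃ t g, Mor E ⊤ g ∧ ∀ x ∈ P, g x = w (cj (s t) (f x)) := fun {P _ w s} hP pa f hf m => by
    obtain ⟨x, ρ, hρ, e⟩ := dec hf
    rcases pa x (fun g hg => ⟨f (fr ρ⁻¹ g), m _ (hP _ g hg), by
      rw [e _ (hP _ g hg), ← MulAut.mul_apply, ← map_mul, mul_inv_cancel, map_one, MulAut.one_apply]⟩) with k | ⟨t, n, hn, k⟩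
    · obtain ⟨g, hg, e'⟩ := ext x k ρ hρ
      exact .inl ⟨g, hg, fun y hy => R.inj (by rw [e', e y hy])⟩
    · obtain ⟨g, hg, e'⟩ := ext _ k ρ hρ
      refine .inr ⟨t, g, hg, fun y hy => R.inj ?_⟩
      rw [e', ← hn _ ((isoOn_cj (s t)).maps _ (m y hy))]
      simp only [cj, map_mul, map_inv, e y hy]
      group
  refine ⟨E, hR, hS, Et, let ⟨n, h⟩ := R.na; hin n h, let ⟨n, h⟩ := R.nb; hin n h,
    gen (fun ρ g hg => by simp [mem_Q, fr_eq, mem_Q.1 hg]) R.pa,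
    gen (fun ρ g hg => by simp [mem_Q', fr_eq, mem_Q'.1 hg]) R.pb, Ef, fun f hf => ?_⟩
  obtain ⟨x, ρ, hρ, e⟩ := dec hf
  obtain ⟨u, a, d, k, hx⟩ := R.nrm x (mem_normalizer_fintype (by
    rintro _ ⟨g, rfl⟩
    obtain ⟨g, rfl⟩ := (fr ρ).surjective g
    exact ⟨_, e g trivial⟩))
  exact ⟨u, a, d, k, ρ, hρ, fun g => R.inj (by rw [e g trivial, hx])⟩

/-- `Ψ = (DF F).comap fr` (`coprime_DF`), `exists_std_sys`, `le_of_gen` twice, `FusionSystem_ext` -/
theorem realizable {G : Type*} [Group G] [Finite G] (R : RP p K G) (he : EssL p K) (hF : F.IsSaturated p) (hS : Std F) (ht : Ht F)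
    (ha : Mor F Q wa) (hb : Mor F Q' wb) (gq : GenQ F) (gq' : GenQ' F) : F.IsRealizable p := by
  let Ψ : Subgroup (RingAut K) := (DF F).comap (fr (K := K))
  have fi : Function.Injective (fr (K := K)) := fun ρ ρ' e => RingEquiv.ext fun t => by
    simpa [fr_eq] using congrArg (fun α : MulAut (U K) => (α (y6 t)).t) e
  have : Finite (MulAut (U K)) := Finite.of_injective _ DFunLike.coe_injective
  obtain ⟨E, hR, hE, Et, Ea, Eb, Eq, Eq', Ef, key⟩ := exists_std_sys R Ψ fun k =>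
    (Nat.Prime.coprime_iff_not_dvd Fact.out).1 (coprime_DF hF).symm (k.trans (card_comap_dvd_of_injective _ _ fi))
  rwa [FusionSystem_ext (F := F) (E := E) fun P => (le_of_gen he hF (fun f hf => ?_) gq gq' Ea Eb P).antisymm
    (le_of_gen he hE (fun f hf => ?_) Eq Eq' ha hb P)]
  · obtain ⟨u, a, d, ρ, k, hd, e⟩ := dd_mem hS hf
    have hρ : ρ ∈ Ψ := by
      have := mul_mem (inv_mem (show dd a d 1 k ∈ DF F from ⟨⟨_, _, _, _, rfl⟩, ht a d k⟩))
        (show dd a d ρ k ∈ DF F from ⟨⟨_, _, _, _, rfl⟩, hd⟩)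
      rwa [dd_eq_mul_fr ρ k, inv_mul_cancel_left] at this
    exact (((Et a d k).comp (Ef ρ hρ) fun _ _ => trivial).cj_comp (s := u) trivial).congr fun g _ => by
      rw [e, dd_eq_mul_fr ρ k]; rfl
  · obtain ⟨u, a, d, k, ρ, hρ, e⟩ := key f hf
    exact (((ht a d k).comp hρ.2 fun _ _ => trivial).cj_comp (s := u) trivial).congr fun g _ => (e g).symm

/-- `O_p(F) = 1` forces both: with at most one essential subgroup, `F` is constrained (`S4F.constrained_of_unique`, FUS/S4/Tools) i.e. has a normal centric subgroup `≠ 1` (`le_core`) -/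
theorem both_of_core (he : EssL p K) (hF : F.IsSaturated p) (hc : F.core = ⊥) : F.IsEssential p Q ∧ F.IsEssential p Q' := by
  by_contra k
  obtain ⟨-, N, hN, hC⟩ := S4F.constrained_of_unique isPGroup_top hF fun R R' h h' => by
    rcases he F hF R h with rfl | rfl <;> rcases he F hF R' h' with rfl | rfl
    exacts [rfl, (k ⟨h, h'⟩).elim, (k ⟨h', h⟩).elim, rfl]
  obtain rfl : N = ⊥ := le_bot_iff.1 (hc ▸ le_core hN)
  have := centralizerIn_le_of_isCentric hC (show y6 (1 : K) ∈ _ from ⟨trivial, fun x hx => by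
    rw [mem_bot.1 hx, one_mul, mul_one]⟩)
  simpa using congrArg U.t (mem_bot.1 this)

end CL.G2F
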