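/-
S5211: for `p = 2` the essential subgroups are among `Q`, `Q'`.
-/
import Cfsg.Agent.FUS.G2.Tools
import Cfsg.Agent.FUS.D3.Es

set_option autoImplicit false
set_option linter.unusedSimpArgs false
set_option linter.unusedSectionVars false

namespace CL.G2F

open CL.Fus CL.RF4 CL.D3 Subgroup Cfsg Cfsg.FusionSystem
open scoped commutatorElement

variable {K : Type*} [Field K] [Finite K] [CharP K 2] {P : Subgroup (U K)} {A H : Set (U K → U K)} {g h : U K}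

namespace E2

theorem two : (2 : K) = 0 := CharTwo.two_eq_zero

theorem brQZ (hg : g ∈ Q) (hh : h ∈ Q) : ⁅g, h⁆ ∈ sZ := by rw [br_Q hg hh]; exact ⟨rfl, rfl, rfl, rfl, rfl⟩

theorem brVZ (g : U K) (hh : h ∈ sV) : ⁅g, h⁆ ∈ sZ := by rw [br_V g hh]; exact ⟨rfl, rfl, rfl, rfl, rfl⟩

theorem brT (g h : U K) : ⁅g, h⁆ ∈ sR := ⟨br_u g h, br_t g h⟩

theorem brQ'V (hg : g ∈ Q') (hh : h ∈ Q') : ⁅g, h⁆ ∈ sV :=
  ⟨br_u g h, by simp [br_s, mem_Q'.1 hg, mem_Q'.1 hh], by simp [br_r, mem_Q'.1 hg, mem_Q'.1 hh, two], br_t g h⟩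

theorem brRV (g : U K) (hh : h ∈ sR) : ⁅g, h⁆ ∈ sV :=
  ⟨br_u g h, by simp [br_s, hh.1, hh.2], by simp [br_r, hh.1, hh.2, two], br_t g h⟩

theorem sq_s (g : U K) : (g ^ 2).s = g.u * g.t := by rw [pow_two]; gus; grind

theorem sq_Q (hg : g ∈ Q) : g ^ 2 = y3 (g.u * g.w + g.s * g.r) := by
  rw [mem_Q] at hg; rw [pow_two]; gcs; simp only [hg]; and_intros <;> grind

theorem sq_Q' (hg : g ∈ Q') : g ^ 2 = ⟨0, 0, g.s * (g.r + g.s * g.t), 0, g.t * (g.r + g.s * g.t), 0⟩ := by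
  rw [mem_Q'] at hg; rw [pow_two]; gcs; simp only [hg]; and_intros <;> grind

theorem sqV (hg : g ∈ Q') : g ^ 2 ∈ sV := by rw [sq_Q' hg]; exact ⟨rfl, rfl, rfl, rfl⟩

theorem comm_Q' (hg : g ∈ Q') (hh : h ∈ Q') : g * h = h * g ↔
    g.t * h.s ^ 2 + h.s * g.r = h.t * g.s ^ 2 + g.s * h.r ∧ h.r * g.t + h.s * g.t ^ 2 = g.r * h.t + g.s * h.t ^ 2 := by
  rw [mem_Q'] at hg hh; gcs; simp only [hg, hh]; grind

/-- the form on `Q / Z` -/
def bQ (K : Type*) [Field K] : LinearMap.BilinForm K (K × K × K × K) :=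
  LinearMap.mk₂ K (fun x y => x.1 * y.2.2.2 - y.1 * x.2.2.2 + 3 * (y.2.1 * x.2.2.1) - 3 * (x.2.1 * y.2.2.1))
    (fun _ _ _ => by simp; ring) (fun _ _ _ => by simp; ring) (fun _ _ _ => by simp; ring) fun _ _ _ => by simp; ring

theorem esQ (h : Cx 2 ⊤ P A H) (hP : P ≤ Q) : P = Q := by
  have h3 : (3 : K) ≠ 0 := fun e => absurd (three_iff (p := 2).1 e) (by decide)
  refine es h (k := K) (W := K × K × K × K) (V₀ := sZ) (Z₀ := sZ) le_top hP (fun v hv => (Z_le_Om h hv).1)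
    (sZ_le_sV.trans (sV_le_sA.trans (sA_le_sR.trans sR_le_Q))) le_rfl (fun g => (g.u, g.s, g.r, g.w))
    (fun g hg g' hg' => by simp [U.mul_u, U.mul_s, U.mul_r, U.mul_w, mem_Q.1 hg])
    (fun x => ⟨⟨x.1, x.2.1, 0, x.2.2.1, x.2.2.2, 0⟩, rfl, rfl⟩)
    (fun g hg => by simp [mem_sZ, mem_Q.1 hg]) (bQ K) (fun x => by simp [bQ]) (fun x e => ?_)
    y3 (fun c => by gcs; simp) (fun g => ⟨fun hg => ⟨g.v, by gms at hg; gcs; simp [hg]⟩,
      by rintro ⟨c, rfl⟩; exact ⟨rfl, rfl, rfl, rfl, rfl⟩⟩) (fun g hg g' hg' => by rw [br_Q hg hg']; rfl)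
    (fun x => x.1 * x.2.2.2 + x.2.1 * x.2.2.1) (fun g hg => sq_Q hg) (fun c x => by simp; ring) (by simp)
  refine Prod.ext ?_ (Prod.ext ?_ (Prod.ext ?_ ?_))
  · simpa [bQ] using e (0, 0, 0, 1)
  · simpa [bQ, h3] using e (0, 0, 1, 0)
  · simpa [bQ, h3] using e (0, 1, 0, 0)
  · simpa [bQ] using e (1, 0, 0, 0)

theorem esQ' (h : Cx 2 ⊤ P A H) (hP : P ≤ Q') (hQ : ¬ P ≤ Q) : P = Q' := by
  have VO := V_le_Om h hP
  have VP : sV ≤ P := fun v hv => (VO hv).1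
  by_cases hO : Omp 2 P ≤ sV
  · exact le_antisymm hP fun g hg => h.mem2 trivial (iv_Omp h.toAu) (fun y _ hy => comm_V hg (hO hy)) VO VP
      fun y hy => brQ'V hg (hP hy)
  exfalso
  obtain ⟨z, hz, nz⟩ := SetLike.not_le_iff_exists.1 hO
  obtain ⟨g, hg, ng⟩ := SetLike.not_le_iff_exists.1 hQ
  have zu : z.u = 0 := hP hz.1
  have k : ∀ y ∈ P, y.t = 0 → y ∈ sV := fun y hy e => by
    have a := (sq_Q' (hP hz.1)).symm.trans hz.2.1
    have b := (comm_Q' (hP hz.1) (hP hg)).1 (hz.2.2 g hg)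
    have c := (comm_Q' (hP hz.1) (hP hy)).1 (hz.2.2 y hy)
    have yu : y.u = 0 := hP hy
    gms at nz ng ⊢; gcs at a
    have zt : z.t ≠ 0 := fun zt => by grind
    grind
  have i1 : sV.relIndex (Omp 2 P) ≤ Nat.card K := relIndex_le_card U.t fun m hm m' hm' e =>
    k _ (mul_mem (inv_mem hm.1) hm'.1) (by gus; simp [e])
  have i2 : Nat.card (K × K) ≤ P.relIndex Q' := card_le_relIndex (fun x : K × K => y2 x.1 * y4 x.2)
    (fun _ => mul_mem rfl rfl) fun i j e => by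
      have := k _ e (by gus)
      gms at this; gus at this
      exact Prod.ext (by grind) (by grind)
  have q2 : 2 ≤ Nat.card K := p_le_card
  rw [Nat.card_prod] at i2
  have := (h.ff1 Q' ⊥ (Omp 2 P) sV
    { le := bot_le, le' := fun _ e => e.1, ivB := h.iv_bot, ivC := iv_Omp h.toAu
      cen := fun x hx y hy => mem_bot.2 (commutatorElement_eq_one_iff_mul_comm.2 (hy.2.2 x hx).symm)
      exp := fun y hy => mem_bot.2 hy.2.1
      GP := le_top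
      Gn := fun g hg y hy => VP (brQ'V hg (hP hy))
      Gc := fun g hg y hy => VP (brQ'V hg hy)
      Gp := fun g hg => VP (sqV hg)
      ne := fun e => one_ne_zero (k (y4 1) (e rfl) rfl).2.2.1
      hM := fun w hw => ⟨fun e g hg => mem_bot.2 (commutatorElement_eq_one_iff_mul_comm.2 (comm_V hg e)), fun e =>
        k w hw.1 (by simpa using ((comm_Q' (g := y4 1) rfl (hP hw.1)).1
          (commutatorElement_eq_one_iff_mul_comm.1 (mem_bot.1 (e _ rfl)))).2.symm)⟩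
      idx := by nlinarith } .refl (Chs.top (iv_Omp h.toAu) fun g hg y hy => VO (brQ'V hg (hP hy)))).eq
  nlinarith

theorem exists_ut (hQ : ¬ P ≤ Q) (hQ' : ¬ P ≤ Q') : ∃ g ∈ P, g.u ≠ 0 ∧ g.t ≠ 0 := by
  obtain ⟨g, hg, n⟩ := SetLike.not_le_iff_exists.1 hQ
  obtain ⟨g', hg', n'⟩ := SetLike.not_le_iff_exists.1 hQ'
  by_cases c1 : g.u = 0
  · by_cases c2 : g'.t = 0
    · exact ⟨g * g', mul_mem hg hg', by rwa [U.mul_u, c1, zero_add], by rwa [U.mul_t, c2, add_zero]⟩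
    · exact ⟨g', hg', n', c2⟩
  · exact ⟨g, hg, c1, n⟩

theorem mem_R (u0 : g.u ≠ 0) (t0 : g.t ≠ 0) (h1 : (h ^ 2).s = 0) (h2 : ⁅h, g⁆.s = 0) : h ∈ sR := by
  rw [sq_s] at h1; rw [br_s] at h2; gms; grind

theorem mem_V (u0 : g.u ≠ 0) (t0 : g.t ≠ 0) (h1 : h ^ 2 = 1) (h2 : ⁅h, g⁆ ∈ sZ) : h ∈ sV := by
  obtain ⟨a, b⟩ := mem_R u0 t0 (by rw [h1]; rfl) h2.2.1
  have c := h2.2.2.2.1
  rw [sq_Q b] at h1; rw [br_w] at c; gcs at h1; gms; grind

theorem esT (h : Cx 2 ⊤ P A H) (hQ : ¬ P ≤ Q) (hQ' : ¬ P ≤ Q') : P = ⊤ := by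
  obtain ⟨g, hg, u0, t0⟩ := exists_ut hQ hQ'
  have ZO := Z_le_Om h
  have iZ : Ivs P A sZ := (iv_Omp (p := 2) h.toAu).congr (fun z _ => ⟨fun hz => by
    have e := commutatorElement_eq_one_iff_mul_comm.2 (hz.2.2 g hg)
    have v := mem_V u0 t0 hz.2.1 (e ▸ one_mem _)
    have := congrArg U.v (commutatorElement_eq_one_iff_mul_comm.2 (hz.2.2 g hg).symm)
    rw [br_V g v] at this
    exact ⟨v.1, v.2.1, v.2.2.1, by simpa [u0] using this, v.2.2.2⟩, fun hz => ZO hz⟩) h.toAu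
  have VP : sV ≤ P := fun v hv => h.mem2 trivial iZ (fun y _ hy => comm_Z v hy) le_rfl (fun z hz => (ZO hz).1)
    fun y _ => br_symm (brVZ y hv)
  have hB : ∀ y ∈ P, ∀ b ∈ sZ, y * b * y⁻¹ ∈ sZ (K := K) := fun y _ b hb => Normal.conj_mem inferInstance b hb y
  have RP : sR ≤ P := fun a ha => h.mem3 trivial iZ (iv_Omq (p := 2) h.toAu hB iZ) (fun y _ hy => comm_Z a hy)
    (fun y _ hy => brQZ ha.2 (mem_R u0 t0 hy.2.1.2.1 (hy.2.2 g hg).2.1).2)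
    (fun v hv => ⟨VP hv, by rw [pow_sA (sV_le_sA hv)]; exact one_mem _, fun y _ => br_symm (brVZ y hv)⟩) VP
    fun y _ => br_symm (brRV y ha)
  have iV : Ivs P A sV := ((iv_pow h.toAu 2 h.iv_bot).inter (h.iv_comm h.iv_self iZ)).congr (fun y _ =>
    ⟨fun k => mem_V u0 t0 (mem_bot.1 k.1) (k.2 g hg hg),
      fun k => ⟨mem_bot.2 (pow_sA (sV_le_sA k)), fun x _ _ => br_symm (brVZ x k)⟩⟩) h.toAu
  have iR : Ivs P A sR := ((h.iv_cent iV).inter (h.iv_comm h.iv_self iV)).congr (fun y _ => ⟨fun k => by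
    have a := congrArg U.v (commutatorElement_eq_one_iff_mul_comm.2
      (k.1 (y5 1) (VP ⟨rfl, rfl, rfl, rfl⟩) ⟨rfl, rfl, rfl, rfl⟩))
    have b := (k.2 g hg hg).2.1
    rw [br_V y ⟨rfl, rfl, rfl, rfl⟩] at a; rw [br_s] at b; gus at a; gms; grind,
    fun k => ⟨fun x _ hx => comm_V k.1 hx, fun x _ _ => br_symm (brRV x k)⟩⟩) h.toAu
  exact eq_top_iff.2 fun x _ => h.mem_of_ch trivial (((Ch.base h.toAu iZ fun y _ => comm_Z x).step iZ iV
    fun y _ => brVZ x).step iV iR fun y _ => brRV x) iR (fun y _ => brT x y) fun y _ => RP (brT x y)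

end E2

open E2

theorem essL_two (K : Type*) [Field K] [Finite K] [CharP K 2] : EssL 2 K := fun F hF P hE => by
  have c := D3.cx_of_essential isPGroup_top hF hE
  by_cases hQ : P ≤ Q
  · exact Or.inl (esQ c hQ)
  by_cases hQ' : P ≤ Q'
  · exact Or.inr (esQ' c hQ' hQ)
  exact absurd (esT c hQ hQ') (lt_of_essential isPGroup_top hF hE).ne

end CL.G2F
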