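/-
S5211: `p = 3`, the essential subgroups are `Q` and `Q'`.
-/
import Cfsg.Agent.FUS.G2.Tools
import Cfsg.Agent.FUS.EssExt

set_option autoImplicit false
set_option linter.unusedSimpArgs false
set_option linter.unusedSectionVars false

namespace CL.G2F

open CL.Fus CL.RF4 CL.D3 Subgroup Cfsg Cfsg.FusionSystem
open scoped commutatorElement

variable {K : Type*} [Field K] {g h : U K}

/-- `Y₃ Y₄`, the centre of `S` for `p = 3` -/
def sC : Subgroup (U K) where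
  carrier := {g | g.u = 0 ∧ g.s = 0 ∧ g.w = 0 ∧ g.t = 0}
  mul_mem' {a b} ha hb := by simp only [Set.mem_ofPred_eq] at *; gus; simp [*]
  one_mem' := ⟨rfl, rfl, rfl, rfl⟩
  inv_mem' {a} ha := by simp only [Set.mem_ofPred_eq] at *; gus; simp [*]

theorem mem_sC : g ∈ sC ↔ g.u = 0 ∧ g.s = 0 ∧ g.w = 0 ∧ g.t = 0 := Iff.rfl

/-- `Y₂ Y₃ Y₄`, the centre of `Q` for `p = 3` -/
def sD : Subgroup (U K) where
  carrier := {g | g.u = 0 ∧ g.w = 0 ∧ g.t = 0}
  mul_mem' {a b} ha hb := by simp only [Set.mem_ofPred_eq] at *; gus; simp [*]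
  one_mem' := ⟨rfl, rfl, rfl⟩
  inv_mem' {a} ha := by simp only [Set.mem_ofPred_eq] at *; gus; simp [*]

theorem mem_sD : g ∈ sD ↔ g.u = 0 ∧ g.w = 0 ∧ g.t = 0 := Iff.rfl

theorem sZ_le_sC : sZ ≤ sC (K := K) := fun _ h => ⟨h.1, h.2.1, h.2.2.2.1, h.2.2.2.2⟩
theorem sC_le_sD : sC ≤ sD (K := K) := fun _ h => ⟨h.1, h.2.2.1, h.2.2.2⟩
theorem sD_le_sR : sD ≤ sR (K := K) := fun _ h => ⟨h.1, h.2.2⟩
theorem sC_le_sA : sC ≤ sA (K := K) := fun _ h => ⟨h.1, h.2.1, h.2.2.2⟩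

namespace E3

theorem brT (g h : U K) : ⁅g, h⁆ ∈ sR := ⟨br_u g h, br_t g h⟩
theorem brQZ (hg : g ∈ Q) (hh : h ∈ Q) : ⁅g, h⁆ ∈ sZ := by rw [br_Q hg hh]; exact ⟨rfl, rfl, rfl, rfl, rfl⟩

variable [CharP K 3]

theorem three : (3 : K) = 0 := CharP.cast_eq_zero K 3
theorem two_ne : (2 : K) ≠ 0 := fun e => one_ne_zero (α := K) (by linear_combination three (K := K) - e)

theorem cube (g : U K) : g ^ 3 = ⟨0, 0, -(g.u ^ 2 * g.t ^ 3), -(g.u * g.t ^ 2), 0, 0⟩ := by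
  rw [pow_three]; gcs; and_intros <;> grind

theorem cube_eq_one : g ^ 3 = 1 ↔ g.u = 0 ∨ g.t = 0 := by
  rw [cube]; gus
  exact ⟨fun e => by simpa using e.2, by rintro (e | e) <;> simp [e]⟩

theorem bf_eq (g h : U K) : bf g h = g.u * h.w - h.u * g.w := by rw [bf, three]; ring

theorem br_R (g : U K) (hh : h ∈ sR) : ⁅g, h⁆ = ⟨0, 0, g.u * h.w, 2 * h.s * g.t, 0, 0⟩ := by
  obtain ⟨e1, e2⟩ := hh
  gcs; simp only [e1, e2]; and_intros <;> grind

theorem brRC (g : U K) (hh : h ∈ sR) : ⁅g, h⁆ ∈ sC := by rw [br_R g hh]; exact ⟨rfl, rfl, rfl, rfl⟩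

theorem comm_R (g : U K) (hh : h ∈ sR) : g * h = h * g ↔ g.u * h.w = 0 ∧ h.s * g.t = 0 := by
  rw [← commutatorElement_eq_one_iff_mul_comm, br_R g hh]; gus; simp [two_ne, mul_assoc]

theorem comm_C (g : U K) (hh : h ∈ sC) : g * h = h * g :=
  (comm_R g (sD_le_sR (sC_le_sD hh))).2 (by simp [hh.2.1, hh.2.2.1])

theorem comm_D (hg : g ∈ Q) (hh : h ∈ sD) : g * h = h * g :=
  (comm_R g (sD_le_sR hh)).2 (by simp [hh.2.1, mem_Q.1 hg])

theorem comm_RR (hg : g ∈ sR) (hh : h ∈ sR) : g * h = h * g := (comm_R g hh).2 (by simp [hg.1, hg.2])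

theorem y4_eq : (y4 2 : U K) = ⁅(y6 1 : U K), (y2 1 : U K)⁆ := by rw [br_R _ ⟨rfl, rfl⟩]; gus

/-- the weights of an automorphism of `S` on `Y₁`, `Y₂`, `Y₄` -/
theorem wt (α : MulAut (U K)) {a : U K} (au : a.u = 1) (a_t : a.t = 0) (h1 : (α a).t = 0) (h2 : α (y2 1) ∈ sR)
    (h3 : α (y3 (-1)) ∈ sZ) : ∃ τ, 2 * (α (y2 1)).s * τ = (α (y4 2)).r ∧ -((α a).u * τ ^ 2) = (α (y4 2)).r := by
  refine ⟨(α (y6 1)).t, by rw [y4_eq, map_commutatorElement, br_R _ h2], ?_⟩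
  have e1 : (α (y6 1)).u * (α (y6 1)).t ^ 2 = 0 := by
    rcases cube_eq_one.1 (show α (y6 1) ^ 3 = 1 by rw [← map_pow, cube_eq_one.2 (.inl rfl), map_one]) with e | e <;> simp [e]
  have e2 : (a * y6 1) ^ 3 = y3 (-1) * y4 2 := by
    rw [cube]; gcs; simp only [au, a_t]; and_intros <;> grind
  have e3 := congrArg (fun x => (α x).r) e2
  simp only [map_pow, map_mul] at e3
  simp only [cube, U.mul_r, U.mul_u, U.mul_t, h1, h3.2.2.1, h3.2.2.2.2] at e3
  linear_combination e3 + e1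

variable [Finite K] {P : Subgroup (U K)} {A H : Set (U K → U K)}

theorem inQ (c : Cx 3 ⊤ P A H) (hP : P ≤ Q) :
    P = Q ∨ ∃ a ∈ Q, a ∉ sD ∧ ∀ g, g ∈ P ↔ g ∈ Q ∧ g.u * a.w = a.u * g.w := by
  have DO : sD ≤ Omp 3 P := fun z hz => ⟨c.mem1 trivial fun y hy => (comm_D (hP hy) hz).symm, cube_eq_one.2 (.inl hz.1),
    fun y hy => (comm_D (hP hy) hz).symm⟩
  have ZO : sZ ≤ Omp 3 P := sZ_le_sC.trans (sC_le_sD.trans DO)
  have k : ∀ g ∈ Q, (∀ y ∈ Omp 3 P, g * y = y * g) → g ∈ P := fun g hg e =>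
    c.mem2 trivial (iv_Omp c.toAu) (fun y _ => e y) ZO (fun z hz => (ZO hz).1) fun y hy => brQZ hg (hP hy)
  by_cases hO : Omp 3 P ≤ sD
  · exact .inl (le_antisymm hP fun g hg => k g hg fun y hy => comm_D hg (hO hy))
  obtain ⟨a, ha, n⟩ := SetLike.not_le_iff_exists.1 hO
  have aQ := hP ha.1
  have m : ∀ g ∈ P, g.u * a.w = a.u * g.w := fun g hg =>
    sub_eq_zero.1 ((bf_eq g a).symm.trans ((comm_Q (hP hg) aQ).1 (ha.2.2 g hg).symm))
  refine .inr ⟨a, aQ, n, fun g => ⟨fun hg => ⟨hP hg, m g hg⟩, fun ⟨hg, e⟩ => k g hg fun y hy => (comm_Q hg (hP hy.1)).2 ?_⟩⟩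
  have e' := m y hy.1
  rw [bf_eq]
  by_cases au : a.u = 0
  · have aw : a.w ≠ 0 := fun k => n ⟨au, k, aQ⟩
    exact mul_left_cancel₀ aw (by linear_combination y.w * e - g.w * e')
  · exact mul_left_cancel₀ au (by linear_combination y.u * e - g.u * e')

theorem notR (c : Cx 3 ⊤ (sR (K := K)) A H) : False := by
  have F := c.ff1 ⊤ ⊥ sR sC
    { le := bot_le, le' := le_rfl, ivB := c.iv_bot, ivC := c.iv_self
      cen := fun x hx y hy => mem_bot.2 (commutatorElement_eq_one_iff_mul_comm.2 (comm_RR hx hy))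
      exp := fun y hy => mem_bot.2 (cube_eq_one.2 (.inl hy.1))
      GP := le_top
      Gn := fun g _ y _ => brT g y
      Gc := fun g _ y _ => brT g y
      Gp := fun g _ => pow_mem_sR g
      ne := fun e => one_ne_zero (e (mem_top (y6 1))).2
      hM := fun w hw => ⟨fun e g _ => mem_bot.2 (commutatorElement_eq_one_iff_mul_comm.2 (comm_C g e)), fun e => by
        have k := fun g => (comm_R g hw).1 (commutatorElement_eq_one_iff_mul_comm.1 (mem_bot.1 (e g trivial)))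
        exact ⟨hw.1, by simpa using (k (y6 1)).2, by simpa using (k (y1 1)).1, hw.2⟩⟩
      idx := (relIndex_le_card (fun g => (g.s, g.w)) fun m hm m' hm' e => by
        rw [Prod.ext_iff] at e
        rw [mem_sC]; gcs; simp only [hm.1, hm.2, hm'.1, hm'.2, show m.s = m'.s from e.1, show m.w = m'.w from e.2]; gus).trans
        (card_le_relIndex (fun x : K × K => y1 x.1 * y6 x.2) (fun _ => trivial) fun i j e => by
          obtain ⟨e1, e2⟩ := e
          gus at e1 e2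
          exact Prod.ext (neg_add_eq_zero.1 e1) (neg_add_eq_zero.1 e2)) }
    .refl (Chs.top c.iv_self fun g _ y _ => brT g y)
  exact one_ne_zero (F.e2 (y1 1) trivial (fun e => one_ne_zero e.1) (y2 1) ⟨rfl, rfl⟩
    (mem_bot.2 (commutatorElement_eq_one_iff_mul_comm.2 ((comm_R _ ⟨rfl, rfl⟩).2 (by simp))))).2.1

theorem notL (c : Cx 3 ⊤ P A H) {l : K} (hP : ∀ g, g ∈ P ↔ g.t = 0 ∧ g.w = l * g.u)
    (ext : ∀ h ∈ H, ∃ α : MulAut (U K), ∀ y ∈ P, h y = α y) : False := by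
  have PQ : P ≤ Q := fun g hg => ((hP g).1 hg).1
  have DP : sD ≤ P := fun g hg => (hP g).2 ⟨hg.2.2, by rw [hg.1, hg.2.1, mul_zero]⟩
  have ZP : sZ ≤ P := sZ_le_sC.trans (sC_le_sD.trans DP)
  have F := c.ff1 Q ⊥ P sD
    { le := bot_le, le' := le_rfl, ivB := c.iv_bot, ivC := c.iv_self
      cen := fun x hx y hy => mem_bot.2 (commutatorElement_eq_one_iff_mul_comm.2 ((comm_Q (PQ hx) (PQ hy)).2 (by
        rw [bf_eq, ((hP x).1 hx).2, ((hP y).1 hy).2]; ring)))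
      exp := fun y hy => mem_bot.2 (cube_eq_one.2 (.inr (PQ hy)))
      GP := le_top
      Gn := fun g hg y hy => ZP (brQZ hg (PQ hy))
      Gc := fun g hg y hy => ZP (brQZ hg hy)
      Gp := fun g hg => ZP (pow_mem_sZ hg)
      ne := fun e => one_ne_zero (α := K) (by simpa using ((hP _).1 (e (show y5 1 ∈ Q from rfl))).2)
      hM := fun w hw => ⟨fun e g hg => mem_bot.2 (commutatorElement_eq_one_iff_mul_comm.2 (comm_D hg e)), fun e => by
        have k : w.u = 0 := by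
          simpa [bf_eq] using (comm_Q rfl (PQ hw)).1 (commutatorElement_eq_one_iff_mul_comm.1 (mem_bot.1 (e (y5 1) rfl)))
        exact ⟨k, by rw [((hP w).1 hw).2, k, mul_zero], PQ hw⟩⟩
      idx := (relIndex_le_card U.u fun m hm m' hm' e => by
        have k := (hP _).1 (mul_mem (inv_mem hm) hm')
        have k' : (m⁻¹ * m').u = 0 := by gcs; rw [e, neg_add_cancel]
        exact ⟨k', by rw [k.2, k', mul_zero], k.1⟩).trans
        (card_le_relIndex y5 (fun _ => rfl) fun i j e => by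
          have := ((hP _).1 e).2
          gus at this
          exact neg_add_eq_zero.1 this) }
    .refl (Chs.top c.iv_self fun g hg y hy => ZP (brQZ hg (PQ hy)))
  obtain ⟨f, hf, fA, e1, e2, e3, -⟩ := F.e5 (by decide)
  obtain ⟨α, hα⟩ := ext f hf
  have aP : y1 1 * y5 l ∈ P := (hP _).2 (by gus)
  have k := fun m hm => e3 sZ bot_le (fun g hg w hw => brQZ hg (PQ hw)) m (DP hm) hm
  have k1 := (e1 _ aP).1
  have k2 := k (y2 1) ⟨rfl, rfl, rfl⟩
  have k3 := k (y3 (-1)) ⟨rfl, rfl, rfl⟩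
  have k4 := k (y4 2) ⟨rfl, rfl, rfl⟩
  rw [hα _ aP] at k1
  rw [hα _ (DP ⟨rfl, rfl, rfl⟩), mem_sZ] at k2 k3 k4
  gus at k1 k2 k3 k4
  obtain ⟨τ, t1, t2⟩ := wt α (a := y1 1 * y5 l) (by gus) (by gus) (hα _ aP ▸ PQ (c.maps f fA _ aP)) ⟨k2.1, k2.2.2.2.2⟩ k3
  grind

theorem ivZ (c : Au (Q (K := K)) A) : Ivs Q A sZ := (c.iv_brk c.iv_self c.iv_self).congr (fun z _ => ⟨by
  rintro ⟨x, hx, -, y, hy, -, rfl⟩; exact brQZ hx hy, fun hz => ⟨y1 z.v, rfl, rfl, y5 1, rfl, rfl, by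
    rw [br_Q rfl rfl, bf]; exact U.ext hz.1 hz.2.1 (by simp) hz.2.2.1 hz.2.2.2.1 hz.2.2.2.2⟩⟩) c

theorem ivD (c : Au (Q (K := K)) A) : Ivs Q A sD := c.iv_Zn.congr (fun y hy => ⟨fun e => by
  have k := fun x hx => (comm_Q hy hx).1 (e.2 x hx)
  exact ⟨by simpa [bf] using k (y5 1) rfl, by simpa [bf] using k (y1 1) rfl, hy⟩,
  fun e => ⟨hy, fun x hx => (comm_D hx e).symm⟩⟩) c

theorem stabR (c : Cx 3 ⊤ (Q (K := K)) A H) (iR : Ivs Q A sR) (ext : ∀ h ∈ H, ∃ α : MulAut (U K), ∀ y ∈ Q, h y = α y) : False := by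
  have iZ := ivZ c.toAu
  have iD := ivD c.toAu
  have DQ : sD ≤ Q (K := K) := sD_le_sR.trans sR_le_Q
  have F := c.ff1 ⊤ sZ sD sC
    { le := sZ_le_sC.trans sC_le_sD, le' := DQ, ivB := iZ, ivC := iD
      cen := fun x hx y hy => brQZ hx (DQ hy)
      exp := fun y hy => pow_mem_sZ (DQ hy)
      GP := le_top
      Gn := fun g _ y _ => br_t g y
      Gc := fun g _ y _ => br_t g y
      Gp := fun g _ => sR_le_Q (pow_mem_sR g)
      ne := fun e => one_ne_zero (mem_Q.1 (e (mem_top (y6 1))))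
      hM := fun w hw => ⟨fun e g _ => by rw [commutatorElement_eq_one_iff_mul_comm.2 (comm_C g e)]; exact one_mem _, fun e => by
        have k := (e (y6 1) trivial).2.2.1
        rw [br_R _ (sD_le_sR hw)] at k
        exact ⟨hw.1, by simpa [two_ne] using k, hw.2.1, hw.2.2⟩⟩
      idx := (relIndex_le_card U.s fun m hm m' hm' e => by
        rw [mem_sC]; gcs; simp only [hm.1, hm.2.1, hm.2.2, hm'.1, hm'.2.1, hm'.2.2, e]; gus).trans
        (card_le_relIndex y6 (fun _ => trivial) fun i j e => by rw [mem_Q] at e; gus at e; exact neg_add_eq_zero.1 e) }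
    (Chs.base c.toAu iZ fun g _ y _ hy => comm_Z g hy)
    ((Chs.one iD iR fun g _ y _ hy => sC_le_sD (brRC g hy)).trans (Chs.top iR fun g _ y _ => brT g y))
  obtain ⟨f, hf, fA, e1, e2, -, e4⟩ := F.e5 (by decide)
  obtain ⟨α, hα⟩ := ext f hf
  have k1 := (e4 sR ⊤ ⟨iR, Iv.top, fun g _ y _ _ => brT g y⟩ (y1 1) rfl trivial).1
  have k2 := e1 (y2 1) ⟨rfl, rfl, rfl⟩
  have k4 := e2 (y6 1) trivial (y2 1) ⟨rfl, rfl, rfl⟩
  rw [← y4_eq, hα _ rfl, mem_sZ] at k4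
  rw [hα _ rfl] at k1
  rw [hα _ rfl, mem_sC] at k2
  gus at k1 k2 k4
  obtain ⟨τ, t1, t2⟩ := wt α (a := y1 1) rfl rfl (hα (y1 1) rfl ▸ c.maps f fA (y1 1) rfl) ⟨k2.1, k2.2.2.2⟩
    (hα (y3 (-1)) rfl ▸ iZ f fA (y3 (-1)) rfl ⟨rfl, rfl, rfl, rfl, rfl⟩)
  grind

theorem eq_top (c : Cx 3 ⊤ P A H) (hQ : ¬ P ≤ Q) (hQ' : ¬ P ≤ Q') : P = ⊤ := by
  obtain ⟨g, hg, gu, gt⟩ : ∃ g ∈ P, g.u ≠ 0 ∧ g.t ≠ 0 := by
    obtain ⟨a, ha, n⟩ := SetLike.not_le_iff_exists.1 hQ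
    obtain ⟨b, hb, n'⟩ := SetLike.not_le_iff_exists.1 hQ'
    by_cases e : a.u = 0
    · by_cases e' : b.t = 0
      · exact ⟨a * b, mul_mem ha hb, by rwa [U.mul_u, e, zero_add], by rwa [U.mul_t, e', add_zero]⟩
      · exact ⟨b, hb, n', e'⟩
    · exact ⟨a, ha, e, n⟩
  have k : ∀ z : U K, z ^ 3 = 1 → ⁅z, g⁆.s = 0 → z ∈ sR := fun z e e' => by
    rw [br_s] at e'
    rcases cube_eq_one.1 e with e | e
    · exact ⟨e, by simpa [e, gu] using e'⟩
    · exact ⟨by simpa [e, gt] using e', e⟩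
  have CP : sC ≤ P := fun z hz => c.mem1 trivial fun y _ => (comm_C y hz).symm
  have iC : Ivs P A sC := (iv_Omp (p := 3) c.toAu).congr (fun z hz => ⟨fun e => by
    have zR := k z e.2.1 (by rw [commutatorElement_eq_one_iff_mul_comm.2 (e.2.2 g hg)]; rfl)
    have := (comm_R g zR).1 (e.2.2 g hg).symm
    exact ⟨zR.1, by simpa [gt] using this.2, by simpa [gu] using this.1, zR.2⟩,
    fun e => ⟨hz, cube_eq_one.2 (.inl e.1), fun y _ => (comm_C y e).symm⟩⟩) c.toAu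
  have RP : sR ≤ P := fun z hz => c.mem2 trivial iC (fun y _ hy => comm_C z hy) le_rfl CP fun y _ => br_symm (brRC y hz)
  have iR : Ivs P A sR := ((c.iv_comm c.iv_self iC).inter (iv_pow c.toAu 3 c.iv_bot)).congr (fun z _ =>
    ⟨fun e => k z (mem_bot.1 e.2) (e.1 g hg hg).2.1,
      fun e => ⟨fun y _ _ => br_symm (brRC y e), mem_bot.2 (cube_eq_one.2 (.inl e.1))⟩⟩) c.toAu
  exact eq_top_iff.2 fun z _ => c.mem3 trivial iC iR (fun y _ hy => comm_C z hy) (fun y _ hy => brRC z hy) le_rfl RP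
    fun y _ => brT z y

variable {F : FusionSystem (⊤ : Subgroup (U K))}

theorem ext_of (hF : F.IsSaturated 3) (h : ∀ E, F.IsEssential 3 E → ¬ P < E) :
    ∀ f ∈ fn (extAut F P), ∃ α : MulAut (U K), ∀ y ∈ P, f y = α y := by
  rintro _ ⟨α, hα, rfl⟩
  obtain ⟨k, hk, e⟩ := ext_of_mem_extAut (fun R f hR hf => CL.EssSm.exists_extend_top_of_not_le isPGroup_top hF
    (fun E hE k => h E hE (hR.trans_le k)) hf) hα
  obtain ⟨β, hβ⟩ := exists_aut_top hk
  exact ⟨β, fun y hy => (e hy).symm.trans (hβ y)⟩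

theorem not_Q_le : ¬ Q ≤ Q' (K := K) := fun e => one_ne_zero (α := K) (e (show y1 1 ∈ Q from rfl))

/-- `Aut_F(Q)` moves `R₀` -/
theorem move (hF : F.IsSaturated 3) (hE : F.IsEssential 3 Q) (h : ∀ E, F.IsEssential 3 E → ¬ Q < E) :
    ∃ f, Mor F Q f ∧ (∀ x ∈ Q, f x ∈ Q) ∧ ∃ x ∈ sR, (f x).u ≠ 0 := by
  by_contra! k
  refine stabR (cx_of_essential isPGroup_top hF hE) ?_ (ext_of hF h)
  rintro _ ⟨α, hα, rfl⟩ y hy hy'
  exact ⟨k _ (mor_autFun le_top hα) (fun _ => autFun_mem α) y hy', autFun_mem α hy⟩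

theorem essQ (hF : F.IsSaturated 3) (hE : F.IsEssential 3 P) (hP : P ≤ Q)
    (ih : ∀ E, F.IsEssential 3 E → P < E → E = Q ∨ E = Q') : P = Q := by
  have c := cx_of_essential isPGroup_top hF hE
  refine (inQ c hP).resolve_right ?_
  rintro ⟨a, aQ, n, m⟩
  by_cases au : a.u = 0
  · have aw : a.w ≠ 0 := fun k => n ⟨au, k, aQ⟩
    obtain rfl : P = sR := Subgroup.ext fun g => (m g).trans (by rw [mem_sR, mem_Q, au, zero_mul, mul_eq_zero, or_iff_left aw, and_comm])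
    exact notR c
  obtain ⟨l, hl⟩ : ∃ l, ∀ g, g ∈ P ↔ g.t = 0 ∧ g.w = l * g.u := ⟨a.w / a.u, fun g => (m g).trans (and_congr_right fun _ => by
    rw [div_mul_eq_mul_div, eq_div_iff au, mul_comm g.u, mul_comm a.u, eq_comm])⟩
  have aP : y1 1 * y5 l ∈ P := (hl _).2 (by gus)
  have n' : ¬ P ≤ Q' := fun e => one_ne_zero (α := K) (by have := mem_Q'.1 (e aP); gus at this; exact this)
  by_cases hQ : F.IsEssential 3 Q
  swap
  · exact notL c hl (ext_of hF fun E h1 h2 => (ih E h1 h2).elim (fun e => hQ (e ▸ h1)) fun e => n' (e ▸ h2.le))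
  obtain ⟨f, hf, fQ, x, hx, xu⟩ := move hF hQ fun E h1 h2 => (ih E h1 (hP.trans_lt h2)).elim (fun e => h2.ne e.symm)
    fun e => not_Q_le (e ▸ h2.le)
  obtain ⟨f', hf', i⟩ := exists_isoOn hf fQ
  obtain ⟨τ, hτ⟩ := (Finite.injective_iff_surjective (f := frobenius K 3)).1 (frobenius K 3).injective ((f x).w / (f x).u - l)
  rw [frobenius_def] at hτ
  have cj6 : ∀ g ∈ Q, (g ∈ P ↔ (cj (y6 τ) g).u * (f x).w = (f x).u * (cj (y6 τ) g).w) := fun g hg => by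
    rw [hl, and_iff_right (mem_Q.1 hg), cj6_u, cj6_w τ hg, three, hτ]
    field_simp
    exact ⟨fun e => by rw [e]; ring, fun e => mul_left_cancel₀ xu (by linear_combination -e)⟩
  have fR : ∀ z ∈ sR, (f z).u * (f x).w = (f x).u * (f z).w := fun z hz =>
    sub_eq_zero.1 ((bf_eq _ _).symm.trans ((comm_Q (fQ _ (sR_le_Q hz)) (fQ _ (sR_le_Q hx))).1 (by
      rw [← i.map_mul (sR_le_Q hz) (sR_le_Q hx), comm_RR hz hx, i.map_mul (sR_le_Q hx) (sR_le_Q hz)])))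
  have cQ := (isoOn_cj (P := Q) (y6 τ)).maps
  have hφ : Mor F P (f' ∘ cj (y6 τ)) := hf'.comp (mor_cj' F P _) fun y hy => cQ _ (hP hy)
  have eR : img (f' ∘ cj (y6 τ)) P = sR := by
    refine le_antisymm (img_le_iff.2 fun y hy => ?_) fun z hz => hφ.isHomOn.mem_img.2 ⟨cj (y6 τ)⁻¹ (f z), ?_, ?_⟩
    · have y1 := cQ _ (hP hy)
      have y2 := i.maps' _ y1
      have e1 := (cj6 y (hP hy)).1 hy
      have e2 := fR (y5 1) ⟨rfl, rfl⟩
      have e3 : cj (y6 τ) y * f (y5 1) = f (y5 1) * cj (y6 τ) y := (comm_Q y1 (fQ _ rfl)).2 (by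
        rw [bf_eq]; exact mul_left_cancel₀ xu (by linear_combination (f (y5 1)).u * e1 - (cj (y6 τ) y).u * e2))
      have e4 := congrArg f' e3
      rw [i.symm.map_mul y1 (fQ _ rfl), i.symm.map_mul (fQ _ rfl) y1, i.left _ rfl] at e4
      exact ⟨by simpa [bf_eq] using (comm_Q y2 rfl).1 e4, y2⟩
    · rw [cj6 _ ((isoOn_cj (P := Q) (y6 τ)).maps' _ (fQ _ (sR_le_Q hz))), cj_cj_inv]; exact fR z hz
    · rw [Function.comp, cj_cj_inv, i.left _ (sR_le_Q hz)]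
  have := hE.2.1.2 _ hφ.isConj
  rw [eR, normalizerIn, normalizer_eq_top, inf_idem] at this
  have e := ((mem_normalizer_iff.1 ((eq_of_le_of_card_ge le_top this).ge (mem_top (y6 1))).2 _).1 aP)
  have e' := ((hl _).1 e).2
  gus at e'
  simp at e'

end E3

open E3

theorem essL_three (K : Type*) [Field K] [Finite K] [CharP K 3] : EssL 3 K := by
  intro F hF P hE
  induction hn : Nat.card (U K) - Nat.card P using Nat.strong_induction_on generalizing P F with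
  | _ n ih =>
  have lt : ∀ {P' E : Subgroup (U K)}, Nat.card P' = Nat.card P → P' < E → Nat.card (U K) - Nat.card E < n := fun {P' E} e h => by
    have := CL.Fus.card_lt_of_lt h le_rfl
    have := card_le_card_group E
    omega
  by_cases hQ : P ≤ Q
  · exact .inl (essQ hF hE hQ fun E h1 h2 => ih _ (lt rfl h2) F hF E h1 rfl)
  by_cases hQ' : P ≤ Q'
  swap
  · exact absurd (eq_top (cx_of_essential isPGroup_top hF hE) hQ hQ') (lt_of_essential isPGroup_top hF hE).ne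
  obtain ⟨F', hc⟩ := (isoOn_top (grA (K := K))).exists_corr F
  have hF' := hc.isSaturated hF
  have e := essQ hF' ((hc.isEssential_iff le_top).2 hE) (img_le_iff.2 fun x hx => hQ' hx) fun E h1 h2 =>
    ih _ (lt (((isoOn_top grA).hom.mono le_top).card_img grA.injective.injOn) h2) F' hF' E h1 rfl
  refine .inr (le_antisymm hQ' fun x hx => ?_)
  obtain ⟨y, hy, e'⟩ := ((isoOn_top grA).hom.mono le_top).mem_img.1 (e.ge (show grA x ∈ Q from hx))
  exact grA.injective e' ▸ hy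

end CL.G2F
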