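/-
S5211, `q = 2ⁿ ≥ 4`: definitions and small tools.
-/
import Cfsg.Agent.FUS.G2.P5
import Cfsg.Agent.FUS.G2.E2

set_option autoImplicit false
set_option linter.unusedSimpArgs false
set_option linter.unusedSectionVars false

namespace CL.G2F.Ev

open CL.Fus CL.RF4 CL.D3 Subgroup Cfsg Cfsg.FusionSystem
open scoped commutatorElement

/-- `q ≠ 2` -/
class NT (K : Type*) [Field K] : Prop where
  ex : ∃ c : K, c ≠ 0 ∧ c ≠ 1

/-- `q = 4` (or 2) -/
def Four (K : Type*) [Field K] : Prop := ∀ t : K, t ^ 4 = t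

variable {K : Type*} [Field K] [Finite K] [CharP K 2] {g h : U K}

theorem nt_of (hq : Nat.card K ≠ 2) : NT K := ⟨by
  by_contra! k
  refine hq (Nat.card_eq_two_iff.2 ⟨0, 1, zero_ne_one, Set.eq_univ_of_forall fun x => ?_⟩)
  by_cases e : x = 0
  exacts [Or.inl e, Or.inr (k x e)]⟩

theorem quad0 [NT K] {a b : K} (e : ∀ t, a * t + b * t ^ 2 = 0) : a = 0 ∧ b = 0 := by
  obtain ⟨c, c0, c1⟩ := NT.ex (K := K)
  have e1 := e 1
  have e2 := e c
  grind

theorem exists_sqrt (a : K) : ∃ b : K, b ^ 2 = a := (Finite.injective_iff_surjective.1 (frobenius_inj K 2)) a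

/-- `B₀ = Y₂ V` -/
def sB : Subgroup (U K) where
  carrier := {g | g.u = 0 ∧ g.r = 0 ∧ g.t = 0}
  mul_mem' {a b} ha hb := by simp only [Set.mem_ofPred_eq] at *; gus; simp [*]
  one_mem' := ⟨rfl, rfl, rfl⟩
  inv_mem' {a} ha := by simp only [Set.mem_ofPred_eq] at *; gus; simp [*]

theorem mem_sB : g ∈ sB ↔ g.u = 0 ∧ g.r = 0 ∧ g.t = 0 := Iff.rfl

theorem sV_le_sB : sV ≤ sB (K := K) := fun _ h => ⟨h.1, h.2.2.1, h.2.2.2⟩
theorem sB_le_sR : sB ≤ sR (K := K) := fun _ h => ⟨h.1, h.2.2⟩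

instance : (sB (K := K)).Normal := ⟨fun h e g => by
  simpa [commutatorElement_def] using mul_mem (sV_le_sB (E2.brRV g (sB_le_sR e))) e⟩

/-- `C_{Q'}(A₀) = A₀` -/
theorem cenA (hg : g ∈ Q') (e : g * y4 1 = y4 1 * g) : g ∈ sA := by
  have := (E2.comm_Q' hg (h := y4 1) rfl).1 e
  exact ⟨hg, by simpa using this.1.symm, by simpa using this.2⟩

/-- `C_{Q'}(B₀) = B₀` -/
theorem cenB (hg : g ∈ Q') (e : g * y2 1 = y2 1 * g) : g ∈ sB := by
  have := (E2.comm_Q' hg (h := y2 1) rfl).1 e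
  simp only [y2_s, y2_r, y2_t] at this
  exact ⟨hg, by grind, by grind⟩

theorem comm_B (hg : g ∈ sB) (hh : h ∈ sB) : g * h = h * g :=
  (E2.comm_Q' hg.1 hh.1).2 (by simp [hg.2.1, hg.2.2, hh.2.1, hh.2.2])

/-- an automorphism of `Q'` mapping `A₀` into itself: so does its inverse -/
theorem inv_A {f f' : U K → U K} (i : IsoOn Q' Q' f f') (hA : ∀ x ∈ sA, f x ∈ sA) : ∀ x ∈ sA, f' x ∈ sA := fun x hx =>
  cenA (i.maps' x hx.1) (i.injOn (mul_mem (i.maps' x hx.1) rfl) (mul_mem rfl (i.maps' x hx.1)) (by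
    rw [i.map_mul (i.maps' x hx.1) rfl, i.map_mul rfl (i.maps' x hx.1), i.right x hx.1]
    exact comm_A hx (hA _ ⟨rfl, rfl, rfl⟩)))

/-- `Aut_F(Q')` leaves `A₀` invariant -/
def FixA (F : FusionSystem (⊤ : Subgroup (U K))) : Prop := ∀ f, Mor F Q' f → (∀ x ∈ Q', f x ∈ Q') → ∀ x ∈ sA, f x ∈ sA

/-- the function of `kap` -/
@[simps] def kapf (g : U K) : U K := ⟨g.u, g.r, g.v + g.s * g.r + g.w ^ 2, g.s, g.w, g.t ^ 2⟩

theorem kapf_kapf (h4 : Four K) (g : U K) : kapf (kapf g) = g := by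
  have := h4 g.t
  gcs; simp only [kapf_u, kapf_s, kapf_v, kapf_r, kapf_w, kapf_t]; and_intros <;> grind

/-- the exotic automorphism for `q = 4`; it swaps `A₀` and `B₀` -/
def kap (h4 : Four K) : MulAut (U K) where
  toFun := kapf
  invFun := kapf
  left_inv := kapf_kapf h4
  right_inv := kapf_kapf h4
  map_mul' g h := by
    have := h4 g.t
    gcs; simp only [kapf_u, kapf_s, kapf_v, kapf_r, kapf_w, kapf_t]; gcs; and_intros <;> grind

theorem kap_apply (h4 : Four K) (g : U K) : kap h4 g = kapf g := rfl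
theorem kap_symm (h4 : Four K) (g : U K) : (kap h4).symm g = kapf g := rfl

/-- the function of `eps` -/
@[simps] def epsf (c : K) (g : U K) : U K := ⟨g.u, g.s, g.v + c * g.u ^ 2, g.r, g.w, g.t⟩

theorem epsf_epsf (c : K) (g : U K) : epsf c (epsf c g) = g := by
  gcs; simp only [epsf_u, epsf_s, epsf_v, epsf_r, epsf_w, epsf_t]; and_intros <;> grind

/-- the central automorphisms `g ↦ g · y3 (c u²)` -/
def eps (c : K) : MulAut (U K) where
  toFun := epsf c
  invFun := epsf c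
  left_inv := epsf_epsf c
  right_inv := epsf_epsf c
  map_mul' g h := by gcs; simp only [epsf_u, epsf_s, epsf_v, epsf_r, epsf_w, epsf_t]; gcs; and_intros <;> grind

theorem eps_apply (c : K) (g : U K) : eps c g = epsf c g := rfl
theorem eps_symm (c : K) (g : U K) : (eps c).symm g = epsf c g := rfl

end CL.G2F.Ev
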