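/-
S5211, `q = 2ⁿ ≥ 4`: automorphisms of `U K`, standard position (port of FUS/D3/Aut, Std, Ess).
-/
import Cfsg.Agent.FUS.G2.EvD
import Cfsg.Agent.FUS.D3.Std

set_option autoImplicit false
set_option linter.unusedSimpArgs false
set_option linter.unusedSectionVars false

namespace CL.G2F.Ev

open CL.Fus CL.RF4 CL.D3 Subgroup Cfsg Cfsg.FusionSystem
open scoped commutatorElement

variable {K : Type*} [Field K] [Finite K] [CharP K 2] [NT K] {F F' : FusionSystem (⊤ : Subgroup (U K))} {f f' : U K → U K}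

namespace EvA

variable {g h : U K}

theorem cR (k : ∀ x : U K, ⁅g, x⁆ ∈ sV) : g ∈ sR :=
  ⟨by simpa [br_s] using (k (y6 1)).2.1, by simpa [br_s] using (k (y1 1)).2.1⟩

theorem cV (k : ∀ x : U K, ⁅g, x⁆ ∈ sZ) : g ∈ sV := by
  have h1 := cR fun x => sZ_le_sV (k x)
  have := quad0 (a := g.r) (b := g.s) fun t => by
    have := (k (y6 t)).2.2.2.1
    rw [br_w] at this; gus at this; rw [h1.1] at this; grind
  exact ⟨h1.1, this.2, this.1, h1.2⟩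

theorem cZ (k : ∀ x : U K, ⁅g, x⁆ ∈ (⊥ : Subgroup (U K))) : g ∈ sZ :=
  have h1 := cV fun x => bot_le (a := sZ) (k x)
  ⟨h1.1, h1.2.1, h1.2.2.1, by simpa [br_V _ h1] using congrArg U.v (mem_bot.1 (br_symm (k (y1 1)))), h1.2.2.2⟩

theorem Q_iff : g ∈ Q ↔ g ∈ sR ∨ (g ∉ Q' ∧ g ^ 2 ∈ sV) := by
  refine ⟨fun k => (em (g ∈ Q')).imp (fun e => ⟨e, k⟩) fun e => ⟨e, E2.sq_Q k ▸ ⟨rfl, rfl, rfl, rfl⟩⟩, ?_⟩
  rintro (k | ⟨a, b⟩)
  exacts [k.2, (mul_eq_zero.1 ((E2.sq_s g).symm.trans b.2.1)).resolve_left a]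

end EvA
open EvA

/-- `Z = Z(S)`, `V = {y | [y, S] ≤ Z}` (`br_w`: `r t + s t² = 0` for all `t`, `quad0`), `R₀ = {y | [y, S] ≤ V}` (`E2.brRV`, `br_s`), `Q' = C(V)` (`CL.D3.AutA.key`);
`Q ∪ Q' = {g | g² ∈ V}` (`E2.sq_s`, `sq_Q`, `sqV`), so `g ∈ Q ↔ g ∈ R₀ ∨ (g ∉ Q' ∧ g² ∈ V)`. -/
theorem map_mem (α : MulAut (U K)) (g : U K) : (α g ∈ sZ ↔ g ∈ sZ) ∧ (α g ∈ sV ↔ g ∈ sV) ∧ (α g ∈ sR ↔ g ∈ sR) ∧
    (α g ∈ Q ↔ g ∈ Q) ∧ (α g ∈ Q' ↔ g ∈ Q') := by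
  have h0 : ∀ g, α g ∈ (⊥ : Subgroup (U K)) ↔ g ∈ (⊥ : Subgroup (U K)) := by simp
  have h1 : ∀ g, α g ∈ (⊤ : Subgroup (U K)) ↔ g ∈ (⊤ : Subgroup (U K)) := by simp
  have hZ := AutA.key α (C := sZ) h0 h1 fun g =>
    ⟨fun k x _ => mem_bot.2 (commutatorElement_eq_one_iff_mul_comm.2 (comm_Z x k).symm), fun k => cZ fun x => k x trivial⟩
  have hV := AutA.key α (C := sV) hZ h1 fun g => ⟨fun k x _ => br_symm (E2.brVZ x k), fun k => cV fun x => k x trivial⟩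
  have hR := AutA.key α (C := sR) hV h1 fun g => ⟨fun k x _ => br_symm (E2.brRV x k), fun k => cR fun x => k x trivial⟩
  have hQ := AutA.key α (C := Q') h0 hV fun g =>
    ⟨fun k x hx => mem_bot.2 (commutatorElement_eq_one_iff_mul_comm.2 (comm_V k hx)), fun k => by
      have h5 : (y5 1 : U K) ∈ sV := ⟨rfl, rfl, rfl, rfl⟩
      simpa [br_V _ h5, mem_Q'] using congrArg U.v (mem_bot.1 (k _ h5))⟩
  exact ⟨hZ g, hV g, hR g, by rw [Q_iff, Q_iff, hR, hQ, ← map_pow, hV], hQ g⟩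

namespace EvA

variable (α : MulAut (U K)) {g h : U K}

theorem mZ (k : g ∈ sZ) : α g ∈ sZ := (map_mem α g).1.2 k
theorem mV (k : g ∈ sV) : α g ∈ sV := (map_mem α g).2.1.2 k
theorem mR (k : g ∈ sR) : α g ∈ sR := (map_mem α g).2.2.1.2 k
theorem mQ (k : g ∈ Q) : α g ∈ Q := (map_mem α g).2.2.2.1.2 k
theorem mQ' (k : g ∈ Q') : α g ∈ Q' := (map_mem α g).2.2.2.2.2 k

theorem isoQ' : IsoOn Q' Q' α α.symm :=
  ⟨fun x _ y _ => map_mul α x y, fun _ => mQ' α, fun _ => mQ' α.symm, fun x _ => α.symm_apply_apply x, fun x _ => α.apply_symm_apply x⟩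

theorem eq_Z (hg : g ∈ sV) (hh : h ∈ sV) (e : g.w = h.w) : g * h⁻¹ ∈ sZ :=
  div_mem_sZ.2 ⟨hg.1.trans hh.1.symm, hg.2.1.trans hh.2.1.symm, hg.2.2.1.trans hh.2.2.1.symm, e, hg.2.2.2.trans hh.2.2.2.symm⟩

theorem img_eq {P : Subgroup (U K)} (k : ∀ x, α x ∈ P ↔ x ∈ P) : img α P = P :=
  le_antisymm (img_le_iff.2 fun x hx => (k x).2 hx) fun x hx => by
    simpa using mem_img_of_mem (f := α) (show α.symm x ∈ P from (k _).1 (by simpa using hx))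

/-- the automorphisms fixing the coordinates `u` and `t` -/
def K0 (K : Type*) [Field K] : Subgroup (MulAut (U K)) where
  carrier := {α | ∀ g, (α g).u = g.u ∧ (α g).t = g.t}
  one_mem' _ := ⟨rfl, rfl⟩
  mul_mem' {a b} ha hb g := ⟨(ha _).1.trans (hb g).1, (ha _).2.trans (hb g).2⟩
  inv_mem' {a} ha g := by simpa [eq_comm] using ha (a⁻¹ g)

end EvA

/-- `CL.D3.exists_crd`: `(α g).u = φ g.u`, `(α g).t = δ g.t`, `(α g).s = ψ g.s` on `R₀` (kernel `A₀`; `inv_A` with `isoOn_top`-type `IsoOn Q' Q' α α.symm`), `ψ (u t) = φ u * δ t` (`br_s`); `a = φ 1`, `d = δ 1`, `ρ x = ψ x / (a d) = φ x / a = δ x / d`. -/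
theorem aut_form (α : MulAut (U K)) (hA : ∀ g ∈ sA, α g ∈ sA) :
    ∃ a d ρ, Ok a d ∧ ∀ g, (α g).u = a * (ρ : RingAut K) g.u ∧ (α g).t = d * ρ g.t := by
  have hm : IsHomOn ⊤ α := fun x _ y _ => map_mul α x y
  obtain ⟨δ, eδ⟩ := exists_crd hm (fun _ _ => trivial) U.t (fun _ _ _ _ => rfl)
    (fun a => ⟨y6 a, trivial, rfl⟩) fun y _ => (map_mem α y).2.2.2.1
  obtain ⟨φ, eφ⟩ := exists_crd hm (fun _ _ => trivial) U.u (fun _ _ _ _ => rfl)
    (fun a => ⟨y1 a, trivial, rfl⟩) fun y _ => (map_mem α y).2.2.2.2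
  obtain ⟨ψ, eψ⟩ := exists_crd (hm.mono le_top) (fun y => mR α) U.s (fun x hx y hy => by simp [U.mul_s, hy.1])
    (fun a => ⟨y2 a, ⟨rfl, rfl⟩, rfl⟩) fun y hy =>
      ⟨fun k => by simpa using (inv_A (isoQ' α) hA _ ⟨(mR α hy).1, k, (mR α hy).2⟩).2.1, fun k => (hA _ ⟨hy.1, k, hy.2⟩).2.1⟩
  have e1 : ∀ c t, ψ (c * t) = φ c * δ t := fun c t => by
    have := eψ ⁅y6 t, y1 c⁆ ⟨br_u .., br_t ..⟩
    rw [map_commutatorElement] at this
    simpa [br_s, eδ _ trivial, eφ _ trivial] using this.symm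
  have a0 : φ 1 ≠ 0 := by simp
  have d0 : δ 1 ≠ 0 := by simp
  have e2 : ∀ c, ψ c = φ c * δ 1 := fun c => by rw [← e1, mul_one]
  have e3 : ∀ c, ψ c = φ 1 * δ c := fun c => by rw [← e1, one_mul]
  let ρ0 : K →+* K :=
    { toFun := fun x => φ x / φ 1
      map_one' := div_self a0
      map_mul' := fun x y => by
        have h1 := e1 x y
        have h2 := e2 y
        rw [e2] at h1
        rw [e3] at h2
        field_simp
        refine mul_right_cancel₀ d0 ?_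
        linear_combination φ 1 * h1 + φ x * h2
      map_zero' := by simp
      map_add' := fun x y => by rw [map_add, add_div] }
  let ρ : RingAut K := RingEquiv.ofBijective ρ0 (Finite.injective_iff_bijective.1 ρ0.injective)
  have hρ : ∀ x, ρ x = φ x / φ 1 := fun _ => rfl
  refine ⟨φ 1, δ 1, ρ, ⟨a0, d0⟩, fun g => ⟨?_, ?_⟩⟩
  · rw [hρ, eφ _ trivial, mul_div_cancel₀ _ a0]
  · rw [hρ, eδ _ trivial]
    have := (e2 g.t).symm.trans (e3 g.t)
    field_simp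
    linear_combination -this

/-- `α` fixes `u`, `t`. `g ∈ R₀` is modulo `V` a product `⁅y6 1, y1 u₁⁆ ⁅y6 c, y1 u₂⁆` (`(s, r) = (u₁ + u₂ c, u₁ + u₂ c²)`, `c ≠ 0, 1`), and `br_s`, `br_r` (`2 = 0`) only see `u`, `t`;
`w` on `V`: `⁅y6 1, y4 w⁆`; `v` on `Z`: `⁅y1 1, y5 v⁆`. -/
theorem sm_of (α : MulAut (U K)) (e : ∀ g, (α g).u = g.u ∧ (α g).t = g.t) (g : U K) :
    (g ∈ sR → (α g).s = g.s ∧ (α g).r = g.r) ∧ (g ∈ sV → (α g).w = g.w) ∧ (g ∈ sZ → (α g).v = g.v) := by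
  have eR : ∀ g ∈ sR, (α g).s = g.s ∧ (α g).r = g.r := fun g hg => by
    obtain ⟨c, c0, c1⟩ := NT.ex (K := K)
    obtain ⟨b, hb⟩ : ∃ b, b * (c + c ^ 2) = g.s + g.r := ⟨_, div_mul_cancel₀ _ (by grind)⟩
    have k : g * (⁅(y6 1 : U K), y1 (g.s + b * c)⁆ * ⁅y6 c, y1 b⁆)⁻¹ ∈ sV := div_mem_sV.2 (by
      simp only [U.mul_u, U.mul_s, U.mul_r, U.mul_t, br_u, br_s, br_r, br_t, hg.1, hg.2]; gus; grind)
    have k' := mV α k
    rw [map_mul, map_inv, div_mem_sV, map_mul, map_commutatorElement, map_commutatorElement] at k'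
    rw [div_mem_sV] at k
    simp only [U.mul_s, U.mul_r, br_u, br_s, br_r, br_t, e, E2.two] at k k'
    gus at k k'
    exact ⟨k'.2.1.trans k.2.1.symm, k'.2.2.1.trans k.2.2.1.symm⟩
  have ew : ∀ g ∈ sV, (α g).w = g.w := fun g hg => by
    have k1 : (y4 g.w : U K) ∈ sR := ⟨rfl, rfl⟩
    have k := mZ α (eq_Z hg (E2.brRV (y6 1) k1) (by rw [br_w]; gus; grind))
    rw [map_mul, map_inv, div_mem_sZ, map_commutatorElement, br_w, (eR _ k1).1, (eR _ k1).2] at k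
    simp only [e] at k
    gus at k
    grind
  refine ⟨eR g, ew g, fun hg => ?_⟩
  have k : (y5 g.v : U K) ∈ sV := ⟨rfl, rfl, rfl, rfl⟩
  rw [show g = ⁅(y1 1 : U K), y5 g.v⁆ by rw [br_V _ k]; gms at hg; gus; simp [hg], map_commutatorElement,
    br_V _ (mV α k), br_V _ k, y3_v, y3_v, ew _ k, (e _).1]

namespace EvA
open scoped Pointwise

theorem isPGroup_K0 : IsPGroup 2 (K0 K) := by
  rintro ⟨α, hα⟩
  have s := sm_of α hα
  have q := isPGroup_U (K := K) 2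
  have s1 := StdA.pow_fix q (fun y => mZ α) (C := sV) (fun y hy => eq_Z (mV α hy) hy ((s y).2.1 hy)) ⟨0, fun y hy => by
    have k := mZ α hy
    have := (s y).2.2 hy
    rw [pow_zero, pow_one]; gms at k hy; gcs; simp only [k, hy, this, and_self]⟩
  have s2 := StdA.pow_fix q (fun y => mV α) (C := sR)
    (fun y hy => div_mem_sV.2 ⟨(hα y).1, ((s y).1 hy).1, ((s y).1 hy).2, (hα y).2⟩) s1
  obtain ⟨n, hn⟩ := StdA.pow_fix q (fun y => mR α) (C := ⊤) (fun y _ => div_mem_sR.2 (hα y)) s2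
  exact ⟨n, Subtype.ext (MulEquiv.ext fun y => hn y trivial)⟩

theorem K0_normal : (K0 K).Normal := by
  refine ⟨fun α hα β g => ?_⟩
  obtain ⟨x, rfl⟩ := β.surjective g
  rw [MulAut.mul_apply, MulAut.mul_apply, MulAut.inv_apply_self]
  exact ⟨div_mem_Q'.1 (by simpa using mQ' β (div_mem_Q'.2 (hα x).1)), div_mem_Q.1 (by simpa using mQ β (div_mem_Q.2 (hα x).2))⟩

theorem std_of_form (hF : F.IsSaturated 2)
    (h : ∀ f, Mor F ⊤ f → ∃ a d ρ, Ok a d ∧ ∀ g, (f g).u = a * (ρ : RingAut K) g.u ∧ (f g).t = d * ρ g.t) :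
    ∃ k ∈ K0 K, ∃ F' : FusionSystem (⊤ : Subgroup (U K)), Corr k k.symm F F' ∧ Std F' := by
  have hS := sylIn_inn_top isPGroup_top hF
  have hN : ((Inn (⊤ : Subgroup (U K))).subgroupOf (F.autGroup ⊤)).Normal := inferInstance
  have h2 : (Nat.card ((Inn (⊤ : Subgroup (U K))).subgroupOf (F.autGroup ⊤))).Coprime
      ((Inn (⊤ : Subgroup (U K))).subgroupOf (F.autGroup ⊤)).index := by
    obtain ⟨n, hn⟩ := ((isPGroup_subgroupOf_iff hS.le).2 hS.isPGroup).exists_card_eq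
    rw [hn]
    exact ((Nat.Prime.coprime_iff_not_dvd Fact.out).2 hS.not_dvd_relIndex).pow_left _
  obtain ⟨H, hH⟩ := exists_right_complement'_of_coprime h2
  let c : F.autGroup ⊤ →* MulAut (U K) := (MulAut.congr topEquiv).toMonoidHom.comp (Subgroup.subtype _)
  have hc : ∀ (γ : F.autGroup ⊤) g, c γ g = autFun γ.1 g := fun γ g => (autFun_of_mem γ.1 (mem_top g)).symm
  have := K0_normal (K := K)
  have hK := isPGroup_K0 (K := K)
  obtain ⟨k, hk0, hk⟩ := coprime_le_conj (H.map c) (K0 K) (D0 K) le_normalizer_of_normal (by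
    obtain ⟨n, hn⟩ := hK.exists_card_eq
    rw [hn]
    exact (((Nat.Prime.coprime_iff_not_dvd Fact.out).2 fun k => hS.not_dvd_relIndex
      ((k.trans (card_map_dvd H c)).trans hH.symm.index_eq_card.symm.dvd)).pow_left _).symm)
    (Or.inr (have := hK.isNilpotent; inferInstance)) (by
      rintro _ ⟨γ, -, rfl⟩
      obtain ⟨a, d, ρ, ok, e⟩ := h _ (mor_autFun le_rfl γ.2)
      refine ⟨c γ * (dd a d ρ ok)⁻¹, fun g => ?_, _, ⟨a, d, ρ, ok, rfl⟩, by simp⟩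
      obtain ⟨x, rfl⟩ := (dd a d ρ ok).surjective g
      rw [MulAut.mul_apply, MulAut.inv_apply_self, hc]
      exact e x)
  obtain ⟨F', hF'⟩ := (isoOn_top k⁻¹).exists_corr F
  refine ⟨_, inv_mem hk0, F', hF', fun f hf => ?_⟩
  have h1 := hF'.mor' hf
  rw [hF'.iso.symm.img_eq] at h1
  obtain ⟨γ, hγ, e⟩ := h1.exists_aut h1.img_top
  obtain ⟨⟨n, h⟩, e'⟩ := (hH.existsUnique ⟨γ, hγ⟩).exists
  obtain ⟨u, -, hu⟩ := mem_inn_iff.1 n.2
  obtain ⟨_, ⟨a, d, ρ, ok, rfl⟩, e2⟩ := (mem_smul_pointwise_iff_exists ..).1 (hk (mem_map_of_mem c h.2))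
  refine ⟨k⁻¹ u, a, d, ρ, ok, fun g => ?_⟩
  have e3 := e (x := k g) trivial
  rw [show γ = n.1.1 * h.1.1 from (congrArg Subtype.val e').symm, autFun_mul _ _ (mem_top _), ← hc h.1, ← e2,
    show autFun n.1.1 _ = _ from hu (mem_top _)] at e3
  apply k.injective
  simpa [cj, eq_comm] using e3

end EvA

/-- D3/Std (`K0`, `isPGroup_K0` with the chain `1 < Z < V < R₀ < S` and `CL.D3.StdA.pow_fix`, `K0_normal`, `std_of_form`); `aut_form` applies by `hA` (restrict to `Q'`); `β ∈ K0` keeps `A₀` (`sm_of`). -/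
theorem exists_std (hF : F.IsSaturated 2) (hA : FixA F) :
    ∃ (β : MulAut (U K)) (F' : FusionSystem (⊤ : Subgroup (U K))), Corr β β.symm F F' ∧ Std F' ∧ ∀ g ∈ sA, β g ∈ sA := by
  obtain ⟨k, hk, F', a, b⟩ := std_of_form hF fun f hf => by
    obtain ⟨α, hα⟩ := exists_aut_top hf
    obtain ⟨a, d, ρ, h, e⟩ := aut_form α fun g hg => hα g ▸ hA f (hf.mono le_top) (fun x hx => hα x ▸ mQ' α hx) g hg
    exact ⟨a, d, ρ, h, fun g => hα g ▸ e g⟩
  exact ⟨k, F', a, b, fun g hg => ⟨(hk g).1.trans hg.1, ((sm_of k hk g).1 (sA_le_sR hg)).1.trans hg.2.1, (hk g).2.trans hg.2.2⟩⟩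

/-- `Corr.isEssential_iff`, `map_mem` (see D3/Main) -/
theorem ess_corr {β : MulAut (U K)} (h : Corr β β.symm F F') :
    (F.IsEssential 2 Q → F'.IsEssential 2 Q) ∧ (F.IsEssential 2 Q' → F'.IsEssential 2 Q') := by
  have e : ∀ P : Subgroup (U K), (∀ x, β x ∈ P ↔ x ∈ P) → F.IsEssential 2 P → F'.IsEssential 2 P := fun P k hP => by
    have := (h.isEssential_iff le_top).2 hP
    rwa [img_eq β k] at this
  exact ⟨e _ fun x => (map_mem β x).2.2.2.1, e _ fun x => (map_mem β x).2.2.2.2⟩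

/-- `Corr.mor'`: `β⁻¹ f β ∈ Aut_F(Q')` -/
theorem mor_corr {β : MulAut (U K)} (h : Corr β β.symm F F') : (Mor F' Q' f → Mor F Q' (β.symm ∘ f ∘ β)) ∧ (Mor F Q f → Mor F' Q (β ∘ f ∘ β.symm)) ∧
    (Mor F' ⊤ f → Mor F ⊤ (β.symm ∘ f ∘ β)) := by
  refine ⟨fun k => ?_, fun k => ?_, fun k => ?_⟩
  · have := h.mor' k
    rwa [img_eq β.symm fun x => (map_mem β.symm x).2.2.2.2] at this
  · have := h.mor k
    rwa [img_eq β fun x => (map_mem β x).2.2.2.1] at this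
  · have := h.mor' k
    rwa [img_eq β.symm fun x => by simp] at this

/-- D3/Ess `ext_top'` with `essL_two` -/
theorem ext_top (hF : F.IsSaturated 2) {R : Subgroup (U K)} (hQ : ¬ R ≤ Q) (hQ' : ¬ R ≤ Q') (hf : Mor F R f) :
    ∃ g, Mor F ⊤ g ∧ Set.EqOn g f R := by
  refine alperin_ind isPGroup_top hF (motive := fun f => ∃ g, Mor F ⊤ g ∧ Set.EqOn g f R) ⟨id, mor_id F le_rfl, fun _ _ => rfl⟩
    (fun f g ⟨k, hk, e⟩ e' => ⟨k, hk, e.trans e'⟩) (fun f E g hf ⟨k, hk, e⟩ hE hg _ m => ?_) hf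
  rcases hE with rfl | hE
  · exact ⟨_, hg.comp hk fun _ _ => trivial, fun x hx => congrArg g (e hx)⟩
  obtain ⟨α, hα⟩ := exists_aut_top hk
  rcases essL_two K F hF E hE with rfl | rfl
  · exact absurd (fun x hx => (map_mem α x).2.2.2.1.1 (hα x ▸ e hx ▸ m x hx)) hQ
  · exact absurd (fun x hx => (map_mem α x).2.2.2.2.1 (hα x ▸ e hx ▸ m x hx)) hQ'

theorem ext_extAutQ (hF : F.IsSaturated 2) {α : MulAut (Q (K := K))} (hα : α ∈ extAut F Q) :
    ∃ g, Mor F ⊤ g ∧ Set.EqOn g (autFun α) (Q (K := K)) :=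
  ext_of_mem_extAut (fun _ _ hR hf => ext_top hF hR.not_ge (fun k => one_ne_zero (α := K) (k (hR.le (show y1 1 ∈ Q from rfl)))) hf) hα

theorem fixA_corr {β : MulAut (U K)} (h : Corr β β.symm F F') (hβ : ∀ g ∈ sA, β g ∈ sA) (hA : FixA F) : FixA F' := fun f hf m x hx => by
  have q : ∀ (α : MulAut (U K)), ∀ g ∈ Q', α g ∈ Q' := fun α g => (map_mem α g).2.2.2.2.2
  have := hβ _ (hA _ ((mor_corr h).1 hf) (fun y hy => q β.symm _ (m _ (q β y hy))) _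
    (inv_A (f := β) (f' := β.symm) ⟨fun x _ y _ => map_mul β x y, q β, q β.symm, fun x _ => β.symm_apply_apply x,
      fun x _ => β.apply_symm_apply x⟩ hβ x hx))
  simpa using this

end CL.G2F.Ev
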