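/-
S5211, `q = 2ⁿ ≥ 4`: after conjugation by `kap` (`q = 4`), `Aut_F(Q')` leaves `A₀` invariant.
-/
import Cfsg.Agent.FUS.G2.EvA

set_option autoImplicit false
set_option linter.unusedSimpArgs false
set_option linter.unusedSectionVars false

namespace CL.G2F.Ev

open CL.Fus CL.RF4 CL.D3 Subgroup Cfsg Cfsg.FusionSystem
open scoped commutatorElement

variable {K : Type*} [Field K] [Finite K] [CharP K 2] [NT K] {F F' : FusionSystem (⊤ : Subgroup (U K))} {f f' : U K → U K} {g h : U K}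

namespace KK

theorem cj1_r (c : K) (g : U K) : (cj (y1 c) g).r = g.r + c * g.t ^ 2 := by gus; grind

theorem comm_Y (hg : g ∈ sY6) (hh : h ∈ sY6) : g * h = h * g :=
  (E2.comm_Q' hg.1 hh.1).2 (by simp [hg.2.1, hg.2.2, hh.2.1, hh.2.2])

theorem back (i : IsoOn Q' Q' f f') (hg : g ∈ Q') (hh : h ∈ Q') (e : g * f h = f h * g) : f' g * h = h * f' g :=
  i.injOn (mul_mem (i.maps' g hg) hh) (mul_mem hh (i.maps' g hg)) (by
    rw [i.map_mul (i.maps' g hg) hh, i.map_mul hh (i.maps' g hg), i.right g hg, e])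

theorem cls {E : Subgroup (U K)} (hE : E ≤ Q') (i : IsoOn Q' Q' f f') (sq : ∀ y ∈ E, y ^ 2 = 1) (cm : ∀ y ∈ E, ∀ z ∈ E, y * z = z * y) :
    (∀ y ∈ E, f y ∈ sA) ∨ (∀ y ∈ E, f y ∈ sB) ∨ ∃ c, ∀ y ∈ E, cj (y1 c) (f y) ∈ sY6 := by
  have m : ∀ y ∈ E, (f y).u = 0 := fun y hy => i.maps y (hE hy)
  have s : ∀ y ∈ E, (f y).s * ((f y).r + (f y).s * (f y).t) = 0 ∧ (f y).t * ((f y).r + (f y).s * (f y).t) = 0 := fun y hy => by
    have := E2.sq_Q' (m y hy)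
    rw [pow_two, ← i.map_mul (hE hy) (hE hy), ← pow_two, sq y hy, i.map_one] at this
    exact ⟨(congrArg U.v this).symm, (congrArg U.w this).symm⟩
  have c := fun y hy z hz => (E2.comm_Q' (m y hy) (m z hz)).1 (by rw [← i.map_mul (hE hy) (hE hz), cm y hy z hz, i.map_mul (hE hz) (hE hy)])
  by_cases ht : ∀ y ∈ E, (f y).t = 0
  · by_cases hs : ∀ y ∈ E, (f y).s = 0
    · exact .inl fun y hy => ⟨m y hy, hs y hy, ht y hy⟩
    push Not at hs
    obtain ⟨z, hz, n⟩ := hs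
    refine .inr (.inl fun y hy => ⟨m y hy, ?_, ht y hy⟩)
    have := s z hz; have := c y hy z hz; have := ht y hy; have := ht z hz
    grind
  push Not at ht
  obtain ⟨z, hz, n⟩ := ht
  refine .inr (.inr ⟨(f z).s / (f z).t, fun y hy => ?_⟩)
  have := s z hz; have := s y hy; have := c y hy z hz
  have k : (f y).s * (f z).t = (f z).s * (f y).t := by grind
  exact ⟨by rw [cj1_u, m y hy], by rw [cj1_s]; grind, by rw [cj1_r]; grind⟩

theorem clsA (i : IsoOn Q' Q' f f') : (∀ y ∈ sA, f y ∈ sA) ∨ (∀ y ∈ sA, f y ∈ sB) ∨ ∃ c, ∀ y ∈ sA, cj (y1 c) (f y) ∈ sY6 :=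
  cls (fun _ k => k.1) i (fun _ => pow_sA) fun _ a _ b => comm_A a b

theorem clsB (i : IsoOn Q' Q' f f') : (∀ y ∈ sB, f y ∈ sA) ∨ (∀ y ∈ sB, f y ∈ sB) ∨ ∃ c, ∀ y ∈ sB, cj (y1 c) (f y) ∈ sY6 :=
  cls (fun _ k => k.1) i (fun y k => by rw [E2.sq_Q' k.1]; gcs; simp [k.2.1, k.2.2]) fun _ a _ b => comm_B a b

theorem isoQ' (α : MulAut (U K)) : IsoOn Q' Q' α α.symm :=
  ⟨fun x _ y _ => map_mul α x y, fun g => (map_mem α g).2.2.2.2.2, fun g => (map_mem α.symm g).2.2.2.2.2,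
    fun x _ => α.symm_apply_apply x, fun x _ => α.apply_symm_apply x⟩

theorem noAB (hF : F.IsSaturated 2) (hf : Mor F Q' f) (m : ∀ x ∈ Q', f x ∈ Q') : ¬ ∀ y ∈ sA, f y ∈ sB := fun k => by
  obtain ⟨f', -, i⟩ := exists_isoOn hf m
  have AQ : sA ≤ Q' (K := K) := fun _ k => k.1
  have e : img f sA = sB := le_antisymm (img_le_iff.2 k) fun b hb => (i.mem_img_iff AQ).2 ⟨hb.1, cenA (i.maps' b hb.1)
    (back i hb.1 rfl (comm_B hb (k _ ⟨rfl, rfl, rfl⟩)))⟩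
  obtain ⟨g, hg, eg⟩ := exists_mor_normalizer_of_fullyNormalized isPGroup_top hF
    (fullyNormalized_of_normal F le_top le_normalizer_of_normal) (e ▸ (hf.mono AQ).isConj)
  replace hg : Mor F ⊤ g := hg.mono (le_inf le_rfl le_normalizer_of_normal)
  obtain ⟨γ, hγ, e⟩ := hg.exists_aut hg.img_top
  let c : MulAut (⊤ : Subgroup (U K)) →* MulAut (U K) := (MulAut.congr topEquiv).toMonoidHom
  have hc : ∀ γ g, c γ g = autFun γ g := fun γ g => (autFun_of_mem γ (mem_top g)).symm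
  have ab : ∀ y ∈ sA, c γ y ∈ sB := fun y hy => by rw [hc, e trivial, ← eg]; exact mem_img_of_mem _ hy
  have ba : ∀ y ∈ sB, c γ y ∈ sA := by
    have r : ∀ y ∈ sB, c γ y ∈ sR := fun y hy => (map_mem _ y).2.2.1.2 (sB_le_sR hy)
    obtain k | k | ⟨a, k⟩ := clsB (isoQ' (c γ))
    · exact k
    · have := cenA (g := y2 1) rfl ((c γ).injective (by
        rw [map_mul, map_mul]; exact comm_B (k _ ⟨rfl, rfl, rfl⟩) (ab _ ⟨rfl, rfl, rfl⟩)))
      exact absurd this.2.1 one_ne_zero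
    · exact fun y hy => ⟨(r y hy).1, by simpa [cj1_s, (r y hy).2] using (k y hy).2.1, (r y hy).2⟩
  have hS := sylIn_inn_top isPGroup_top hF
  have hN : ((Inn (⊤ : Subgroup (U K))).subgroupOf (F.autGroup ⊤)).Normal := inferInstance
  obtain ⟨n, hn⟩ : Odd ((Inn (⊤ : Subgroup (U K))).subgroupOf (F.autGroup ⊤)).index :=
    Nat.not_even_iff_odd.1 fun k => hS.not_dvd_relIndex k.two_dvd
  obtain ⟨u, -, hu⟩ := mem_inn_iff.1 (show γ ^ _ ∈ Inn (⊤ : Subgroup (U K)) from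
    ((Inn (⊤ : Subgroup (U K))).subgroupOf (F.autGroup ⊤)).pow_index_mem ⟨γ, hγ⟩)
  have od : ∀ n, (c γ ^ (2 * n + 1)) (y4 1) ∈ sB := fun n => by
    induction n with
    | zero => simpa using ab _ ⟨rfl, rfl, rfl⟩
    | succ n ih => rw [show 2 * (n + 1) + 1 = 2 * n + 1 + 1 + 1 by ring, pow_succ', pow_succ']; exact ab _ (ba _ ih)
  have := (od n).2.1
  rw [← hn, ← map_pow, hc, hu trivial] at this
  gus at this
  grind

theorem br_B (hg : g ∈ Q') (hh : h ∈ sB) : ⁅g, h⁆ = ⟨0, 0, g.t * h.s ^ 2 + h.s * g.r, 0, h.s * g.t ^ 2, 0⟩ := by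
  rw [mem_Q'] at hg; obtain ⟨a, b, c⟩ := hh; gcs; simp only [hg, a, b, c]; and_intros <;> grind

theorem four_of (i : IsoOn Q' Q' f f') (k : ∀ y ∈ sA, f y ∈ sB) : Four K := fun t => by
  by_contra n
  obtain ⟨ω, w0, w1⟩ := NT.ex (K := K)
  have k' : ∀ s, f' (y2 s) ∈ sA := fun s => cenA (i.maps' _ rfl) (back i rfl rfl (comm_B ⟨rfl, rfl, rfl⟩ (k _ ⟨rfl, rfl, rfl⟩)))
  have q : (y4 (t ^ 4 + t) * y6 t : U K) ∈ Q' := mul_mem rfl rfl
  have e1 : ⁅(y6 1 : U K), y2 (t ^ 2)⁆ = ⁅y4 (t ^ 4 + t) * y6 t, y2 1⁆ := by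
    rw [br_B rfl ⟨rfl, rfl, rfl⟩, br_B q ⟨rfl, rfl, rfl⟩]; gus; grind
  have n1 : f' ⁅(y6 1 : U K), y2 (t ^ 2)⁆ ≠ 1 := fun e => by
    have := congrArg U.w ((i.symm.eq_one_iff (br_mem (show y6 1 ∈ Q' from rfl) rfl)).1 e)
    rw [br_B rfl ⟨rfl, rfl, rfl⟩] at this; gus at this; grind
  have e2 := congrArg f' e1
  rw [i.hom'.map_commutator rfl rfl, br_Q'A (i.maps' _ rfl) (k' _)] at n1 e2
  rw [i.hom'.map_commutator q rfl, br_Q'A (i.maps' _ q) (k' _)] at e2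
  have e3 : f' ⁅(y6 1 : U K), y2 (t ^ 2 * ω)⁆ = ⁅f' (y4 (t ^ 4 + t) * y6 t), y4 ((f' (y2 (t ^ 2 * ω))).r * (f' (y2 1)).r / (f' (y2 (t ^ 2))).r)⁆ := by
    rw [i.hom'.map_commutator rfl rfl, br_Q'A (i.maps' _ rfl) (k' _), br_Q'A (i.maps' _ q) ⟨rfl, rfl, rfl⟩]
    rw [ne_eq] at n1
    gcs at e2 n1 ⊢
    grind
  have e4 := congrArg f e3
  rw [i.right _ (br_mem (show y6 1 ∈ Q' from rfl) rfl), i.hom.map_commutator (i.maps' _ q) rfl, i.right _ q,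
    br_B q (k _ ⟨rfl, rfl, rfl⟩), br_B rfl ⟨rfl, rfl, rfl⟩] at e4
  gus at e4
  grind

end KK

open KK

theorem exists_fixA (hF : F.IsSaturated 2) :
    ∃ (β : MulAut (U K)) (F' : FusionSystem (⊤ : Subgroup (U K))), Corr β β.symm F F' ∧ FixA F' := by
  by_cases hA : FixA F
  · obtain ⟨F', c⟩ := (isoOn_top (1 : MulAut (U K))).exists_corr F
    exact ⟨1, F', c, fixA_corr c (fun _ k => k) hA⟩
  simp only [FixA, not_forall] at hA
  obtain ⟨f, hf, m, x, hx, n⟩ := hA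
  obtain ⟨f', -, i⟩ := exists_isoOn hf m
  obtain ⟨c, k⟩ := ((clsA i).resolve_left fun k => n (k x hx)).resolve_left (noAB hF hf m)
  have h4 : Four K := four_of ((i.trans (isoOn_cj (y1 c))).trans isoOn_wb) fun y hy => by
    obtain ⟨-, a, b⟩ := k y hy
    exact ⟨rfl, by simp [a, b], a⟩
  obtain ⟨F', c'⟩ := (isoOn_top (kap h4)).exists_corr F
  refine ⟨_, F', c', fun g hg mg y hy => ?_⟩
  have hg' := (mor_corr c').1 hg
  have mg' : ∀ x ∈ Q', ((kap h4).symm ∘ g ∘ kap h4) x ∈ Q' := fun x hx => mg _ hx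
  obtain ⟨g', hg'', j⟩ := exists_isoOn hg' mg'
  obtain e | e | ⟨c₁, e⟩ := clsB j
  · exact (noAB hF hg'' j.maps' fun a ha => cenB (j.maps' a ha.1) (back j ha.1 rfl (comm_A ha (e _ ⟨rfl, rfl, rfl⟩)))).elim
  · have := e (kapf y) ⟨hy.1, hy.2.1, by simp [hy.2.2]⟩
    simp only [Function.comp, kap_apply, kap_symm, kapf_kapf h4] at this
    exact ⟨this.1, this.2.1, by simpa using this.2.2⟩
  have i₁ := (i.trans (isoOn_cj (y1 c))).trans (j.trans (isoOn_cj (y1 c₁))).symm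
  exact (noAB hF ((hg''.comp (mor_cj' F Q' _) (isoOn_cj (P := Q') (y1 c₁)).maps').comp (hf.cj_comp trivial)
    (i.trans (isoOn_cj (y1 c))).maps) i₁.maps fun a ha => cenB (i₁.maps a ha.1)
      (back (g := cj (y1 c) (f a)) (h := y2 1) (j.trans (isoOn_cj (y1 c₁))) (k a ha).1 rfl (comm_Y (k a ha) (e _ ⟨rfl, rfl, rfl⟩)))).elim

end CL.G2F.Ev
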