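/-
S5211, `q = 2ⁿ ≥ 4`: the image of `Aut_F(Q)` in `Aut(Q / Z)`.
-/
import Cfsg.Agent.FUS.G2.EvD

set_option autoImplicit false
set_option linter.unusedSimpArgs false
set_option linter.unusedSectionVars false

namespace CL.G2F.Ev

open CL.Fus CL.RF4 CL.D3 Subgroup Cfsg Cfsg.FusionSystem
open scoped commutatorElement

variable {K : Type*} [Field K] [Finite K] [CharP K 2] [NT K] {X : Subgroup (MulAut (W K))} {x y : MulAut (W K)}

namespace L

theorem h3 : (3 : K) ≠ 0 := by grind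

theorem ext4 {a b : W K} (k1 : bW a e1 = bW b e1) (k2 : bW a (e2 1) = bW b (e2 1)) (k3 : bW a (e3 1) = bW b (e3 1))
    (k4 : bW a e4 = bW b e4) : a = b := by
  simp [bW, h3] at k1 k2 k3 k4
  exact W.ext k4 k3 k2 k1

theorem bW_sml (c : K) (a b : W K) : bW (sm c a) b = c * bW a b := by simp [bW]; ring
theorem bW_smr (c : K) (a b : W K) : bW a (sm c b) = c * bW a b := by simp [bW]; ring
theorem b4 (a : W K) : bW a e4 = a.u := by simp [bW]
theorem eq_sm {v : W K} (hv : v ∈ VW) : v = sm v.w e4 := W.ext (by simp [hv.1]) (by simp [hv.2.1]) (by simp [hv.2.2]) (by simp)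
theorem sm_inj {c c' : K} (e : sm c (x e4) = sm c' (x e4)) : c = c' := by
  by_contra n
  have k : ∀ a : K, c * a = c' * a → a = 0 := fun a e => by grind
  have : x e4 = 1 := W.ext (k _ (congrArg W.u e)) (k _ (congrArg W.s e)) (k _ (congrArg W.r e)) (k _ (congrArg W.w e))
  simpa using congrArg W.w ((map_eq_one_iff x x.injective).1 this)
theorem sm_sm (c d : K) (a : W K) : sm c (sm d a) = sm (c * d) a := by ext <;> simp [mul_assoc]
theorem sm_one (a : W K) : sm 1 a = a := by ext <;> simp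

variable (h : QD 2 X)
include h

theorem tt_mem (t : K) : tt t ∈ X := h.syl.1 ⟨t, rfl⟩

theorem b0 (hx : x ∈ X) (a b : W K) : bW (x a) (x b) = 0 ↔ bW a b = 0 := by
  have key : ∀ x ∈ X, ∀ a b, bW a b = 0 → bW (x a) (x b) = 0 := fun x hx a b e => by
    obtain ⟨ζ, hζ⟩ := h.sim x hx
    have := hζ 1 1
    rw [map_one, show bW (1 : W K) 1 = 0 by simp [bW]] at this
    rw [hζ, e, ← this]
  exact ⟨fun e => by simpa using key _ (X.inv_mem hx) _ _ e, key x hx a b⟩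

theorem semi (hx : x ∈ X) : ∃ m : K → K, (∀ c d, m (c * d) = m c * m d) ∧ m 1 = 1 ∧ Function.Injective m ∧
    ∀ c y, x (sm c y) = sm (m c) (x y) := by
  obtain ⟨ζ, hζ⟩ := h.sim x hx
  obtain ⟨ζ', hζ'⟩ := h.sim _ (X.inv_mem hx)
  have k1 : ∀ c a b, bW (x (sm c (x⁻¹ a))) b = ζ (c * ζ' (bW a b)) := fun c a b => by
    rw [← hζ', ← bW_sml, ← hζ]; simp
  have k2 : ∀ c e, ζ (c * ζ' e) = e * bW (x (sm c (x⁻¹ e1))) e4 := fun c e => by
    rw [← bW_smr, k1, bW_smr, b4]; simp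
  obtain ⟨m, k3⟩ : ∃ m : K → K, ∀ c y, x (sm c y) = sm (m c) (x y) := ⟨fun c => bW (x (sm c (x⁻¹ e1))) e4, fun c y => by
    have : ∀ z, bW (x (sm c y)) z = bW (sm (bW (x (sm c (x⁻¹ e1))) e4) (x y)) z := fun z => by
      have := k1 c (x y) z
      rw [MulAut.inv_apply_self] at this
      rw [this, k2, bW_sml, mul_comm]
    exact ext4 (this _) (this _) (this _) (this _)⟩
  refine ⟨m, fun c d => sm_inj (x := x) (by rw [← k3, ← sm_sm, ← sm_sm, k3, k3]), sm_inj (x := x) (by rw [← k3, sm_one, sm_one]),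
    fun c d e => sm_inj (x := 1) (x.injective ?_), k3⟩
  rw [k3, k3, e]

theorem stab (hx : x ∈ X) (e : x e4 ∈ VW) : ∀ v ∈ VW, x v ∈ VW := fun v hv => by
  obtain ⟨m, -, -, -, k⟩ := semi h hx
  rw [eq_sm hv, k]; exact ⟨by simp [e.1], by simp [e.2.1], by simp [e.2.2]⟩

theorem eig (hx : x ∈ X) (k1 : (x e4).u = 0) (k4 : (x e4).w = 0) (k : (x e4).s = 0 ∨ (x e4).r = 0) : False := by
  obtain ⟨c, c0, c4, c5⟩ : ∃ c : K, c ≠ 0 ∧ c ^ 4 ≠ 1 ∧ c ^ 5 ≠ 1 := by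
    obtain ⟨c, c0, c1⟩ := NT.ex (K := K)
    by_cases e : c ^ 5 = 1
    exacts [⟨c + 1, by grind, by grind, by grind⟩, ⟨c, c0, by grind, e⟩]
  have ok : Ok (c ^ 2) c⁻¹ := ⟨by simp [c0], by simp [c0]⟩
  obtain ⟨m, mm, m1, mi, e⟩ := semi h (X.inv_mem hx)
  obtain ⟨m', -, -, -, e'⟩ := semi h hx
  obtain ⟨l, hl, el⟩ : ∃ l, (l = 1 ∨ l = c) ∧ dW (c ^ 2) c⁻¹ 1 ok (x e4) = sm l (x e4) := by
    rcases k with k | k
    · exact ⟨1, .inl rfl, by ext <;> simp [k, k1, k4, c0]⟩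
    · exact ⟨c, .inr rfl, by ext <;> simp [k, k1, k4, c0, sq]⟩
  have lin : ∀ a z, dW (c ^ 2) c⁻¹ 1 ok (sm a z) = sm a (dW (c ^ 2) c⁻¹ 1 ok z) := fun a z => by ext <;> simp <;> ring
  have kx : ∀ a z, dW (c ^ 2) c⁻¹ 1 ok z = sm a z → (x⁻¹ * dW (c ^ 2) c⁻¹ 1 ok * x : MulAut (W K)) (x⁻¹ z) = sm (m a) (x⁻¹ z) :=
    fun a z hz => by rw [MulAut.mul_apply, MulAut.mul_apply, MulAut.apply_inv_self, hz, e]
  have q4 := kx _ _ el
  have q := fun a => kx l (x (sm a e4)) (by rw [e', lin, el, sm_sm, sm_sm, mul_comm])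
  have p1 := kx (c ^ 2) e1 (by ext <;> simp)
  have p4 := kx c⁻¹ e4 (by ext <;> simp; field_simp)
  simp only [MulAut.inv_apply_self] at q4 q
  obtain ⟨t, a, d, ρ, ok', -, ek⟩ := h.std _ (mul_mem (mul_mem (inv_mem hx) (h.hb c ok)) hx)
    (stab h (mul_mem (mul_mem (inv_mem hx) (h.hb c ok)) hx) (by rw [q4]; exact ⟨by simp, by simp, by simp⟩))
  rw [ek] at q4 q p1 p4
  have w4 : a * d ^ 3 = m l := by simpa using congrArg W.w q4
  have l0 : a * d ^ 3 ≠ 0 := by simp [ok'.a0, ok'.d0]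
  have r1 : ∀ b, ρ b = b := fun b => mul_left_cancel₀ l0 (by simpa [← w4] using congrArg W.w (q b))
  have u1 : (x⁻¹ e1 : W K).u = 0 := by rw [← b4, ← b0 h hx, MulAut.apply_inv_self]; simp [bW, k4]
  have u4 : (x⁻¹ e4 : W K).u = 0 := by rw [← b4, ← b0 h hx, MulAut.apply_inv_self]; simp [bW, k1]
  have n := mt (b0 h (inv_mem hx) e1 e4).1 (by simp [bW])
  have a1 := congrArg W.s p1
  have a2 := congrArg W.r p1
  have a3 := congrArg W.s p4
  have a4 := congrArg W.r p4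
  simp only [MulAut.mul_apply, tt_s, tt_r, dW_u, dW_s, dW_r, sm_s, sm_r, r1, u1, u4, bW] at a1 a2 a3 a4 n
  have i1 : m c⁻¹ * m c = 1 := by rw [← mm, inv_mul_cancel₀ c0, m1]
  have i4 : m c ^ 4 ≠ 1 := fun k => c4 (mi (by rw [m1, ← k]; simp only [pow_succ, pow_zero, mm, m1]))
  have i5 : m c ^ 5 ≠ 1 := fun k => c5 (mi (by rw [m1, ← k]; simp only [pow_succ, pow_zero, mm, m1]))
  rw [sq c, mm] at a1 a2
  have d0 := ok'.d0
  generalize (x⁻¹ e1 : W K).s = s1, (x⁻¹ e1 : W K).r = r1, (x⁻¹ e4 : W K).s = s4, (x⁻¹ e4 : W K).r = r4 at *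
  have : s4 * r1 ≠ 0 ∨ s1 * r4 ≠ 0 := by grind
  rcases hl with rfl | rfl <;> rcases this with k | k <;> grind

theorem notR (hx : x ∈ X) (e : (x e4).u = 0) : x e4 ∈ VW := by
  have q := h.sq rfl x hx e4 (by simp [qW])
  simp only [qW, e] at q
  by_cases s0 : (x e4).s = 0
  · refine ⟨e, s0, by_contra fun r0 => eig h (mul_mem (tt_mem h ((x e4).w / (x e4).r)) hx) e ?_ (.inl (by simp [e, s0]))⟩
    simp only [MulAut.mul_apply, tt_w, e, s0]; grind
  · obtain ⟨t, ht⟩ := exists_sqrt ((x e4).w / (x e4).s)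
    have r0 : (x e4).r = 0 := by grind
    refine (eig h (mul_mem (tt_mem h t) hx) e ?_ (.inr ?_)).elim
    · simp only [MulAut.mul_apply, tt_w, e, r0, ht]; grind
    · simp only [MulAut.mul_apply, tt_r, e, r0]; grind

theorem perp (hx : x ∈ X) (hy : y ∈ X) (e : bW (y e4) (x e4) = 0) : ∃ c, y e4 = sm c (x e4) := by
  have k := notR h (X.mul_mem (X.inv_mem hx) hy) (by rw [← b4, ← b0 h hx, MulAut.mul_apply, MulAut.apply_inv_self, e])
  obtain ⟨m, -, -, -, k2⟩ := semi h hx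
  exact ⟨_, by rw [← k2, ← eq_sm k, MulAut.mul_apply, MulAut.apply_inv_self]⟩

theorem k_one (hx : x ∈ X) (e : x e4 ∉ VW) : ∃ t, (tt t * x : MulAut (W K)) e4 ∈ V1W := by
  have hu : (x e4).u ≠ 0 := fun k => e (notR h hx k)
  have m := mul_mem (tt_mem h (-(x e4).s / (x e4).u)) hx
  have hs : ((tt (-(x e4).s / (x e4).u) * x : MulAut (W K)) e4).s = 0 := by simp only [MulAut.mul_apply, tt_s]; grind
  replace hu : ((tt (-(x e4).s / (x e4).u) * x : MulAut (W K)) e4).u ≠ 0 := hu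
  refine ⟨-(x e4).s / (x e4).u, ?_⟩
  generalize tt (-(x e4).s / (x e4).u) * x = y at m hs hu
  have q := h.sq rfl _ m e4 (by simp [qW])
  obtain ⟨c, c0, c1⟩ := NT.ex (K := K)
  have hw : (y e4).w = 0 := by simpa [qW, hs, hu] using q
  obtain ⟨a, k⟩ := perp h m (mul_mem (h.hb c ⟨by simp [c0], by simp [c0]⟩) m) (by simp [bW, hs, hw])
  have k1 := congrArg W.u k
  have k3 := congrArg W.r k
  simp only [MulAut.mul_apply, dW_u, dW_r, sm_u, sm_r, RingAut.one_apply] at k1 k3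
  exact ⟨hs, by grind, hw⟩

omit h in
theorem rigid (ix : ∀ a b, bW (x a) (x b) = bW a b) (iy : ∀ a b, bW (y a) (y b) = bW a b) (e : x e4 = y e4) (w1 : (x e4).w = 1)
    (fx : ∀ a, a.w = 0 → (x a).s = a.s ∧ (x a).r = a.r ∧ (x a).w = 0) (fy : ∀ a, a.w = 0 → (y a).s = a.s ∧ (y a).r = a.r ∧ (y a).w = 0) :
    x = y := by
  have k : ∀ a, a.w = 0 → x a = y a := fun a ha => by
    obtain ⟨a1, a2, a3⟩ := fx a ha
    obtain ⟨b1, b2, b3⟩ := fy a ha
    have c := (ix a e4).trans (iy a e4).symm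
    simp only [bW, ← e, w1, a1, a2, a3, b1, b2, b3] at c
    exact W.ext (by grind) (a1.trans b1.symm) (a2.trans b2.symm) (a3.trans b3.symm)
  have k' : ∀ a z, x z = y z → bW (x⁻¹ (y a)) z = bW a z := fun a z hz => by rw [← ix, MulAut.apply_inv_self, hz, iy]
  exact MulEquiv.ext fun a => by
    rw [← ext4 (k' a _ (k _ rfl)) (k' a _ (k _ rfl)) (k' a _ (k _ rfl)) (k' a _ e), MulAut.apply_inv_self,
      ext4 (k' a _ (k _ rfl)) (k' a _ (k _ rfl)) (k' a _ (k _ rfl)) (k' a _ e)]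

theorem opp (t : K) : aW * tt t * aW⁻¹ ∈ X := by
  obtain ⟨x₁, h₁, n₁⟩ := h.ne
  obtain ⟨t₁, e₀⟩ := k_one h h₁ n₁
  have hx := mul_mem (tt_mem h t₁) h₁
  generalize tt t₁ * x₁ = x at e₀ hx
  obtain ⟨m, -, -, -, sx⟩ := semi h hx
  obtain ⟨ζ, hζ⟩ := h.sim x hx
  have u0 : (x e4).u ≠ 0 := fun k => by
    simpa using congrArg W.w ((map_eq_one_iff x x.injective).1 (W.ext k e₀.1 e₀.2.1 e₀.2.2 : x e4 = 1))
  have key : ∀ t, ∃ t', x * tt t * x⁻¹ = aW * tt t' * aW⁻¹ := fun t => by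
    have hτ := mul_mem (mul_mem hx (tt_mem h t)) (inv_mem hx)
    have iτ : ∀ a b, bW ((x * tt t * x⁻¹ : MulAut (W K)) a) ((x * tt t * x⁻¹ : MulAut (W K)) b) = bW a b := fun a b => by
      simp only [MulAut.mul_apply]; rw [hζ, bW_tt, ← hζ, MulAut.apply_inv_self, MulAut.apply_inv_self]
    have fτ : ∀ a, a.w = 0 → ((x * tt t * x⁻¹ : MulAut (W K)) a).s = a.s ∧ ((x * tt t * x⁻¹ : MulAut (W K)) a).r = a.r ∧
        ((x * tt t * x⁻¹ : MulAut (W K)) a).w = 0 := fun a ha => by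
      obtain ⟨z, rfl⟩ := x.surjective a
      have zu : z.u = 0 := by rw [← b4, ← b0 h hx]; simp [bW, ha, e₀.1, e₀.2.1, e₀.2.2]
      rw [MulAut.mul_apply, MulAut.mul_apply, MulAut.inv_apply_self,
        show tt t z = z * sm (3 * z.r * t + 3 * z.s * t ^ 2) e4 by ext <;> simp [zu, E2.two, add_assoc], map_mul, sx]
      simp [ha, e₀.1, e₀.2.1, e₀.2.2]
    have w1 : ((x * tt t * x⁻¹ : MulAut (W K)) e4).w = 1 := by
      have := iτ e4 (x e4)
      rw [show (x * tt t * x⁻¹ : MulAut (W K)) (x e4) = x e4 by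
        rw [MulAut.mul_apply, MulAut.mul_apply, MulAut.inv_apply_self, show tt t e4 = e4 by ext <;> simp]] at this
      simpa [bW, e₀.1, e₀.2.1, e₀.2.2, u0] using this
    generalize x * tt t * x⁻¹ = τ at *
    refine ⟨(τ e4).r, rigid iτ (fun a b => by
      simp only [MulAut.mul_apply]; rw [bW_aW, bW_tt, ← bW_aW, MulAut.apply_inv_self, MulAut.apply_inv_self]) ?_ w1 fτ fun a ha => by
        simp only [MulAut.mul_apply, aW_s, aW_r, aW_w, tt_u, tt_s, tt_r, aW'_u, aW'_s, aW'_r, ha]; grind⟩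
    have k : (τ e4).u = (τ e4).r ^ 3 ∧ (τ e4).s = (τ e4).r ^ 2 := by
      by_cases e : τ e4 ∈ VW
      · simp [e.1, e.2.1, e.2.2]
      obtain ⟨t, k1, k2, k3⟩ := k_one h hτ e
      simp only [MulAut.mul_apply, tt_s, tt_r, tt_w, w1] at k1 k2 k3
      grind
    simp only [W.ext_iff, MulAut.mul_apply, aW_u, aW_s, aW_r, aW_w, tt_u, tt_s, tt_r, tt_w, aW'_u, aW'_s, aW'_r, aW'_w, e4_u, e4_s,
      e4_r, e4_w, w1]
    grind
  choose g hg using key
  obtain ⟨s, rfl⟩ := (Finite.injective_iff_surjective (f := g)).1 (fun a b e => tt_inj (by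
    have := (hg a).trans (e ▸ (hg b).symm)
    simpa using this)) t
  exact hg s ▸ mul_mem (mul_mem hx (tt_mem h s)) (inv_mem hx)

end L

open L

theorem kone (h : QD 2 X) : KOne X := fun x hx => by
  by_cases e : x e4 ∈ VW
  · exact .inl (stab h hx e)
  obtain ⟨t, k⟩ := k_one h hx e
  obtain ⟨m, -, -, -, s⟩ := semi h (mul_mem (tt_mem h t) hx)
  refine .inr ⟨t, fun v hv => ?_⟩
  rw [← MulAut.mul_apply, eq_sm hv, s]
  exact ⟨by rw [sm_s, k.1, mul_zero], by rw [sm_r, k.2.1, mul_zero], by rw [sm_w, k.2.2, mul_zero]⟩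

theorem lmain (h : QD 2 X) : aW ∈ X ∧ ∀ a d (k : Ok a d), dW a d 1 k ∈ X := by
  have h2 : ∀ t (ht : t ≠ 0) k, aW * dW (t ^ 3) (t⁻¹ ^ 2) 1 k ∈ X := fun t ht k => by
    rw [← sl2_rel ht]; exact mul_mem (mul_mem (tt_mem h _) (opp h _)) (tt_mem h _)
  have h3 : aW ∈ X := by
    have := h2 1 one_ne_zero (by simpa using ok_one)
    rwa [dW_congr _ ok_one (by simp) (by simp) rfl, dW_one, mul_one] at this
  refine ⟨h3, fun a d k => ?_⟩
  have a0 := k.a0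
  have d0 := k.d0
  have := mul_mem ((mul_mem_cancel_left h3).1 (h2 (a * d ^ 2)⁻¹ (by simp [a0, d0]) ⟨by simp [a0, d0], by simp [a0, d0]⟩))
    (h.hb (a ^ 2 * d ^ 3) ⟨by simp [a0, d0], by simp [a0, d0]⟩)
  rwa [dW_mul, dW_congr _ k (by simp only [RingAut.one_apply]; field_simp) (by simp only [RingAut.one_apply]; field_simp) (mul_one _)] at this

end CL.G2F.Ev
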