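/-
S5211, `q = 2ⁿ ≥ 4`: the automizer of `Q` (port of FUS/D3/QS).
-/
import Cfsg.Agent.FUS.G2.EvA
import Cfsg.Agent.FUS.G2.EvL

set_option autoImplicit false
set_option linter.unusedSimpArgs false
set_option linter.unusedSectionVars false

namespace CL.G2F.Ev

open CL.Fus CL.RF4 CL.D3 Subgroup Cfsg Cfsg.FusionSystem
open scoped commutatorElement

variable {K : Type*} [Field K] [Finite K] [CharP K 2] [NT K] {F F' : FusionSystem (⊤ : Subgroup (U K))} {f f' : U K → U K}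

namespace QE

variable {g h : U K}

theorem three : (3 : K) ≠ 0 := fun e => absurd (three_iff (p := 2).1 e) (by decide)

theorem b0 (i : IsoOn Q Q f f') (hg : g ∈ Q) (hh : h ∈ Q) : bf (f g) (f h) = 0 ↔ bf g h = 0 := by
  rw [← comm_Q hg hh, ← comm_Q (i.maps _ hg) (i.maps _ hh), ← i.map_mul hg hh, ← i.map_mul hh hg, i.eq_iff (mul_mem hg hh) (mul_mem hh hg)]

theorem Z_le : sZ ≤ Q (K := K) := fun _ k => k.2.2.2.2
theorem V_le : sV ≤ Q (K := K) := fun _ k => k.2.2.2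

theorem mapZ (i : IsoOn Q Q f f') (hg : g ∈ sZ) : f g ∈ sZ := by
  have m := i.maps _ (Z_le hg)
  have := bW_nondeg three (y := pW (f g)) fun z => by
    rw [← pW_lW z, bW_pW, ← i.right _ (lW_mem z), b0 i (Z_le hg) (i.maps' _ (lW_mem z)), ← comm_Q (Z_le hg) (i.maps' _ (lW_mem z)),
      comm_Z _ hg]
  simpa using (pW_eq_iff m (one_mem _)).1 this

theorem wd (i : IsoOn Q Q f f') (hg : g ∈ Q) : pW (f (lW (pW g))) = pW (f g) := by
  rw [pW_eq_iff (i.maps _ (lW_mem _)) (i.maps _ hg), ← i.map_inv hg, ← i.map_mul (lW_mem _) (inv_mem hg)]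
  exact mapZ i ((pW_eq_iff (lW_mem _) hg).1 rfl)

theorem exX (i : IsoOn Q Q f f') : ∃ x : MulAut (W K), ∀ g ∈ Q, pW (f g) = x (pW g) :=
  ⟨⟨⟨fun y => pW (f (lW y)), fun y => pW (f' (lW y)), fun y => by
      simp only [wd i.symm (i.maps _ (lW_mem y)), i.left _ (lW_mem y), pW_lW], fun y => by
      simp only [wd i (i.maps' _ (lW_mem y)), i.right _ (lW_mem y), pW_lW]⟩, fun y z => by
    have := wd i (mul_mem (lW_mem y) (lW_mem z))
    rw [pW_mul (lW_mem y), i.map_mul (lW_mem y) (lW_mem z), pW_mul (i.maps _ (lW_mem y))] at this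
    exact this⟩, fun _ hg => (wd i hg).symm⟩

theorem extW {x y : MulAut (W K)} (e : ∀ g ∈ Q, x (pW g) = y (pW g)) : x = y := MulEquiv.ext fun z => e _ (lW_mem z)

theorem exΦ : ∃ Φ : MulAut (Q (K := K)) →* MulAut (W K), ∀ α, ∀ g ∈ Q, pW (autFun α g) = Φ α (pW g) := by
  choose x hx using fun α : MulAut (Q (K := K)) => exX (isoOn_autFun α)
  exact ⟨MonoidHom.mk' x fun α β => extW fun g hg => by
    rw [← hx _ g hg, autFun_mul _ _ hg, hx _ _ (autFun_mem β hg), hx _ g hg]; rfl, hx⟩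

theorem fZ (hf : IsHomOn Q f) (h1 : ∀ g ∈ Q, f g ∈ Q) (hg : g ∈ Q) (hh : h ∈ Q) :
    f (y3 (bf g h)) = y3 (bf (f g) (f h)) := by
  rw [← br_Q hg hh, hf.map_commutator hg hh, br_Q (h1 _ hg) (h1 _ hh)]

theorem fixZ (hf : IsHomOn Q f) (h1 : ∀ g ∈ Q, f g ∈ Q) (e : ∀ g ∈ Q, pW (f g) = pW g) (hg : g ∈ sZ) : f g = g := by
  have := fZ hf h1 (g := y1 g.v) (h := y5 1) rfl rfl
  simp only [← bW_pW, e _ (show y1 g.v ∈ Q from rfl), e _ (show y5 1 ∈ Q from rfl)] at this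
  rwa [show y3 _ = g from U.ext hg.1.symm hg.2.1.symm (by simp [bW]) hg.2.2.1.symm hg.2.2.2.1.symm hg.2.2.2.2.symm] at this

theorem mem_V (hg : g ∈ Q) : g ∈ sV ↔ pW g ∈ VW := ⟨fun k => ⟨k.1, k.2.1, k.2.2.1⟩, fun k => ⟨k.1, k.2.1, k.2.2, hg⟩⟩

theorem dd_Q {a d : K} {ρ : RingAut K} (k : Ok a d) (hg : g ∈ Q) : dd a d ρ k g ∈ Q := by rw [mem_Q] at *; simp [hg]

theorem dW_mem {a d : K} {ρ : RingAut K} {k : Ok a d} (m : Mor F ⊤ (dd a d ρ k)) : dW a d ρ k ∈ XW F :=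
  ⟨_, m.mono le_top, fun _ => dd_Q k, fun g _ => pW_dd k g⟩

theorem ivZ {A : Set (U K → U K)} (hA : Au Q A) : Ivs Q A (sZ (K := K)) :=
  (hA.iv_cent hA.iv_self).congr (fun y hy => ⟨fun e => by
    have := bW_nondeg three (y := pW y) fun z => by
      rw [← pW_lW z, bW_pW, ← comm_Q hy (lW_mem z)]; exact e _ (lW_mem z) (lW_mem z)
    simpa using (pW_eq_iff hy (one_mem _)).1 this, fun e x _ _ => (comm_Z x e).symm⟩) hA

theorem bV {v : W K} (hv : v ∈ VW) (z : W K) : bW z v = z.u * v.w := by simp [bW, hv.1, hv.2.1, hv.2.2]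

end QE

open QE

/-- `ext_of_chain` with `X = V`, chain `1 < Z < V < R₀ < Q`: `Z = Z(Q)`, `R₀ = C_Q(V)` (`E2.brVZ`, `brRV`, `brT`) -/
theorem extQ (hF : F.IsSaturated 2) (hc : F.IsCentric Q) (hf : Mor F Q f) (h1 : ∀ x ∈ Q, f x ∈ Q) (h2 : ∀ x ∈ sV, f x ∈ sV) :
    ∃ g, Mor F ⊤ g ∧ Set.EqOn g f (Q (K := K)) := by
  refine D3.ext_of_chain isPGroup_top hF hc le_normalizer_of_normal (X := sV) le_normalizer_of_normal (fun A hA iV s _ => ?_) hf h1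
    fun x _ hx => h2 x hx
  have iZ := ivZ hA
  have iR : Ivs Q A (sR (K := K)) := (hA.iv_cent iV).congr (fun y hy => ⟨fun e => ⟨by
    have := (comm_Q hy (h := y5 1) rfl).1 (e _ rfl ⟨rfl, rfl, rfl, rfl⟩)
    simpa [bf] using this, hy⟩, fun e x _ hx => comm_V e.1 hx⟩) hA
  exact (((Ch.base hA iZ fun y _ hy => comm_Z s hy).step iZ iV fun y _ hy => E2.brVZ s hy).step iV iR fun y _ hy => E2.brRV s hy).step iR
    Iv.top fun y _ _ => E2.brT s y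

/-- D3/QS (`b0`, `mapZ`, `wd`, `exX`; `bW_nondeg` with `3 ≠ 0`) -/
theorem exists_XW (hf : Mor F Q f) (h1 : ∀ g ∈ Q, f g ∈ Q) : ∃ x ∈ XW F, ∀ g ∈ Q, pW (f g) = x (pW g) := by
  obtain ⟨f', -, i⟩ := exists_isoOn hf h1
  obtain ⟨x, hx⟩ := exX i
  exact ⟨x, ⟨f, hf, h1, hx⟩, hx⟩

/-- D3/QS -/
theorem inner_of_triv (hF : F.IsSaturated 2) (hE : F.IsEssential 2 Q) (hf : Mor F Q f) (h1 : ∀ g ∈ Q, f g ∈ Q)
    (e : ∀ g ∈ Q, pW (f g) = pW g) : ∃ u ∈ Q, ∀ g ∈ Q, f g = cj u g := by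
  obtain ⟨α, hα, k⟩ := hf.exists_aut (hf.img_eq_self h1)
  have iZ : AutInv (F.autGroup Q) (sZ (K := K)) := fun β _ y _ hy => mapZ (isoOn_autFun β) hy
  obtain ⟨u, hu, e'⟩ := mem_inn_iff.1 (mem_inn_of_chain isPGroup_top (isRadical_of_essential isPGroup_top hF hE) hα le_rfl
    (.tail (.single (.inl ⟨autInv_bot _, iZ, fun y hy hz => by rw [k hy, fixZ hf.isHomOn h1 e hz]; simp⟩))
      (.inl ⟨iZ, autInv_of_le _ le_rfl, fun y hy _ => by
        rw [k hy]; exact Normal.mem_comm inferInstance ((pW_eq_iff (h1 y hy) hy).1 (e y hy))⟩)))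
  exact ⟨u, hu, fun g hg => (k hg).symm.trans (e' hg)⟩

/-- D3/QS -/
theorem std0 (hF : F.IsSaturated 2) (hS : Std F) (hE : F.IsEssential 2 Q) {x : MulAut (W K)} (hx : x ∈ XW F) (e : ∀ v ∈ VW, x v ∈ VW) :
    ∃ t a d ρ k, Mor F ⊤ (dd (K := K) a d ρ k) ∧ x = tt t * dW a d ρ k := by
  obtain ⟨f, hf, h1, h2⟩ := hx
  obtain ⟨g, hg, k⟩ := extQ hF (centric_of hF hE) hf h1 fun y hy =>
    (mem_V (h1 _ (V_le hy))).2 (h2 _ (V_le hy) ▸ e _ ((mem_V (V_le hy)).1 hy))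
  obtain ⟨y, a, d, ρ, ok, m, e'⟩ := dd_mem hS hg
  exact ⟨y.t, a, d, ρ, ok, m, extW fun z hz => by rw [← h2 z hz, ← k hz, e', pW_cj _ (dd_Q ok hz), pW_dd]; rfl⟩

/-- D3/QS verbatim -/
theorem qd (hF : F.IsSaturated 2) (hS : Std F) (hE : F.IsEssential 2 Q) (hb : Hb F) : QD 2 (XW F) := by
  obtain ⟨Φ, hΦ⟩ := exΦ (K := K)
  have hT := sylIn_of_fullyNormalized isPGroup_top hF hE.2.1
  have nQ : ∀ s : U K, s ∈ normalizer (Q (K := K) : Set (U K)) := fun s => le_normalizer_of_normal (K := ⊤) (mem_top s)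
  have cΦ : ∀ s, Φ (cjAut Q s (nQ s)) = tt s.t := fun s => extW fun g hg => by rw [← hΦ _ g hg, autFun_cjAut _ hg, pW_cj _ hg]
  have lift : ∀ x ∈ XW F, ∃ α ∈ F.autGroup Q, Φ α = x := fun x ⟨f, hf, h1, h3⟩ => by
    obtain ⟨α, hα, e⟩ := hf.exists_aut (hf.img_eq_self h1)
    exact ⟨α, hα, extW fun g hg => by rw [← hΦ _ g hg, e hg, h3 g hg]⟩
  refine ⟨?_, fun x ⟨f, hf, h1, h3⟩ => ?_, fun hp x ⟨f, hf, h1, h3⟩ a ha => ?_, fun x hx e => ?_, fun x hx t t' ht e => ?_, ?_,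
    fun c k => dW_mem (hb c k)⟩
  · convert hT.map Φ using 1
    · refine le_antisymm ?_ ?_
      · rintro _ ⟨t, rfl⟩
        exact ⟨_, cjAut_mem_autInducedBy (mem_top (y6 t)) (nQ _), cΦ _⟩
      · rintro _ ⟨α, hα, rfl⟩
        obtain ⟨s, -, hs, rfl⟩ := mem_autInducedBy_iff_cjAut.1 hα
        exact ⟨_, (cΦ s).symm⟩
    · refine le_antisymm lift ?_
      rintro _ ⟨α, hα, rfl⟩
      exact ⟨_, mor_autFun le_top hα, fun _ => autFun_mem α, hΦ α⟩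
  · refine ⟨fun c => (f (y3 c)).v, fun a b => ?_⟩
    rw [← pW_lW a, ← pW_lW b, ← h3 _ (lW_mem a), ← h3 _ (lW_mem b), bW_pW, bW_pW]
    simp only [fZ hf.isHomOn h1 (lW_mem a) (lW_mem b), y3_v]
  · have sq : ∀ g ∈ Q (K := K), g * g = y3 (qf g) := fun g hg => by
      rw [← pow_two, E2.sq_Q hg, qf]
      congr 1
      grind
    have k := hf.map_mul (lW_mem a) (lW_mem a)
    rw [sq _ (lW_mem a), sq _ (h1 _ (lW_mem a)), show y3 (qf (lW a)) = 1 from U.ext rfl rfl ha rfl rfl rfl, hf.map_one] at k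
    rw [← pW_lW a, ← h3 _ (lW_mem a), qW_pW]
    exact (congrArg U.v k).symm
  · obtain ⟨t, a, d, ρ, k, m, e⟩ := std0 hF hS hE hx e
    exact ⟨t, a, d, ρ, k, dW_mem m, e⟩
  · obtain ⟨α, hα, rfl⟩ := lift x hx
    have c := fun t : K => cjAut_mem_autInducedBy (mem_top (y6 t : U K)) (nQ _)
    have m := mul_mem (mul_mem (mul_mem hα (hT.le (c t))) (inv_mem hα)) (inv_mem (hT.le (c t')))
    obtain ⟨u, hu, k⟩ := inner_of_triv hF hE (mor_autFun le_top m) (fun _ => autFun_mem _) fun g hg => by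
      rw [hΦ _ g hg, map_mul, map_mul, map_mul, map_inv, map_inv, cΦ, cΦ, y6_t, y6_t, e, mul_inv_cancel, MulAut.one_apply]
    have := (relSPE_extAut_of_essential isPGroup_top hF hE).mem_of_conj_mem hT (autGroup_le_normalizer_inn F Q) hα (c t)
      (mt (cjAut_mem_inn_iff le_top (centralizerIn_le_of_isCentric hE.1) (mem_top _) _).1 ht)
      ((mul_mem_cancel_right (inv_mem (c t'))).1 (inn_le_autInducedBy le_top (mem_inn_iff.2 ⟨u, hu, k⟩)))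
    obtain ⟨g, hg, e'⟩ := ext_extAutQ hF this
    obtain ⟨β, hβ⟩ := exists_aut_top hg
    have q : y5 (1 : K) ∈ Q := rfl
    rw [show (e4 : W K) = pW (y5 1) from rfl, ← hΦ _ _ q, ← mem_V (autFun_mem _ q), ← e' q, hβ]
    exact (map_mem β _).2.1.2 ⟨rfl, rfl, rfl, rfl⟩
  · obtain ⟨f, f', hf, -, i, n⟩ := exists_move hF hE (X := sV) fun f hf h1 h2 => extQ hF (centric_of hF hE) hf h1 h2
    obtain ⟨x, hx, e⟩ := exists_XW hf i.maps
    refine ⟨x, hx, fun k => n fun y hy => (mem_V (i.maps _ (V_le hy))).2 ?_⟩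
    have b : ∀ a b, bW (x a) (x b) = 0 ↔ bW a b = 0 := fun a b => by
      rw [← pW_lW a, ← pW_lW b, ← e _ (lW_mem a), ← e _ (lW_mem b), bW_pW, bW_pW, b0 i (lW_mem a) (lW_mem b)]
    have w0 : (x e4).w ≠ 0 := fun w0 => by
      have : x e4 = 1 := W.ext k.1 k.2.1 k.2.2 w0
      simpa using congrArg W.w (x.injective (this.trans (map_one x).symm))
    have hy' := (mem_V (V_le hy)).1 hy
    have key : ∀ z : W K, z.u = 0 → bW z (x (pW y)) = 0 := fun z hz => by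
      have := (b (x⁻¹ z) e4).1 (by rw [MulAut.apply_inv_self, bV k, hz, zero_mul])
      rw [bV ⟨rfl, rfl, rfl⟩, e4_w, mul_one] at this
      rw [← MulAut.apply_inv_self _ x z, b, bV hy', this, zero_mul]
    rw [e _ (V_le hy)]
    exact ⟨by simpa [bW] using key e4 rfl, by simpa [bW, three] using key (e3 1) rfl, by simpa [bW, three] using key (e2 1) rfl⟩

/-- D3/QS with `lmain` -/
theorem ht_mem (hF : F.IsSaturated 2) (hS : Std F) (hE : F.IsEssential 2 Q) (hb : Hb F) : Ht F := by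
  intro a d k
  obtain ⟨t, a', d', ρ, k', m, e⟩ := std0 hF hS hE ((lmain (qd hF hS hE hb)).2 a d k) fun v hv =>
    ⟨by simp [hv.1], by simp [hv.2.1], by simp [hv.2.2]⟩
  obtain rfl : t = 0 := by simpa [k'.a0] using congrArg (fun α : MulAut (W K) => (α e1).s) e
  rw [tt_zero, one_mul] at e
  obtain ⟨rfl, rfl, rfl⟩ := dW_inj _ e
  exact m

/-- `kone`, `extQ` for `f` or `wa ∘ cj (y6 t) ∘ f` (D3/QS `point_cases`, D3/Real `le_of_gen`) -/
theorem genQ (hF : F.IsSaturated 2) (hS : Std F) (hE : F.IsEssential 2 Q) (hb : Hb F) (ha : Mor F Q wa) : GenQ F := by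
  intro f hf h1
  have hc := centric_of hF hE
  obtain ⟨x, hx, e⟩ := exists_XW hf h1
  rcases kone (qd hF hS hE hb) x hx with k | ⟨t, k⟩
  · exact .inl (extQ hF hc hf h1 fun y hy => (mem_V (h1 _ (V_le hy))).2 (e _ (V_le hy) ▸ k _ ((mem_V (V_le hy)).1 hy)))
  · have m : ∀ y ∈ Q, cj (y6 t) (f y) ∈ Q := fun y hy => (isoOn_cj (y6 t)).maps _ (h1 y hy)
    obtain ⟨g, hg, e'⟩ := extQ hF hc (f := wa ∘ (cj (y6 t) ∘ f)) (ha.comp (hf.cj_comp (s := y6 t) trivial) m) (fun _ _ => rfl) fun y hy => by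
      have := k _ ((mem_V (V_le hy)).1 hy)
      rw [← e _ (V_le hy), show t = (y6 t : U K).t from rfl, ← pW_cj _ (h1 _ (V_le hy))] at this
      exact ⟨neg_eq_zero.2 this.2.2, this.2.1, neg_eq_zero.2 this.1, rfl⟩
    exact .inr ⟨t, g, hg, e'⟩

end CL.G2F.Ev
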