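/-
S5211, `q = 2ⁿ ≥ 4`: `wa ∈ F` after conjugation by a central automorphism `eps c` (`c = 0` unless `q = 4`).
-/
import Cfsg.Agent.FUS.G2.EvQ

set_option autoImplicit false
set_option linter.unusedSimpArgs false
set_option linter.unusedSectionVars false

namespace CL.G2F.Ev

open CL.Fus CL.RF4 CL.D3 Subgroup Cfsg Cfsg.FusionSystem
open scoped commutatorElement

variable {K : Type*} [Field K] [Finite K] [CharP K 2] [NT K] {F F' : FusionSystem (⊤ : Subgroup (U K))} {g h : U K}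

open QE

namespace WW

theorem four_cases (h4 : Four K) {ω : K} (w0 : ω ≠ 0) (w1 : ω ≠ 1) (x : K) : x = 0 ∨ x = 1 ∨ x = ω ∨ x = ω + 1 := by
  have := h4 ω; have := h4 x
  grind

theorem add4 (h4 : Four K) (l : K → K) (hl : ∀ a b, l (a + b) = l a + l b) : ∃ α α', ∀ x, l x = α * x + α' * x ^ 2 := by
  obtain ⟨ω, w0, w1⟩ := NT.ex (K := K)
  have := h4 ω
  have l0 := hl 0 0
  have l1 := hl ω 1
  rw [add_zero] at l0
  refine ⟨l ω + l 1 * ω ^ 2, l ω + l 1 * ω, fun x => ?_⟩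
  rcases four_cases h4 w0 w1 x with rfl | rfl | rfl | rfl <;> grind

theorem cj_Q {u : U K} (hu : u ∈ Q) (hg : g ∈ Q) : cj u g = y3 (bf u g) * g := by
  rw [← br_Q hu hg, commutatorElement_def, inv_mul_cancel_right, cj]

theorem wa_dd {a d : K} (h : Ok a d) (h' : Ok (a * d ^ 3) d⁻¹) (g : U K) : wa (dd a d 1 h g) = dd (a * d ^ 3) d⁻¹ 1 h' (wa g) := by
  have n0 := h.d0
  gds
  and_intros <;> field_simp <;> ring

theorem rho_one (hF : F.IsSaturated 2) (h4 : Four K) {a d : K} {ρ : RingAut K} {k : Ok a d} (m : Mor F ⊤ (dd a d ρ k)) (x : K) :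
    ρ x = x := by
  by_contra n
  have w0 : x ≠ 0 := by rintro rfl; simp at n
  have w1 : x ≠ 1 := by rintro rfl; simp at n
  have e : ∀ y, ρ y = y ^ 2 := fun y => by
    have := h4 x
    have e : ρ x = x + 1 := by
      rcases four_cases h4 w0 w1 (ρ x) with e | e | e | e
      exacts [absurd ((map_eq_zero ρ).1 e) w0, absurd ((map_eq_one_iff ρ ρ.injective).1 e) w1, absurd e n, e]
    rcases four_cases h4 w0 w1 y with rfl | rfl | rfl | rfl <;> simp only [map_add, map_one, map_zero, e] <;> grind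
  have e2 : (⟨dd a d ρ k, ⟨_, _, _, _, rfl⟩, m⟩ : DF F) ^ 2 = 1 := Subtype.ext (by
    have := h4 a; have := h4 d; have := k.a0; have := k.d0
    rw [pow_two, MulMemClass.coe_mul, dd_mul, OneMemClass.coe_one, ← dd_one ok_one]
    exact dd_congr _ _ (by rw [e]; grind) (by rw [e]; grind) (RingEquiv.ext fun y => by
      have := h4 y
      rw [RingAut.mul_apply, e, e, RingAut.one_apply]; grind))
  have e3 := congrArg Subtype.val (orderOf_eq_one_iff.1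
    (Nat.eq_one_of_dvd_coprimes (coprime_DF hF) (orderOf_dvd_natCard _) (orderOf_dvd_of_pow_eq_one e2)))
  have k1 : ∀ t, d * ρ t = t := fun t => congrArg (fun α : MulAut (U K) => (α (y6 t)).t) e3
  exact n (by simpa [show d = 1 by simpa using k1 1] using k1 x)

end WW

open WW

theorem std_eps (hF : F.IsSaturated 2) (hS : Std F) {c : K} (h4 : c ≠ 0 → Four K) (h : Corr (eps c) (eps c).symm F F') : Std F' := by
  intro f hf
  obtain ⟨x, a, d, ρ, k, m, e⟩ := dd_mem hS ((mor_corr h).2.2 hf)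
  refine ⟨eps c x, a, d, ρ, k, fun g => ?_⟩
  have := congrArg (eps c) (e (epsf c g))
  simp only [Function.comp, eps_symm, eps_apply, epsf_epsf] at this
  rw [this, ← eps_apply, cj, map_mul, map_mul, map_inv, cj]
  congr 2
  refine U.ext rfl rfl ?_ rfl rfl rfl
  simp only [eps_apply, epsf_v, epsf_u, dd_v, dd_u]
  by_cases c0 : c = 0
  · simp [c0]
  have := h4 c0 d; have := k.d0
  simp only [rho_one hF (h4 c0) m]; grind

theorem wa_mem (hF : F.IsSaturated 2) (hS : Std F) (hE : F.IsEssential 2 Q) (hb : Hb F) :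
    ∃ c, (c ≠ 0 → Four K) ∧ Mor F Q (eps c ∘ wa ∘ eps c) := by
  have ht := ht_mem hF hS hE hb
  obtain ⟨n, hn, n1, n2⟩ := (lmain (qd hF hS hE hb)).1
  obtain ⟨n', hn', i⟩ := exists_isoOn hn n1
  have iε := i.trans isoOn_wa.symm
  obtain ⟨ε, hε⟩ : ∃ ε, ε = wa' ∘ n := ⟨_, rfl⟩
  rw [← hε] at iε
  have nε : ∀ g ∈ Q, n g = wa (ε g) := fun g hg => by rw [hε, Function.comp, isoOn_wa.right _ (n1 g hg)]
  have pε : ∀ g ∈ Q, pW (ε g) = pW g := fun g hg => aW.injective (by rw [← pW_wa, ← nε g hg, n2 g hg])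
  obtain ⟨χ, hχ⟩ : ∃ χ : U K → K, ∀ g, (ε g).v = g.v + χ g := ⟨fun g => (ε g).v - g.v, fun g => by ring⟩
  have eε : ∀ g ∈ Q, ε g = ⟨g.u, g.s, g.v + χ g, g.r, g.w, 0⟩ := fun g hg =>
    U.ext (congrArg W.u (pε g hg)) (congrArg W.s (pε g hg)) (hχ g) (congrArg W.r (pε g hg)) (congrArg W.w (pε g hg)) (iε.maps g hg)
  have add : ∀ g ∈ Q, ∀ h ∈ Q, χ (g * h) = χ g + χ h := fun g hg h hh => by
    have := congrArg U.v (iε.map_mul hg hh)
    rw [hχ, eε g hg, eε h hh] at this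
    simp only [U.mul_v, mem_Q.1 hg] at this
    linear_combination this
  have χZ : ∀ g ∈ sZ, χ g = 0 := fun g hg => by have := hχ g; rw [fixZ iε.hom iε.maps pε hg] at this; simpa using this
  have key : ∀ a d (k : Ok a d), ∃ u ∈ Q, ∀ g ∈ Q, χ (dd a d 1 k g) = a ^ 2 * d ^ 3 * (χ g + bf u g) := fun a d k => by
    have k' : Ok (a * d ^ 3) d⁻¹ := ⟨by simp [k.a0, k.d0], by simp [k.d0]⟩
    have m1 := (ht a d k).mono (Q := Q) le_top
    obtain ⟨δ', m2, j⟩ := exists_isoOn ((ht _ _ k').mono (Q := Q) le_top) fun _ => dd_Q k'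
    have q1 : ∀ g ∈ Q, n (dd a d 1 k g) ∈ Q := fun g hg => n1 _ (dd_Q k hg)
    have q2 : ∀ g ∈ Q, δ' (n (dd a d 1 k g)) ∈ Q := fun g hg => j.maps' _ (q1 g hg)
    have q3 : ∀ g ∈ Q, n' (δ' (n (dd a d 1 k g))) ∈ Q := fun g hg => i.maps' _ (q2 g hg)
    have rel : ∀ g ∈ Q, dd a d 1 k (ε (n' (δ' (n (dd a d 1 k g))))) = ε (dd a d 1 k g) := fun g hg =>
      isoOn_wa.injOn (dd_Q k (iε.maps _ (q3 g hg))) (iε.maps _ (dd_Q k hg)) (by
        rw [wa_dd k k', ← nε _ (q3 g hg), i.right _ (q2 g hg), j.right _ (q1 g hg), nε _ (dd_Q k hg)])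
    obtain ⟨u, hu, e'⟩ := inner_of_triv hF hE (hn'.comp (m2.comp (hn.comp m1 fun _ => dd_Q k) q1) q2) q3 fun g hg =>
      (dW a d 1 k).injective (by
        have := congrArg pW (rel g hg)
        rwa [pW_dd, pε _ (q3 g hg), pε _ (dd_Q k hg), pW_dd] at this)
    refine ⟨u, hu, fun g hg => ?_⟩
    have := congrArg U.v (rel g hg)
    rw [show n' (δ' (n (dd a d 1 k g))) = cj u g from e' g hg, cj_Q hu hg] at this
    simp only [dd_v, hχ, RingAut.one_apply, add _ (show y3 (bf u g) ∈ Q from rfl) g hg,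
      χZ _ (show y3 (bf u g) ∈ sZ from ⟨rfl, rfl, rfl, rfl, rfl⟩)] at this
    gus at this
    linear_combination -this
  have lin : ∀ (Y : K → U K) a d (k : Ok a d), a ^ 2 * d ^ 3 ≠ 1 → (∀ c, Y c ∈ Q) → (∀ c, dd a d 1 k (Y c) = Y c) →
      (∀ u c, bf u (Y c) = bf u (Y 1) * c) → ∃ α, ∀ c, χ (Y c) = α * c := fun Y a d k n q e l => by
    obtain ⟨u, -, e'⟩ := key a d k
    refine ⟨a ^ 2 * d ^ 3 * bf u (Y 1) / (1 - a ^ 2 * d ^ 3), fun c => ?_⟩
    have := e' _ (q c)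
    rw [e, l] at this
    grind
  obtain ⟨ω, w0, w1⟩ := NT.ex (K := K)
  obtain ⟨r₁, c2⟩ := lin y2 ω⁻¹ ω ⟨by simp [w0], w0⟩ (by grind) (fun _ => rfl) (fun c => by gds; simp [w0]) fun u c => by simp [bf]; ring
  obtain ⟨s₁, c4⟩ := lin y4 (ω ^ 2)⁻¹ ω ⟨by simp [w0], w0⟩ (by grind) (fun _ => rfl) (fun c => by gds; simp [w0])
    fun u c => by simp [bf]; ring
  obtain ⟨w₁, c, u₁, c', h4, c1, c5⟩ : ∃ w₁ c u₁ c', (c ≠ 0 → Four K) ∧ (∀ x, χ (y1 x) = w₁ * x + c * x ^ 2) ∧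
      ∀ x, χ (y5 x) = u₁ * x + c' * x ^ 2 := by
    by_cases h4 : Four K
    · obtain ⟨a, b, e⟩ := add4 h4 (fun x => χ (y1 x)) fun a b => by rw [← add _ rfl _ rfl]; congr 1; gus
      obtain ⟨a', b', e'⟩ := add4 h4 (fun x => χ (y5 x)) fun a b => by rw [← add _ rfl _ rfl]; congr 1; gus
      exact ⟨a, b, a', b', fun _ => h4, e, e'⟩
    obtain ⟨t, ht⟩ := not_forall.1 h4
    have t0 : t ≠ 0 := by grind
    obtain ⟨a, e⟩ := lin y1 1 t ⟨one_ne_zero, t0⟩ (by grind) (fun _ => rfl) (fun c => by gds; simp) fun u c => by simp [bf]; ring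
    obtain ⟨a', e'⟩ := lin y5 (t ^ 3)⁻¹ t ⟨by simp [t0], t0⟩ (by grind) (fun _ => rfl) (fun c => by gds; simp [t0])
      fun u c => by simp [bf]
    exact ⟨a, 0, a', 0, fun k => absurd rfl k, by simpa using e, by simpa using e'⟩
  have full : ∀ g ∈ Q, χ g = χ (y1 g.u) + χ (y2 g.s) + χ (y4 g.r) + χ (y5 g.w) := fun g q => by
    conv_lhs => rw [eq_prod g]
    have m1 : y1 g.u ∈ Q := rfl
    have m2 := mul_mem m1 (show y2 g.s ∈ Q from rfl)
    have m3 := mul_mem m2 (show y3 g.v ∈ Q from rfl)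
    have m4 := mul_mem m3 (show y4 g.r ∈ Q from rfl)
    rw [add _ (mul_mem m4 (show y5 g.w ∈ Q from rfl)) (y6 g.t) q, add _ m4 (y5 _) rfl, add _ m3 (y4 _) rfl, add _ m2 (y3 _) rfl,
      add _ m1 (y2 _) rfl, χZ (y3 _) ⟨rfl, rfl, rfl, rfl, rfl⟩, χZ (y6 _) ⟨rfl, rfl, rfl, rfl, q⟩]
    ring
  obtain rfl : c = c' := by
    obtain ⟨u, hu, e⟩ := inner_of_triv hF hE (hn.comp hn n1) (fun g hg => n1 _ (n1 g hg)) fun g hg => by
      rw [Function.comp, n2 _ (n1 g hg), n2 g hg]; ext <;> simp <;> grind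
    have := (quad0 (a := w₁ + u₁ + u.w) (b := c + c') fun x => by
      have := congrArg U.v (e (y1 x) rfl)
      rw [Function.comp, nε (y1 x) rfl, eε (y1 x) rfl, nε _ rfl, eε _ rfl, full (wa _) rfl, cj_Q hu rfl, c1, c1, c2, c4, c5] at this
      simp only [bf] at this
      gds at this
      grind).2
    grind
  have uQ : (⟨u₁, s₁, 0, r₁, w₁, 0⟩ : U K) ∈ Q := rfl
  refine ⟨c, h4, (hn.comp (mor_cj' F Q _) fun g hg => (isoOn_cj ⟨u₁, s₁, 0, r₁, w₁, 0⟩).maps' g hg).congr fun g hg => ?_⟩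
  have q := (isoOn_cj (P := Q) ⟨u₁, s₁, 0, r₁, w₁, 0⟩).maps' g hg
  rw [Function.comp, nε _ q]
  conv_rhs => rw [← cj_cj_inv ⟨u₁, s₁, 0, r₁, w₁, 0⟩ g]
  generalize cj _⁻¹ g = g at q
  rw [cj_Q uQ q, eε g q, full g q, c1, c2, c4, c5]
  simp only [Function.comp, eps_apply, bf, U.ext_iff, epsf_u, epsf_s, epsf_v, epsf_r, epsf_w, epsf_t, wa_u, wa_s, wa_v, wa_r, wa_w, wa_t]
  gus
  grind

end CL.G2F.Ev
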