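/-
S5211, `q = 5`: matrices, words and orbit colourings on `W (ZMod 5)`.
-/
import Cfsg.Agent.FUS.G2.Lin

set_option autoImplicit false
set_option linter.unusedSimpArgs false
set_option linter.unusedSectionVars false

namespace CL.G2F.F5

open CL.Fus Subgroup

instance fact5 : Fact (Nat.Prime 5) := ⟨by norm_num⟩

/-- the module -/
abbrev W5 := W (ZMod 5)

instance : DecidableEq W5 := fun a b => decidable_of_iff (a.u = b.u ∧ a.s = b.s ∧ a.r = b.r ∧ a.w = b.w) W.ext_iff.symm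

/-- a matrix, given by the images of `e1`, `e2 1`, `e3 1`, `e4` -/
structure Mt where
  a : W5
  b : W5
  c : W5
  d : W5

/-- the action -/
def Mt.ap (m : Mt) (v : W5) : W5 :=
  ⟨v.u * m.a.u + v.s * m.b.u + v.r * m.c.u + v.w * m.d.u, v.u * m.a.s + v.s * m.b.s + v.r * m.c.s + v.w * m.d.s,
    v.u * m.a.r + v.s * m.b.r + v.r * m.c.r + v.w * m.d.r, v.u * m.a.w + v.s * m.b.w + v.r * m.c.w + v.w * m.d.w⟩

/-- the matrix of an automorphism -/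
def mat (g : MulAut W5) : Mt := ⟨g e1, g (e2 1), g (e3 1), g e4⟩

theorem sm_nat (n : ℕ) (v : W5) : sm (n : ZMod 5) v = v ^ n := by
  induction n with
  | zero => ext <;> simp
  | succ n ih => rw [pow_succ, ← ih]; ext <;> simp [add_mul]

theorem map_sm (g : MulAut W5) (c : ZMod 5) (v : W5) : g (sm c v) = sm c (g v) := by
  rw [← ZMod.natCast_zmod_val c, sm_nat, sm_nat, map_pow]

theorem ap_mat (g : MulAut W5) (v : W5) : (mat g).ap v = g v := by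
  have : v = sm v.u e1 * sm v.s (e2 1) * sm v.r (e3 1) * sm v.w e4 := by ext <;> simp
  conv_rhs => rw [this]
  simp only [map_mul, map_sm]
  ext <;> simp [Mt.ap, mat]

/-- automorphisms are determined by the images of the basis -/
theorem rep_of {g : MulAut W5} {m : Mt} (h1 : g e1 = m.a) (h2 : g (e2 1) = m.b) (h3 : g (e3 1) = m.c) (h4 : g e4 = m.d) (v : W5) :
    g v = m.ap v := by
  rw [← ap_mat, mat, h1, h2, h3, h4]

/-- `X` has an element with matrix `m` -/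
def In (X : Subgroup (MulAut W5)) (m : Mt) : Prop := ∃ g ∈ X, ∀ v, g v = m.ap v

/-- the group generated by matrices -/
def Y (l : List Mt) : Subgroup (MulAut W5) := closure {g | ∃ m ∈ l, ∀ v, g v = m.ap v}

variable {X : Subgroup (MulAut W5)} {l : List Mt}

theorem Y_le (hl : ∀ m ∈ l, In X m) : Y l ≤ X := (closure_le _).2 fun g ⟨m, hm, e⟩ => by
  obtain ⟨g', h, e'⟩ := hl m hm
  rwa [show g = g' from MulEquiv.ext fun v => (e v).trans (e' v).symm]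

theorem In_Y (hl : ∀ m ∈ l, In X m) : ∀ m ∈ l, In (Y l) m := fun m hm =>
  let ⟨g, _, e⟩ := hl m hm
  ⟨g, subset_closure ⟨m, hm, e⟩, e⟩

theorem In.mono {X' : Subgroup (MulAut W5)} {m : Mt} (h : In X m) (k : X ≤ X') : In X' m := let ⟨g, a, b⟩ := h; ⟨g, k a, b⟩

theorem In.mem {m : Mt} (h : In X m) {g : MulAut W5} (e : ∀ v, g v = m.ap v) : g ∈ X := by
  obtain ⟨g', h, e'⟩ := h
  rwa [show g = g' from MulEquiv.ext fun v => (e v).trans (e' v).symm]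

/-- the identity -/
def m1 : Mt := ⟨⟨1, 0, 0, 0⟩, ⟨0, 1, 0, 0⟩, ⟨0, 0, 1, 0⟩, ⟨0, 0, 0, 1⟩⟩

/-- the action of a word (the last letter acts first) -/
def wd (l : List Mt) (w : List ℕ) (v : W5) : W5 := w.foldr (fun j u => (l.getD j m1).ap u) v

theorem In_getD (hl : ∀ m ∈ l, In X m) (j : ℕ) : In X (l.getD j m1) := by
  rcases lt_or_ge j l.length with h | h
  · rw [List.getD_eq_getElem _ _ h]; exact hl _ (List.getElem_mem h)
  · rw [List.getD_eq_default _ _ h]; exact ⟨1, one_mem _, fun v => by ext <;> simp [Mt.ap, m1]⟩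

theorem exists_wd (hl : ∀ m ∈ l, In X m) (w : List ℕ) : ∃ g ∈ X, ∀ v, g v = wd l w v := by
  induction w with
  | nil => exact ⟨1, one_mem _, fun _ => rfl⟩
  | cons j w ih =>
    obtain ⟨g, h, e⟩ := ih
    obtain ⟨g', h', e'⟩ := In_getD hl j
    exact ⟨g' * g, mul_mem h' h, fun v => by rw [MulAut.mul_apply, e, e']; rfl⟩

/-- a word with matrix `m` -/
theorem In_of_wd (hl : ∀ m ∈ l, In X m) (w : List ℕ) {m : Mt}
    (h : wd l w e1 = m.a ∧ wd l w (e2 1) = m.b ∧ wd l w (e3 1) = m.c ∧ wd l w e4 = m.d) : In X m :=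
  let ⟨g, k, e⟩ := exists_wd hl w
  ⟨g, k, rep_of ((e _).trans h.1) ((e _).trans h.2.1) ((e _).trans h.2.2.1) ((e _).trans h.2.2.2)⟩

theorem ok21 : Ok (2 : ZMod 5) 1 := ⟨by decide, by decide⟩
theorem ok43 : Ok (4 : ZMod 5) 3 := ⟨by decide, by decide⟩

/-- the scalar 2 -/
def zz : MulAut W5 := dW 2 1 1 ok21
/-- `h_b(2)` -/
def hh : MulAut W5 := dW 4 3 1 ok43

/-- `tt 1` -/
def mx : Mt := ⟨⟨1, 1, 1, 1⟩, ⟨0, 1, 2, 3⟩, ⟨0, 0, 1, 3⟩, ⟨0, 0, 0, 1⟩⟩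
/-- `hh` -/
def mh : Mt := ⟨⟨4, 0, 0, 0⟩, ⟨0, 2, 0, 0⟩, ⟨0, 0, 1, 0⟩, ⟨0, 0, 0, 3⟩⟩
/-- `zz` -/
def mz : Mt := ⟨⟨2, 0, 0, 0⟩, ⟨0, 2, 0, 0⟩, ⟨0, 0, 2, 0⟩, ⟨0, 0, 0, 2⟩⟩
/-- `G₂(5)` -/
def yG : Mt := ⟨⟨1, 0, 0, 0⟩, ⟨1, 1, 0, 0⟩, ⟨2, 4, 1, 0⟩, ⟨3, 4, 2, 1⟩⟩
/-- `HN` -/
def yE : Mt := ⟨⟨1, 2, 0, 0⟩, ⟨0, 1, 0, 0⟩, ⟨1, 4, 1, 1⟩, ⟨2, 2, 0, 1⟩⟩
/-- `Ly` -/
def yS : Mt := ⟨⟨1, 4, 0, 0⟩, ⟨0, 1, 0, 0⟩, ⟨2, 1, 1, 2⟩, ⟨2, 4, 0, 1⟩⟩
/-- `B` -/
def yB : Mt := ⟨⟨1, 0, 0, 0⟩, ⟨1, 1, 0, 0⟩, ⟨4, 3, 1, 0⟩, ⟨1, 3, 2, 1⟩⟩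
/-- `5³ · L₃(5)` -/
def yR : Mt := ⟨⟨1, 0, 1, 1⟩, ⟨1, 1, 2, 3⟩, ⟨0, 0, 1, 0⟩, ⟨0, 0, 2, 1⟩⟩

theorem tt_ap (v : W5) : tt 1 v = mx.ap v := rep_of (by decide) (by decide) (by decide) (by decide) v
theorem hh_ap (v : W5) : hh v = mh.ap v := rep_of (by ext <;> simp [hh, mh]) (by ext <;> simp [hh, mh]; decide)
  (by ext <;> simp [hh, mh]; decide) (by ext <;> simp [hh, mh]; decide) v
theorem zz_ap (v : W5) : zz v = mz.ap v := rep_of (by ext <;> simp [zz, mz]) (by ext <;> simp [zz, mz])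
  (by ext <;> simp [zz, mz]) (by ext <;> simp [zz, mz]) v
theorem zz_sm (v : W5) : zz v = sm 2 v := by ext <;> simp [zz]

/-- the hypotheses on `X` -/
structure H5 (X : Subgroup (MulAut W5)) : Prop where
  sim : ∀ g ∈ X, ∃ ζ : ZMod 5 → ZMod 5, ∀ a b, bW (g a) (g b) = ζ (bW a b)
  std : ∀ g ∈ X, g e4 ∈ VW → ∃ t a d k, g = tt t * dW a d 1 k
  x : tt 1 ∈ X
  h : hh ∈ X

/-- `X` contains the scalars -/
structure H6 (X : Subgroup (MulAut W5)) : Prop extends H5 X where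
  z : zz ∈ X

theorem H6.gens (h : H6 X) {l : List Mt} (hl : ∀ m ∈ l, In X m) : ∀ m ∈ mx :: mh :: mz :: l, In X m := by
  simp only [List.forall_mem_cons]
  exact ⟨⟨_, h.x, tt_ap⟩, ⟨_, h.h, hh_ap⟩, ⟨_, h.z, zz_ap⟩, hl⟩

/-- the orbit of `e4` -/
def Om (X : Subgroup (MulAut W5)) (v : W5) : Prop := ∃ g ∈ X, g v = e4

theorem Om_e4 : Om X e4 := ⟨1, one_mem _, rfl⟩
theorem Om.ne {v : W5} (h : Om X v) : v ≠ 1 := by
  rintro rfl
  obtain ⟨g, -, e⟩ := h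
  exact absurd (congrArg W.w ((map_one g).symm.trans e)) (by decide)
theorem Om_iff {g : MulAut W5} (hg : g ∈ X) {v : W5} : Om X (g v) ↔ Om X v :=
  ⟨fun ⟨k, h, e⟩ => ⟨k * g, mul_mem h hg, e⟩, fun ⟨k, h, e⟩ => ⟨k * g⁻¹, mul_mem h (inv_mem hg), by simpa using e⟩⟩

/-- `m` is the matrix of a conjugate of some `tt t` -/
def Cj (X : Subgroup (MulAut W5)) (m : Mt) : Prop := ∃ g ∈ X, ∃ t, ∀ v, (g * tt t * g⁻¹ : MulAut W5) v = m.ap v

theorem H5.tt_mem (h : H5 X) (t : ZMod 5) : tt t ∈ X := by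
  have := pow_mem h.x t.val
  rwa [tt_pow, ZMod.natCast_zmod_val, mul_one] at this

theorem H5.In_of_Cj (h : H5 X) {m : Mt} (k : Cj X m) : In X m :=
  let ⟨_, a, t, e⟩ := k
  ⟨_, mul_mem (mul_mem a (h.tt_mem t)) (inv_mem a), e⟩

/-- the vector with number `n` -/
def dec (n : ℕ) : W5 := ⟨(n : ZMod 5), ((n / 5 : ℕ) : ZMod 5), ((n / 25 : ℕ) : ZMod 5), ((n / 125 : ℕ) : ZMod 5)⟩
/-- the number of a vector -/
def enc (v : W5) : ℕ := v.u.val + 5 * v.s.val + 25 * v.r.val + 125 * v.w.val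

/-- the entry of the table `T`: generator `+ 4 *` colour `+ 64 *` rank -/
def tb (T : ℕ) (v : W5) : ℕ := T >>> (11 * enc v) % 2048
/-- the colour -/
def col (T : ℕ) (v : W5) : ℕ := tb T v / 4 % 16

/-- every vector `≠ 0` is the representative of its colour or is mapped by a generator to a vector of the same colour and smaller rank -/
def Chk (l : List Mt) (T : ℕ) (r : List W5) : Prop := ∀ n < 625, n ≠ 0 → col T (dec n) < r.length ∧ (r.getD (col T (dec n)) 1 = dec n ∨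
  (tb T ((l.getD (tb T (dec n) % 4) m1).ap (dec n)) / 64 < tb T (dec n) / 64 ∧ col T ((l.getD (tb T (dec n) % 4) m1).ap (dec n)) = col T (dec n)))

instance (l : List Mt) (T : ℕ) (r : List W5) : Decidable (Chk l T r) := by unfold Chk; infer_instance

/-- the number of vectors `≠ 0` of colour `i` -/
def sz (T i : ℕ) : ℕ := ((List.range 625).filter fun n => n ≠ 0 ∧ col T (dec n) = i).length

/-- the words `s₁`, `s₂` fix `r` and violate the law `(s₁ s₂ s₁³ s₂³)⁵ = 1` of the Frobenius group of order 20 -/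
def Bad (l : List Mt) (r : W5) (s₁ s₂ : List ℕ) : Prop := wd l s₁ r = r ∧ wd l s₂ r = r ∧
  (wd l (s₁ ++ s₂ ++ s₁ ++ s₁ ++ s₁ ++ s₂ ++ s₂ ++ s₂))^[5] e1 ≠ e1

instance (l : List Mt) (r : W5) (s₁ s₂ : List ℕ) : Decidable (Bad l r s₁ s₂) := by unfold Bad; infer_instance

/-- the word `w` fixes the point `VW` and is not of the form `tt t * dW a d` -/
def Bad0 (l : List Mt) (w : List ℕ) : Prop := (wd l w e4).u = 0 ∧ (wd l w e4).s = 0 ∧ (wd l w e4).r = 0 ∧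
  (wd l w e1).u * (wd l w e1).r ≠ (wd l w e1).s ^ 2

instance (l : List Mt) (w : List ℕ) : Decidable (Bad0 l w) := by unfold Bad0; infer_instance

theorem H5.not_bad0 (h : H5 X) (hl : ∀ m ∈ l, In X m) (w : List ℕ) : ¬ Bad0 l w := by
  obtain ⟨g, hg, e⟩ := exists_wd hl w
  simp only [Bad0, ← e]
  rintro ⟨a, b, c, k⟩
  obtain ⟨t, a, d, o, rfl⟩ := h.std g hg ⟨a, b, c⟩
  exact k (by simp; ring)

end CL.G2F.F5
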