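/-
S5211, `q = 5`: orbit colourings and the order of `X`.
-/
import Cfsg.Agent.FUS.G2.F5D

set_option autoImplicit false
set_option linter.unusedSimpArgs false
set_option linter.unusedSectionVars false

namespace CL.G2F.F5

open CL.Fus Subgroup

variable {X : Subgroup (MulAut W5)} {l : List Mt} {T : ℕ} {r : List W5}

/-- `ZMod.val_lt`, `ZMod.natCast_zmod_val`, `omega` for the digits (or `decide` on the four coordinates) -/
theorem dec_enc (v : W5) : enc v < 625 ∧ dec (enc v) = v := by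
  obtain ⟨u, s, r, w⟩ := v
  revert u s r w
  decide +kernel
/-- `decide +kernel` -/
theorem enc_dec : ∀ n < 625, enc (dec n) = n := by decide +kernel

/-- Strong induction on the rank `tb T v / 64`, `v = dec (enc v)`, `enc v ≠ 0` (`dec 0 = 1`); `In_getD`; `g v ≠ 1` as `g` is injective. -/
theorem color (c : Chk l T r) (hl : ∀ m ∈ l, In X m) {v : W5} (hv : v ≠ 1) :
    col T v < r.length ∧ ∃ g ∈ X, g v = r.getD (col T v) 1 := by
  have key : ∀ n, ∀ v : W5, v ≠ 1 → tb T v / 64 = n → col T v < r.length ∧ ∃ g ∈ X, g v = r.getD (col T v) 1 := by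
    intro n
    induction n using Nat.strong_induction_on with
    | _ n ih =>
      intro v hv e
      have h0 : enc v ≠ 0 := fun h => hv (by rw [← (dec_enc v).2, h]; decide)
      have h1 := c (enc v) (dec_enc v).1 h0
      rw [(dec_enc v).2] at h1
      refine ⟨h1.1, ?_⟩
      rcases h1.2 with h | ⟨h, h'⟩
      · exact ⟨1, one_mem _, h.symm⟩
      · obtain ⟨g, hg, eg⟩ := In_getD hl (tb T v % 4)
        rw [← eg] at h h'
        obtain ⟨-, k, hk, ek⟩ := ih _ (e ▸ h) (g v) (by simpa using hv) rfl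
        exact ⟨k * g, mul_mem hk hg, by rw [MulAut.mul_apply, ek, h']⟩
  exact key _ v hv rfl

/-- `color`, `Om_iff` -/
theorem Om_col (c : Chk l T r) (hl : ∀ m ∈ l, In X m) {v : W5} (hv : v ≠ 1) : Om X v ↔ Om X (r.getD (col T v) 1) := by
  obtain ⟨-, g, hg, e⟩ := color c hl hv
  rw [← e, Om_iff hg]

/-- `dec`, `enc` are inverse bijections `Finset.range 625 ↔ W5` -/
theorem card_col (T i : ℕ) : Nat.card {v : W5 // v ≠ 1 ∧ col T v = i} = sz T i := by
  have : sz T i = ((Finset.range 625).filter fun n => n ≠ 0 ∧ col T (dec n) = i).card := rfl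
  rw [this, ← Fintype.card_coe, ← Nat.card_eq_fintype_card]
  refine Nat.card_congr ⟨fun v => ⟨enc v.1, ?_⟩, fun n => ⟨dec n.1, ?_⟩, fun v => Subtype.ext (dec_enc _).2, fun n => Subtype.ext (enc_dec _ ?_)⟩
  · rw [Finset.mem_filter, Finset.mem_range, (dec_enc _).2]
    exact ⟨(dec_enc _).1, fun h => v.2.1 (by rw [← (dec_enc v.1).2, h]; decide), v.2.2⟩
  · obtain ⟨h1, h2, h3⟩ := Finset.mem_filter.1 n.2
    refine ⟨fun h => h2 ?_, h3⟩
    rw [← enc_dec _ (Finset.mem_range.1 h1), h]; rfl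
  · exact Finset.mem_range.1 (Finset.mem_filter.1 n.2).1

open Classical in
/-- `Om_col`, `Om.ne`, `card_col`; count the fibres of `col T` (`Finset.card_eq_sum_card_fiberwise`, or `Nat.card_sigma`) -/
theorem card_Om (c : Chk l T r) (hl : ∀ m ∈ l, In X m) :
    Nat.card {v : W5 // Om X v} = ∑ i ∈ Finset.range r.length, if Om X (r.getD i 1) then sz T i else 0 := by
  have := Fintype.ofFinite W5
  rw [Nat.subtype_card (Finset.univ.filter (Om X)) (by simp),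
    Finset.card_eq_sum_card_fiberwise (f := col T) (t := Finset.range r.length)
      (fun v hv => Finset.mem_coe.2 (Finset.mem_range.2 (color c hl (Om.ne (by simpa using hv))).1))]
  refine Finset.sum_congr rfl fun i _ => ?_
  split_ifs with h
  · rw [← card_col, Nat.subtype_card]
    intro v
    simp only [Finset.mem_filter, Finset.mem_univ, true_and]
    exact ⟨fun k => ⟨k.1.ne, k.2⟩, fun k => ⟨(Om_col c hl k.1).2 (k.2 ▸ h), k.2⟩⟩
  · rw [Finset.card_eq_zero, Finset.filter_eq_empty_iff]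
    intro v hv e
    have hv' : Om X v := by simpa using hv
    exact h (e ▸ (Om_col c hl hv'.ne).1 hv')

theorem dW_pw {a d : ZMod 5} (k : Ok a d) (n : ℕ) : ∃ k', dW a d 1 k ^ n = dW (a ^ n) (d ^ n) 1 k' := by
  refine ⟨⟨pow_ne_zero _ k.a0, pow_ne_zero _ k.d0⟩, ?_⟩
  induction n with
  | zero => exact (pow_zero _).trans ((dW_one ⟨one_ne_zero, one_ne_zero⟩).symm.trans (dW_congr _ _ (pow_zero _).symm (pow_zero _).symm rfl))
  | succ n ih => rw [pow_succ, ih, dW_mul]; exact dW_congr _ _ (pow_succ _ _).symm (pow_succ _ _).symm (mul_one _)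

/-- `dW a d = hh ^ i * zz ^ j` (`dW_mul`, `dW_congr`; `3` and `2` generate the units; or: 16 cases, `MulEquiv.ext`, coordinates) -/
theorem dW_mem (h1 : hh ∈ X) (h2 : zz ∈ X) {a d : ZMod 5} (k : Ok a d) : dW a d 1 k ∈ X := by
  obtain ⟨i, j, e1, e2⟩ : ∃ i j : Fin 4, a = 4 ^ i.1 * 2 ^ j.1 ∧ d = 3 ^ i.1 * 1 ^ j.1 := by
    have := k.a0
    have := k.d0
    clear k
    revert a d
    decide
  have := mul_mem (pow_mem h1 i.1) (pow_mem h2 j.1)
  obtain ⟨k1, e3⟩ := dW_pw ok43 i.1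
  obtain ⟨k2, e4⟩ := dW_pw ok21 j.1
  rw [hh, zz, e3, e4, dW_mul] at this
  exact dW_congr _ k e1.symm e2.symm (mul_one _) ▸ this

/-- `std`: `g = tt t * dW a d`, `a d³ = 1`, so `a = d` (`d⁴ = 1`) -/
theorem H5.stab (h : H5 X) {g : MulAut W5} (hg : g ∈ X) (e : g e4 = e4) : ∃ t d k, g = tt t * dW d d 1 k := by
  obtain ⟨t, a, d, k, rfl⟩ := h.std g hg (by rw [e]; exact ⟨rfl, rfl, rfl⟩)
  have e' : a * d ^ 3 = 1 := by simpa using congrArg W.w e
  have : a = d := by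
    clear e hg k
    revert a d
    decide
  subst this
  exact ⟨t, a, k, rfl⟩

/-- `MulAction.card_orbit_mul_card_stabilizer_eq_card_group X e4` (or `index_stabilizer`); the orbit is `{v | Om X v}`; the stabiliser is in bijection with
the pairs `(t, d)`, `d ≠ 0` (`H5.stab`, `tt_mem`, `dW_mem`; injective: apply to `e1`: `(d, d t, _, _)`) -/
theorem H6.card (h : H6 X) : Nat.card X = 20 * Nat.card {v : W5 // Om X v} := by
  have e1' : Nat.card (MulAction.orbit X (e4 : W5)) = Nat.card {v : W5 // Om X v} :=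
    Nat.card_congr (Equiv.subtypeEquivRight fun v => ⟨fun ⟨g, e⟩ => ⟨g.1⁻¹, inv_mem g.2, by rw [← e]; exact MulAut.inv_apply_self _ _ _⟩,
      fun ⟨g, hg, e⟩ => ⟨⟨g⁻¹, inv_mem hg⟩, by rw [← e]; exact MulAut.inv_apply_self _ _ _⟩⟩)
  have e2' : Nat.card (MulAction.stabilizer X (e4 : W5)) = 20 := by
    have c : Nat.card (ZMod 5 × {d : ZMod 5 // d ≠ 0}) = 20 := by rw [Nat.card_eq_fintype_card]; rfl
    rw [← c]
    symm
    refine Nat.card_eq_of_bijective (fun p => ⟨⟨tt p.1 * dW p.2.1 p.2.1 1 ⟨p.2.2, p.2.2⟩, mul_mem (h.tt_mem _) (dW_mem h.h h.z _)⟩, ?_⟩) ⟨?_, ?_⟩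
    · have k : p.2.1 * p.2.1 ^ 3 = 1 := by
        have := p.2.2
        generalize p.2.1 = d at this
        revert d
        decide
      show (tt p.1 * dW p.2.1 p.2.1 1 ⟨p.2.2, p.2.2⟩ : MulAut W5) e4 = e4
      ext <;> simp [k]
    · rintro ⟨t, d, hd⟩ ⟨t', d', hd'⟩ e
      have e' := congrArg (fun g : MulAction.stabilizer X (e4 : W5) => g.1.1 e1) e
      have k1 : d = d' := by simpa using congrArg W.u e'
      subst k1
      have k2 : t = t' := by simpa [hd] using congrArg W.s e'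
      subst k2
      rfl
    · rintro ⟨⟨g, hg⟩, e⟩
      obtain ⟨t, d, k, rfl⟩ := h.stab hg e
      exact ⟨⟨t, d, k.d0⟩, rfl⟩
  rw [← e1', ← e2', Nat.card_coe_set_eq, ← MulAction.index_stabilizer, card_mul_index]

theorem wd_append (s s' : List ℕ) (v : W5) : wd l (s ++ s') v = wd l s (wd l s' v) := List.foldr_append

/-- `g = tt t * dW d d` -/
def Pd (d : ZMod 5) (g : MulAut W5) : Prop := ∃ t k, g = tt t * dW d d 1 k

theorem Pd.mul {d d' : ZMod 5} {g g' : MulAut W5} (h : Pd d g) (h' : Pd d' g') : Pd (d * d') (g * g') := by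
  obtain ⟨t, k, rfl⟩ := h
  obtain ⟨t', k', rfl⟩ := h'
  refine ⟨t + d * t', k.mul k' 1, ?_⟩
  rw [mul_assoc, ← mul_assoc (dW _ _ _ _), dW_tt, mul_assoc, dW_mul, ← mul_assoc, ← tt_add]
  rfl

theorem Pd.pow {g : MulAut W5} (h : Pd 1 g) : g ^ 5 = 1 := by
  obtain ⟨t, k, rfl⟩ := h
  rw [dW_one, mul_one, tt_pow, show ((5 : ℕ) : ZMod 5) = 0 from rfl, zero_mul, tt_zero]

/-- `k r = e4`; `gᵢ` from `exists_wd`; `k gᵢ k⁻¹ = tt tᵢ * dW dᵢ dᵢ` (`H5.stab`). For such `a`, `b`: `a b a³ b³ = tt t` (the elements `tt t * dW d d` multiply by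
`dW_tt`, `dW_mul`, `tt_add`: `(t, d) (t', d') = (t + d t', d d')`, and `d⁴ = 1`), `tt t ^ 5 = 1` (`tt_pow`). `wd l (s ++ s') v = wd l s (wd l s' v)` (`List.foldr_append`). -/
theorem H5.not_bad (h : H5 X) (hl : ∀ m ∈ l, In X m) {v : W5} (hv : Om X v) (s₁ s₂ : List ℕ) : ¬ Bad l v s₁ s₂ := by
  rintro ⟨b1, b2, b3⟩
  obtain ⟨k, hk, ek⟩ := hv
  obtain ⟨g1, h1, e1'⟩ := exists_wd hl s₁
  obtain ⟨g2, h2, e2'⟩ := exists_wd hl s₂
  have f : ∀ g ∈ X, g v = v → ∃ d, Pd d (k * g * k⁻¹) := fun g hg e => by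
    obtain ⟨t, d, o, e'⟩ := h.stab (mul_mem (mul_mem hk hg) (inv_mem hk)) (by rw [← ek]; simp [e])
    exact ⟨d, t, o, e'⟩
  obtain ⟨d1, p1⟩ := f g1 h1 ((e1' v).trans b1)
  obtain ⟨d2, p2⟩ := f g2 h2 ((e2' v).trans b2)
  have p := ((((((p1.mul p2).mul p1).mul p1).mul p1).mul p2).mul p2).mul p2
  have hd : d1 * d2 * d1 * d1 * d1 * d2 * d2 * d2 = 1 := by
    obtain ⟨-, o1, -⟩ := p1
    obtain ⟨-, o2, -⟩ := p2
    have := o1.d0
    have := o2.d0
    clear p o1 o2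
    revert d1 d2
    decide
  rw [hd] at p
  have q : (g1 * g2 * g1 * g1 * g1 * g2 * g2 * g2) ^ 5 = 1 := by
    have := p.pow
    rw [show k * g1 * k⁻¹ * (k * g2 * k⁻¹) * (k * g1 * k⁻¹) * (k * g1 * k⁻¹) * (k * g1 * k⁻¹) * (k * g2 * k⁻¹) * (k * g2 * k⁻¹) * (k * g2 * k⁻¹)
      = k * (g1 * g2 * g1 * g1 * g1 * g2 * g2 * g2) * k⁻¹ by group, conj_pow] at this
    simpa using this
  have w : wd l (s₁ ++ s₂ ++ s₁ ++ s₁ ++ s₁ ++ s₂ ++ s₂ ++ s₂) = (g1 * g2 * g1 * g1 * g1 * g2 * g2 * g2 : MulAut W5) := funext fun u => by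
    simp only [wd_append, MulAut.mul_apply, e1', e2']
  rw [w] at b3
  generalize g1 * g2 * g1 * g1 * g1 * g2 * g2 * g2 = c at q b3
  exact b3 (by simpa [pow_succ] using congrArg (fun g : MulAut W5 => g e1) q)

/-- `≥`: `Y_le`, `H6.gens`. `≤`: for `g ∈ X`, `Om X (g⁻¹ e4)`, so `y (g⁻¹ e4) = e4` with `y ∈ Y _`; `y g⁻¹ = tt t * dW d d ∈ Y _` (`H5.stab`; `tt 1, hh, zz ∈ Y _` by `subset_closure`,
`tt_ap`, `hh_ap`, `zz_ap`; `tt_pow`, `dW_mem`). -/
theorem H6.eq_Y (h : H6 X) (hl : ∀ m ∈ l, In X m) (e : ∀ v, Om X v → Om (Y (mx :: mh :: mz :: l)) v) : X = Y (mx :: mh :: mz :: l) := by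
  refine le_antisymm (fun g hg => ?_) (Y_le (h.gens hl))
  obtain ⟨y, hy, ey⟩ := e (g⁻¹ e4) ⟨g, hg, by simp⟩
  obtain ⟨t, d, k, e'⟩ := h.stab (mul_mem (Y_le (h.gens hl) hy) (inv_mem hg)) ey
  have m1 : tt 1 ∈ Y (mx :: mh :: mz :: l) := subset_closure ⟨mx, by simp, tt_ap⟩
  have m2 : hh ∈ Y (mx :: mh :: mz :: l) := subset_closure ⟨mh, by simp, hh_ap⟩
  have m3 : zz ∈ Y (mx :: mh :: mz :: l) := subset_closure ⟨mz, by simp, zz_ap⟩
  have m4 : tt t ∈ Y (mx :: mh :: mz :: l) := by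
    have := pow_mem m1 t.val
    rwa [tt_pow, ZMod.natCast_zmod_val, mul_one] at this
  have m5 : y * g⁻¹ ∈ Y (mx :: mh :: mz :: l) := e' ▸ mul_mem m4 (dW_mem m2 m3 k)
  simpa using mul_mem (inv_mem m5) hy

end CL.G2F.F5
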