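/-
S5211, `q = 5`: the monomial elements.
-/
import Cfsg.Agent.FUS.G2.F5A

set_option autoImplicit false
set_option linter.unusedSimpArgs false
set_option linter.unusedSectionVars false

namespace CL.G2F.F5

open CL.Fus Subgroup

variable {X : Subgroup (MulAut W5)}

namespace F5B

theorem dW_sq {a d : ZMod 5} (k : Ok a d) : dW a d 1 k * dW a d 1 k = 1 ↔ a * a = 1 ∧ d * d = 1 := by
  rw [dW_mul]
  refine ⟨fun e => ?_, fun e => (dW_congr _ ok_one e.1 e.2 (by simp)).trans (dW_one _)⟩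
  have := dW_inj _ (e.trans (dW_one ok_one).symm)
  exact ⟨this.1, this.2.1⟩

theorem dW_four {a d : ZMod 5} (k : Ok a d) :
    dW a d 1 k * dW a d 1 k * (dW a d 1 k * dW a d 1 k) = 1 := by
  have h : ∀ c : ZMod 5, c ≠ 0 → c * c * (c * c) = 1 := by decide
  rw [dW_mul, dW_mul]
  exact (dW_congr _ ok_one (h a k.a0) (h d k.d0) (by simp)).trans (dW_one _)

end F5B

open F5B

/-- `k e = e4`, `k * dW a 3 * k⁻¹` fixes `e4`, so is `tt t * dW d d`. -/
theorem H6.exists_mon (h : H6 X) {e : W5} (he : Om X e) {a : ZMod 5} (k : Ok a 3) (ha : dW a 3 1 k e = e) :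
    ∃ g ∈ X, g e4 = e ∧ ∃ d k', (d = 2 ∨ d = 3) ∧ g * dW d d 1 k' = dW a 3 1 k * g := by
  obtain ⟨c, hc, ec⟩ := he
  have hD : dW a 3 1 k ∈ X := dW_mem h.h h.z k
  have ec' : c⁻¹ e4 = e := by rw [← ec, MulAut.inv_apply_self]
  obtain ⟨t, d, k', E⟩ := h.toH5.stab (mul_mem (mul_mem hc hD) (inv_mem hc))
    (by rw [MulAut.mul_apply, MulAut.mul_apply, ec', ha, ec])
  have n2 : ¬ dW a 3 1 k * dW a 3 1 k = 1 := fun e => absurd ((dW_sq k).1 e).2 (by decide)
  have ED : dW a 3 1 k = c⁻¹ * (tt t * dW d d 1 k') * c := by rw [← E]; group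
  by_cases d1 : d = 1
  · subst d1
    rw [dW_one, mul_one] at ED
    have h4 := dW_four k
    have : c⁻¹ * (tt t * tt t * (tt t * tt t)) * c = 1 := by rw [← h4, ED]; group
    rw [← tt_add, ← tt_add, mul_assoc, inv_mul_eq_one, right_eq_mul, ← tt_zero] at this
    have t0 : t = 0 := (by decide : ∀ t : ZMod 5, t + t + (t + t) = 0 → t = 0) t (tt_inj this)
    rw [t0, tt_zero, mul_one, inv_mul_cancel] at ED
    exact absurd (by rw [ED, mul_one]) n2
  · obtain ⟨τ, hτ⟩ : ∃ τ : ZMod 5, τ + t = d * τ :=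
      (by decide : ∀ t d : ZMod 5, d ≠ 1 → ∃ τ : ZMod 5, τ + t = d * τ) t d d1
    have E2 : tt τ * (tt t * dW d d 1 k') = dW d d 1 k' * tt τ := by
      rw [← mul_assoc, ← tt_add, dW_tt, hτ]
      rfl
    have E3 : (tt τ * c)⁻¹ * dW d d 1 k' = dW a 3 1 k * (tt τ * c)⁻¹ := by
      rw [ED]
      calc _ = c⁻¹ * (tt τ)⁻¹ * (dW d d 1 k' * tt τ) * (tt τ)⁻¹ := by group
        _ = _ := by rw [← E2]; group
    refine ⟨(tt τ * c)⁻¹, inv_mem (mul_mem (h.toH5.tt_mem τ) hc), ?_, d, k', ?_, E3⟩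
    · rw [mul_inv_rev, MulAut.mul_apply, ← tt_neg, ← ec']
      congr 1
      ext <;> simp
    · have d4 : d ≠ 4 := by
        rintro rfl
        have s : dW 4 4 1 k' * dW 4 4 1 k' = 1 := (dW_sq k').2 ⟨by decide, by decide⟩
        apply n2
        rw [← mul_inv_eq_iff_eq_mul] at E3
        rw [← E3]
        calc _ = (tt τ * c)⁻¹ * (dW 4 4 1 k' * dW 4 4 1 k') * (tt τ * c) := by group
          _ = 1 := by rw [s]; group
      exact (by decide : ∀ d : ZMod 5, d ≠ 0 → d ≠ 1 → d ≠ 4 → d = 2 ∨ d = 3) d k'.d0 d1 d4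

end CL.G2F.F5
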