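/-
S5211, `q = 5`: the five groups `X`.
-/
import Cfsg.Agent.FUS.G2.F5C
import Cfsg.Agent.FUS.G2.P5

set_option autoImplicit false
set_option linter.unusedSimpArgs false
set_option linter.unusedSectionVars false
set_option maxRecDepth 100000

namespace CL.G2F.F5

open CL.Fus Subgroup

variable {X X' : Subgroup (MulAut W5)}

theorem zz_comm (g : MulAut W5) : Commute zz g := MulEquiv.ext fun v => by
  rw [MulAut.mul_apply, MulAut.mul_apply, zz_sm, zz_sm, map_sm]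

theorem zz_pow (n : ℕ) (v : W5) : (zz ^ n) v = sm (2 ^ n) v := by
  induction n with
  | zero => ext <;> simp
  | succ n ih => rw [pow_succ', MulAut.mul_apply, ih, zz_sm]; ext <;> simp <;> ring

theorem zz4 : zz ^ 4 = 1 := MulEquiv.ext fun v => by
  rw [zz_pow, show (2 : ZMod 5) ^ 4 = 1 by decide]; ext <;> simp

/-- `X` times the scalars -/
def ful (X : Subgroup (MulAut W5)) : Subgroup (MulAut W5) where
  carrier := {g | ∃ x ∈ X, ∃ n : ℕ, g = x * zz ^ n}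
  one_mem' := ⟨1, one_mem _, 0, by simp⟩
  mul_mem' := by
    rintro _ _ ⟨x, a, n, rfl⟩ ⟨y, b, m, rfl⟩
    exact ⟨_, mul_mem a b, n + m, by rw [pow_add, mul_assoc, ← mul_assoc (zz ^ n), ((zz_comm y).pow_left n).eq, mul_assoc, mul_assoc]⟩
  inv_mem' := by
    rintro _ ⟨x, a, n, rfl⟩
    refine ⟨_, inv_mem a, 3 * n, ?_⟩
    rw [inv_eq_iff_mul_eq_one, mul_assoc, ← mul_assoc (zz ^ n), ((zz_comm x⁻¹).pow_left n).eq, mul_assoc, mul_inv_cancel_left, ← pow_add,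
      show n + 3 * n = 4 * n by ring, pow_mul, zz4, one_pow]

theorem le_ful : X ≤ ful X := fun x a => ⟨x, a, 0, by simp⟩
theorem zz_ful : zz ∈ ful X := ⟨1, one_mem _, 1, by simp⟩
theorem ful_eq (h : zz ∈ X) : ful X = X := le_antisymm (by rintro _ ⟨x, a, n, rfl⟩; exact mul_mem a (pow_mem h n)) le_ful

theorem H5.h6 (h : H5 X) : H6 (ful X) where
  sim := by
    rintro _ ⟨x, a, n, rfl⟩
    obtain ⟨ζ, e⟩ := h.sim x a
    exact ⟨fun c => ζ (2 ^ n * 2 ^ n * c), fun a b => by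
      rw [MulAut.mul_apply, MulAut.mul_apply, e, zz_pow, zz_pow]; congr 1; simp [bW]; ring⟩
  std := by
    rintro _ ⟨x, a, n, rfl⟩ e
    have c : (2 : ZMod 5) ^ n ≠ 0 := pow_ne_zero _ (by decide)
    rw [MulAut.mul_apply, zz_pow, map_sm] at e
    obtain ⟨t, b, d, k, rfl⟩ := h.std x a (by simpa [mem_VW, c] using e)
    exact ⟨t, b * 2 ^ n, d, ⟨mul_ne_zero k.a0 c, k.d0⟩, by
      rw [mul_assoc]; congr 1; refine MulEquiv.ext fun v => ?_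
      rw [MulAut.mul_apply, zz_pow]; ext <;> simp <;> ring⟩
  x := le_ful h.x
  h := le_ful h.h
  z := zz_ful

theorem H5.in3 (h : H5 X) {y : Mt} (k : Cj (ful X) y) : ∀ m ∈ [mx, mh, y], In X m := by
  obtain ⟨_, ⟨x, a, n, rfl⟩, t, e⟩ := k
  simp only [List.forall_mem_cons]
  refine ⟨⟨_, h.x, tt_ap⟩, ⟨_, h.h, hh_ap⟩, h.In_of_Cj ⟨x, a, t, fun v => ?_⟩, by simp⟩
  rw [← e, mul_assoc x (zz ^ n), ((zz_comm (tt t)).pow_left n).eq]; simp [mul_assoc]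

theorem zz_mem {y : Mt} (k : ∀ m ∈ [mx, mh, y], In X m) (w : List ℕ)
    (e : wd [mx, mh, y] w e1 = mz.a ∧ wd [mx, mh, y] w (e2 1) = mz.b ∧ wd [mx, mh, y] w (e3 1) = mz.c ∧ wd [mx, mh, y] w e4 = mz.d) : zz ∈ X :=
  (In_of_wd k w e).mem zz_ap

theorem zz2_mem (k : ∀ m ∈ [mx, mh, yE], In X m) : zz ^ 2 ∈ X :=
  (In_of_wd k [0, 2, 2, 0, 2, 2] (m := ⟨⟨4, 0, 0, 0⟩, ⟨0, 4, 0, 0⟩, ⟨0, 0, 4, 0⟩, ⟨0, 0, 0, 4⟩⟩) (by decide +kernel)).mem fun v => by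
    rw [zz_pow]; ext <;> simp [Mt.ap] <;> ring

theorem neg_eq (k : Ok (-1 : ZMod 5) 1) : dW (-1) 1 1 k = zz ^ 2 := MulEquiv.ext fun v => by
  rw [zz_pow, show (2 : ZMod 5) ^ 2 = -1 by decide]; ext <;> simp

theorem mem_iff_even (h2 : zz ^ 2 ∈ X) (h1 : zz ∉ X) (n : ℕ) : zz ^ n ∈ X ↔ Even n := by
  obtain ⟨m, rfl | rfl⟩ := Nat.even_or_odd' n
  · simpa [pow_mul] using pow_mem h2 m
  · rw [pow_succ, pow_mul, mul_mem_cancel_left (pow_mem h2 m)]; simpa using h1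

theorem card_ful (h2 : zz ^ 2 ∈ X) (h1 : zz ∉ X) : Nat.card (ful X) = 2 * Nat.card X := by
  rw [← card_mul_index (X.subgroupOf (ful X)), Nat.card_congr (subgroupOfEquivOfLe le_ful).toEquiv, mul_comm, index_eq_two_iff.2]
  refine ⟨⟨zz, zz_ful⟩, ?_⟩
  rintro ⟨_, x, a, n, rfl⟩
  simp only [mem_subgroupOf, coe_mul, mul_assoc, mul_mem_cancel_left a, ← pow_succ, mem_iff_even h2 h1, Nat.even_add_one]
  exact xor_not_left.2 Iff.rfl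

/-- the five groups -/
theorem H5.cls (h : H5 X) (n : ∃ g ∈ X, ∃ v ∈ AW, g v ∉ AW) : zz ^ 2 ∈ X ∧
    ((X = Y [mx, mh, mz, yG] ∧ Nat.card X = 480 ∧ zz ∈ X ∧ aW ∈ X ∧ KOne X) ∨ (X = Y [mx, mh, yE] ∧ Nat.card X = 640) ∨
    (X = Y [mx, mh, mz, yE] ∧ Nat.card X = 1280) ∨ (X = Y [mx, mh, mz, yS] ∧ Nat.card X = 2880) ∨
    (X = Y [mx, mh, mz, yB] ∧ Nat.card X = 7680)) := by
  rcases h.h6.cls (let ⟨g, a, k⟩ := n; ⟨g, le_ful a, k⟩) with ⟨c, k⟩ | ⟨c, k⟩ | ⟨c, k⟩ | ⟨c, k⟩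
  · have z := zz_mem (h.in3 c) [0, 1, 0, 2, 0, 2, 1, 2] (by decide +kernel)
    rw [ful_eq z] at k
    refine ⟨pow_mem z 2, .inl ⟨k.1, k.2.1, z, (In_of_wd (h.in3 c) [0, 2, 2, 0] (m := mat aW) (by decide +kernel)).mem fun v => (ap_mat _ v).symm,
      fun g hg => ?_⟩⟩
    have e : ∀ v ∈ VW, v = sm v.w (e4 : W5) := fun v hv => by ext <;> simp [hv.1, hv.2.1, hv.2.2]
    refine (k.2.2 g hg).imp (fun a v hv => ?_) fun ⟨t, a⟩ => ⟨t, fun v hv => ?_⟩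
    · rw [e v hv, map_sm]; simp [mem_VW, a.1, a.2.1, a.2.2]
    · rw [e v hv, map_sm, map_sm]
      generalize tt t (g e4) = u at a
      simp [mem_V1W, a.1, a.2.1, a.2.2]
  · have z2 := zz2_mem (h.in3 c)
    refine ⟨z2, .inr ?_⟩
    by_cases z : zz ∈ X
    · rw [ful_eq z] at k; exact .inr (.inl k)
    have le := Y_le (h.in3 c)
    refine .inl ⟨le_antisymm (fun g hg => ?_) le, by have := card_ful z2 z; omega⟩
    have i := In_Y (h.in3 c)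
    obtain ⟨y, a, m, rfl⟩ := (k.1.le.trans (Y_le (X := ful (Y [mx, mh, yE])) (by
      simp only [List.forall_mem_cons] at i ⊢
      exact ⟨i.1.mono le_ful, i.2.1.mono le_ful, ⟨_, zz_ful, zz_ap⟩, i.2.2.1.mono le_ful, by simp⟩))) (le_ful hg)
    obtain ⟨m, rfl⟩ := (mem_iff_even z2 z m).1 ((mul_mem_cancel_left (le a)).1 hg)
    exact mul_mem a (by simpa [← two_mul, pow_mul] using pow_mem (zz2_mem i) m)
  · have z := zz_mem (h.in3 c) [0, 1, 1, 2, 1, 0, 2, 1, 1, 0, 1, 2] (by decide +kernel)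
    rw [ful_eq z] at k
    exact ⟨pow_mem z 2, .inr (.inr (.inr (.inl k)))⟩
  · have z := zz_mem (h.in3 c) [0, 0, 1, 2, 0, 0, 2, 0, 0, 1, 2, 0, 0, 2] (by decide +kernel)
    rw [ful_eq z] at k
    exact ⟨pow_mem z 2, .inr (.inr (.inr (.inr k)))⟩

theorem H5.uniq (h : H5 X) (n : ∃ g ∈ X, ∃ v ∈ AW, g v ∉ AW) (h' : H5 X') (n' : ∃ g ∈ X', ∃ v ∈ AW, g v ∉ AW)
    (e : Nat.card X = Nat.card X') : X = X' := by
  rcases (h.cls n).2 with ⟨a, b, -⟩ | ⟨a, b⟩ | ⟨a, b⟩ | ⟨a, b⟩ | ⟨a, b⟩ <;>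
  rcases (h'.cls n').2 with ⟨c, d, -⟩ | ⟨c, d⟩ | ⟨c, d⟩ | ⟨c, d⟩ | ⟨c, d⟩ <;> first | exact a.trans c.symm | omega

end CL.G2F.F5
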