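/-
S5211, `q = 5`: from `XW F` back to `F`.
-/
import Cfsg.Agent.FUS.G2.F5D
import Cfsg.Agent.FUS.G2.QS5
import Cfsg.Agent.FUS.G2.QP5
import Cfsg.Agent.FUS.G2.Real
import Cfsg.Agent.FUS.NormalSub

set_option autoImplicit false
set_option linter.unusedSimpArgs false
set_option linter.unusedSectionVars false

namespace CL.G2F.F5

open CL.Fus CL.RF4 CL.D3 Subgroup Cfsg Cfsg.FusionSystem
open scoped commutatorElement

instance p55 : P5 (ZMod 5) := p5_of (p := 5) le_rfl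

theorem h7 : Nat.card (ZMod 5) ≠ 7 := by simp

theorem rho_one (ρ : RingAut (ZMod 5)) : ρ = 1 := RingEquiv.ext fun x => by
  rw [← ZMod.natCast_zmod_val x, map_natCast]; rfl

variable {F F' E : FusionSystem (⊤ : Subgroup (U (ZMod 5)))}

/-- `qd h7 hF hS hQ (hb_mem hF hS hQ')`: `sim`; `std` (`v ∈ VW` is `sm v.w e4`, `map_sm`; `rho_one`); `tt 1 ∈ TT ≤ XW F` (`syl.le`); `hb` with `c = 2`: `2 ^ 2 = 4`, `2⁻¹ = 3` (`dW_congr`) -/
theorem h5_of (hF : F.IsSaturated 5) (hS : Std F) (hQ : F.IsEssential 5 Q) (hQ' : F.IsEssential 5 Q') : H5 (XW F) := by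
  have q := qd h7 hF hS hQ (hb_mem hF hS hQ')
  refine ⟨q.sim, fun g hg e => ?_, q.syl.le ⟨1, rfl⟩, ?_⟩
  · obtain ⟨t, a, d, ρ, k, -, e'⟩ := q.std g hg fun v hv => by
      rw [show v = sm v.w e4 from W.ext (by simp [hv.1]) (by simp [hv.2.1]) (by simp [hv.2.2]) (by simp), map_sm]
      exact ⟨by simp [e.1], by simp [e.2.1], by simp [e.2.2]⟩
    exact ⟨t, a, d, k, rho_one ρ ▸ e'⟩
  · have k : Ok ((2 : ZMod 5) ^ 2) 2⁻¹ := ⟨by decide, inv_ne_zero two_ne⟩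
    rw [hh, ← dW_congr k ok43 (by decide) (inv_eq_of_mul_eq_one_right (by decide)) rfl]
    exact q.hb 2 k

/-- Otherwise `sA` is normal in `F`: `normal_of_essential` (FUS/NormalSub), `essL h7`; `⊤`: `exists_aut_top`, `map_mem`; `Q`: `exists_XW`, for `g ∈ Q`: `g ∈ sA ↔ pW g ∈ AW`; `Q'`: `exists_isoOn`, `ivQ'` for
the pair `{f, f'}` (`CL.D3.QP.au_pair`); `Mor.img_eq_self` for `hf.mono _`. `le_core` gives `sA ≤ ⊥`, but `y4 1 ∈ sA`. -/
theorem not_stab (hF : F.IsSaturated 5) (hc : F.core = ⊥) : ∃ g ∈ XW F, ∃ v ∈ AW, g v ∉ AW := by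
  by_contra! k
  have n : F.IsNormal sA := normal_of_essential isPGroup_top hF fun R hR => by
    have m : ∀ {g}, Mor F R g → img g R = R → ∀ x ∈ R, g x ∈ R := fun _ e => img_le_iff.1 e.le
    rcases hR with rfl | hR
    · refine ⟨le_top, fun g hg _ => hg.img_eq_self_of_le le_top fun x hx => ?_⟩
      obtain ⟨α, e⟩ := exists_aut_top hg
      exact e x ▸ (map_mem α x).2.2.1.2 hx
    rcases essL h7 F hF R hR with rfl | rfl
    · refine ⟨sA_le_sR.trans sR_le_Q, fun g hg e => hg.img_eq_self_of_le (sA_le_sR.trans sR_le_Q) fun x hx => ?_⟩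
      obtain ⟨y, hy, e'⟩ := exists_XW hg (m hg e)
      have := k y hy (pW x) ⟨hx.1, hx.2.1⟩
      rw [← e' x hx.2.2] at this
      exact ⟨this.1, this.2, m hg e x hx.2.2⟩
    · refine ⟨sA_le_sR.trans sR_le_Q', fun g hg e => hg.img_eq_self_of_le (sA_le_sR.trans sR_le_Q') fun x hx => ?_⟩
      obtain ⟨g', -, i⟩ := exists_isoOn hg (m hg e)
      exact (ivQ' (U5.au_pair i)).2 g (Or.inl rfl) x hx.1 hx
  have := (hc ▸ le_core n : sA ≤ ⊥) (show y4 (1 : ZMod 5) ∈ sA from ⟨rfl, rfl, rfl⟩)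
  exact absurd (congrArg U.r (mem_bot.1 this)) (by decide)

theorem F5F.lin (φ : ZMod 5 → ZMod 5) (h : ∀ a b, φ (a + b) = φ a + φ b) (c : ZMod 5) : φ c = c * φ 1 := by
  have := map_nsmul (AddMonoidHom.mk' φ h) c.val 1
  simpa using this

/-- `ε g = y3 (χ g) * g` (`pW_eq_iff`). Take `u` with `bf u (y1 1) = χ (y1 1)`, the same for `y2 1`, `y4 1`, `y5 1` (`bf u (y1 1) = -u.w`, `bf u (y2 1) = 3 u.r`, `bf u (y4 1) = -3 u.s`, `bf u (y5 1) = u.u`;
`3 * 2 = 1`), `cj u g = y3 (bf u g) * g` (`br_Q`). `ε` and `cj u` are homomorphisms on `Q` which agree on `y1 1, y2 1, y4 1, y5 1`, so on their powers `y1 c = y1 1 ^ c.val` etc., on `y3 c = ⁅y1 c, y5 1⁆`, and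
`g = y1 g.u * y2 g.s * y3 g.v * y4 g.r * y5 g.w` (`eq_prod`, `g.t = 0`). -/
theorem inn5 {ε : U (ZMod 5) → U (ZMod 5)} (h1 : IsHomOn Q ε) (h0 : ∀ g ∈ Q, ε g ∈ Q) (e : ∀ g ∈ Q, pW (ε g) = pW g) :
    ∃ u ∈ Q, ∀ g ∈ Q, ε g = cj u g := by
  obtain ⟨χ, hχ⟩ : ∃ χ : U (ZMod 5) → ZMod 5, ∀ g, (ε g).v = g.v + χ g := ⟨fun g => (ε g).v - g.v, fun g => by ring⟩
  have add : ∀ g ∈ Q, ∀ h ∈ Q, χ (g * h) = χ g + χ h := fun g hg h hh => by
    have := congrArg U.v (h1 hg hh)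
    obtain ⟨-, -, a3, a4⟩ := W.ext_iff.1 (e g hg)
    obtain ⟨b1, b2, -, -⟩ := W.ext_iff.1 (e h hh)
    simp only [pW_u, pW_s, pW_r, pW_w] at a3 a4 b1 b2
    simp only [hχ, U.mul_v, a3, a4, b1, b2, mem_Q.1 hg, mem_Q.1 (h0 g hg)] at this
    linear_combination this
  have l : ∀ y : ZMod 5 → U (ZMod 5), (∀ c, y c ∈ Q) → (∀ a b, y (a + b) = y a * y b) → ∀ c, χ (y c) = c * χ (y 1) :=
    fun y hy ha => F5F.lin (fun c => χ (y c)) fun a b => by rw [ha, add _ (hy a) _ (hy b)]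
  refine ⟨⟨χ (y5 1), -2 * χ (y4 1), 0, 2 * χ (y2 1), -χ (y1 1), 0⟩, rfl, fun g hg => ?_⟩
  have z : χ (y3 g.v) = 0 := by
    have := hχ (y3 g.v)
    rw [QS5.fixZ h1 h0 e ⟨rfl, rfl, rfl, rfl, rfl⟩] at this
    simpa using this
  have c : χ g = g.u * χ (y1 1) + g.s * χ (y2 1) + g.r * χ (y4 1) + g.w * χ (y5 1) := by
    conv_lhs => rw [show g = y1 g.u * y2 g.s * y3 g.v * y4 g.r * y5 g.w by gus; exact hg]
    rw [add, add, add, add, z, l y1 (fun _ => rfl) (fun _ _ => by gus), l y2 (fun _ => rfl) (fun _ _ => by gus),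
      l y4 (fun _ => rfl) (fun _ _ => by gus), l y5 (fun _ => rfl) (fun _ _ => by gus), add_zero] <;>
      (rw [mem_Q]; gus)
  obtain ⟨a1, a2, a3, a4⟩ := W.ext_iff.1 (e g hg)
  simp only [pW_u, pW_s, pW_r, pW_w] at a1 a2 a3 a4
  rw [QS5.cj_Q rfl hg]
  gus
  refine ⟨a1, a2, ?_, a3, a4, (mem_Q.1 (h0 g hg)).trans (mem_Q.1 hg).symm⟩
  rw [hχ, c, bf]
  have h5 : (5 : ZMod 5) = 0 := rfl
  linear_combination (-(g.s * χ (y2 1)) - g.r * χ (y4 1)) * h5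

/-- `le_of_three (essL h7)`. `⊤`: `dd_mem`, `CL.G2F.dW_mem`, `dd_of_dW` for `E`, `Mor.cj_comp`. `Q`: `exists_XW` gives `x ∈ XW F = XW E`, so `f₁` with `Mor E Q f₁` inducing `x`; `exists_isoOn` gives the inverse `f₁'`;
`inn5` for `f ∘ f₁'`; `f = cj u ∘ f₁` on `Q`. `Q'`: `dd (-1) 1 1` lies in both (`dd_of_dW`), `wb_mem` for both, `genQ'` for `F`, then as `key` in `le_of_gen` (G2/Real). -/
theorem le_of_XW (hF : F.IsSaturated 5) (hS : Std F) (hQ : F.IsEssential 5 Q) (hQ' : F.IsEssential 5 Q')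
    (kF : E.IsSaturated 5) (kS : Std E) (kQ : E.IsEssential 5 Q) (kQ' : E.IsEssential 5 Q')
    (hm : ∀ k : Ok (-1 : ZMod 5) 1, dW (-1) 1 1 k ∈ XW F) (e : XW F = XW E) : F ≤ E := by
  have h : ∀ f, Mor F ⊤ f → Mor E ⊤ f := fun f hf => by
    obtain ⟨x, a, d, ρ, k, m, e'⟩ := dd_mem hS hf
    exact ((dd_of_dW h7 kF kS kQ (e ▸ CL.G2F.dW_mem m)).cj_comp (s := x) trivial).congr fun g _ => (e' g).symm
  refine le_of_three (essL h7) hF h (fun _ f hf m => ?_) fun _ f hf m => ?_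
  · obtain ⟨x, hx, e'⟩ := exists_XW hf m
    obtain ⟨f₁, k1, k2, k3⟩ := e.le hx
    obtain ⟨f₁', -, i⟩ := exists_isoOn k1 k2
    obtain ⟨u, -, hu⟩ := inn5 (ε := f ∘ f₁') (fun a ha b hb => by
      rw [Function.comp, i.symm.map_mul ha hb, hf.isHomOn (i.maps' a ha) (i.maps' b hb)]; rfl)
      (fun g hg => m _ (i.maps' g hg)) fun g hg => by
        rw [Function.comp, e' _ (i.maps' g hg), ← k3 _ (i.maps' g hg), i.right g hg]
    exact (k1.cj_comp (s := u) trivial).congr fun g hg => by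
      rw [Function.comp, ← hu _ (k2 g hg), Function.comp, i.left g hg]
  · have hb := wb_mem kF kS kQ' fun k => dd_of_dW h7 kF kS kQ (e ▸ hm k)
    rcases genQ' hF hQ' (wb_mem hF hS hQ' fun k => dd_of_dW h7 hF hS hQ (hm k)) f hf m with ⟨g, hg, e'⟩ | ⟨t, g, hg, e'⟩
    · exact ((h g hg).mono le_top).congr e'
    have m1 : ∀ x ∈ Q', cj (y1 t) (f x) ∈ Q' := fun x hx => (isoOn_cj _).maps _ (m x hx)
    obtain ⟨w, hw, i⟩ := exists_isoOn hb isoOn_wb.maps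
    refine ((hw.comp ((h g hg).mono le_top) fun x hx => e' x hx ▸ isoOn_wb.maps _ (m1 x hx)).cj_comp (s := (y1 t)⁻¹)
      trivial).congr fun x hx => ?_
    simp only [Function.comp, e' x hx, i.left _ (m1 x hx), cj_inv_cj]

theorem F5F.card_le {β : MulAut (U (ZMod 5))} (h : Corr β β.symm F F') : Nat.card (XW F) ≤ Nat.card (XW F') := by
  have i : IsoOn Q Q β β.symm := ⟨fun x _ y _ => map_mul β x y, fun x hx => (map_mem β x).2.2.2.2.1.2 hx,
    fun x hx => (map_mem β.symm x).2.2.2.2.1.2 hx, fun x _ => β.symm_apply_apply x, fun x _ => β.apply_symm_apply x⟩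
  obtain ⟨-, b, hb⟩ := exX i
  have : Finite (MulAut W5) := Finite.of_injective _ DFunLike.coe_injective
  refine Nat.card_le_card_of_injective (fun x => (⟨b * x.1 * b⁻¹, ?_⟩ : XW F')) fun x y e => ?_
  · obtain ⟨f, h1, h2, h3⟩ := x.2
    refine ⟨_, i.img_eq ▸ h.mor h1, fun g hg => i.maps _ (h2 _ (i.maps' g hg)), fun g hg => ?_⟩
    show pW (β (f (β.symm g))) = _
    rw [hb _ (h2 _ (i.maps' g hg)), h3 _ (i.maps' g hg), MulAut.mul_apply, MulAut.mul_apply]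
    conv_rhs => rw [← i.right g hg, hb _ (i.maps' g hg), MulAut.inv_apply_self]
  · exact Subtype.ext (mul_left_cancel (mul_right_cancel (congrArg Subtype.val e)))

/-- `β` leaves `Q` invariant (`map_mem`), `exX` gives `b : MulAut W5` induced by `β`; `x ↦ b x b⁻¹` maps `XW F` into `XW F'` (`Corr.mor`: `β ∘ f ∘ β.symm`), and symmetrically (`Corr.symm`);
`Nat.card_le_card_of_injective` twice -/
theorem card_XW_corr {β : MulAut (U (ZMod 5))} (h : Corr β β.symm F F') : Nat.card (XW F) = Nat.card (XW F') :=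
  (F5F.card_le h).antisymm (F5F.card_le (β := β.symm) h.symm)

end CL.G2F.F5
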