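/-
S5211, `q = 5`: arithmetic.
-/
import Cfsg.Agent.FUS.G2.F5D
import Cfsg.Agent.S4208

set_option autoImplicit false
set_option linter.unusedSimpArgs false
set_option linter.unusedSectionVars false

namespace CL.G2F.F5

open CL.Fus Subgroup

variable {X : Subgroup (MulAut W5)}

namespace F5N

theorem card_W5 : Nat.card W5 = 5 ^ 4 := by
  have e : W5 ≃ ZMod 5 × ZMod 5 × ZMod 5 × ZMod 5 :=
    ⟨fun v => (v.u, v.s, v.r, v.w), fun x => ⟨x.1, x.2.1, x.2.2.1, x.2.2.2⟩, fun _ => rfl, fun _ => rfl⟩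
  rw [Nat.card_congr e]
  simp [Nat.card_prod]

theorem dW_four {a d : ZMod 5} (k : Ok a d) : dW a d 1 k ^ 4 = 1 := by
  have h : ∀ c : ZMod 5, c ≠ 0 → c * (c * (c * c)) = 1 := by decide
  rw [show 4 = 1 + (1 + (1 + 1)) from rfl, pow_add, pow_add, pow_add, pow_one, dW_mul, dW_mul, dW_mul]
  exact (dW_congr _ ok_one (h a k.a0) (h d k.d0) (by simp)).trans (dW_one _)

theorem pow_std (t : ZMod 5) {a d : ZMod 5} (k : Ok a d) (n : ℕ) :
    ∃ t', (tt t * dW a d 1 k) ^ n = tt t' * dW a d 1 k ^ n := by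
  induction n with
  | zero => exact ⟨0, by rw [tt_zero, pow_zero, pow_zero, one_mul]⟩
  | succ n ih =>
    obtain ⟨t', e⟩ := ih
    refine ⟨t + d * t', ?_⟩
    rw [pow_succ', e, mul_assoc, ← mul_assoc (dW a d 1 k), dW_tt, pow_succ', tt_add, mul_assoc, mul_assoc]
    rfl

theorem tt_five (t : ZMod 5) : (tt t : MulAut W5) ^ 5 = 1 := by
  rw [tt_pow, show ((5 : ℕ) : ZMod 5) = 0 from rfl, zero_mul, tt_zero]

theorem pow_twenty (t : ZMod 5) {a d : ZMod 5} (k : Ok a d) : (tt t * dW a d 1 k) ^ 20 = 1 := by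
  obtain ⟨t', e⟩ := pow_std t k 4
  rw [show 20 = 4 * 5 from rfl, pow_mul, e, dW_four, mul_one, tt_five]

theorem fix_VW {v : W5} (h : tt 1 v = v) : v ∈ VW := by
  have h1 := congrArg W.s h
  have h2 := congrArg W.r h
  have h3 := congrArg W.w h
  simp only [tt_s, tt_r, tt_w] at h1 h2 h3
  have k : ∀ u s r w : ZMod 5, s + u * 1 = s → r + 2 * s * 1 + u * 1 ^ 2 = r →
    w + 3 * r * 1 + 3 * s * 1 ^ 2 + u * 1 ^ 3 = w → u = 0 ∧ s = 0 ∧ r = 0 := by decide
  exact k _ _ _ _ h1 h2 h3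

end F5N

open F5N

/-- `Nat.card W5 = 5 ^ 4`; `Cfsg.Agent.S4208.result` -/
theorem card_dvd (X : Subgroup (MulAut W5)) : Nat.card X ∣ 5 ^ 6 * 2 ^ 11 * 3 ^ 2 * 13 * 31 := by
  have hp : IsPGroup 5 W5 := IsPGroup.of_card card_W5
  obtain ⟨r, hr⟩ := hp.index (frattini W5)
  have h2 : r ≤ 4 := (Nat.pow_dvd_pow_iff_le_right (by norm_num : 1 < 5)).1 (card_W5 ▸ hr ▸ index_dvd_card _)
  refine (card_subgroup_dvd_card X).trans ((Cfsg.Agent.S4208.result card_W5 hr).trans ?_)
  interval_cases r <;> decide +kernel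

/-- `2480 = 31 * 80`; the Sylow 31-subgroup is normal and centralised by `tt 1`. -/
theorem H5.card_ne (h : H5 X) : Nat.card X ≠ 2480 := by
  intro hc
  have : Fact (Nat.Prime 31) := ⟨by norm_num⟩
  obtain ⟨P⟩ : Nonempty (Sylow 31 X) := inferInstance
  have hP : Nat.card P = 31 := by
    rw [P.card_eq_multiplicity, hc, show 2480 = 31 * 80 from rfl, Nat.factorization_mul (by norm_num) (by norm_num)]
    simp [Nat.Prime.factorization_self (show Nat.Prime 31 by norm_num),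
      Nat.factorization_eq_zero_of_not_dvd (show ¬ 31 ∣ 80 by norm_num)]
  have hi : (P : Subgroup X).index = 80 := by
    have := (P : Subgroup X).card_mul_index
    rw [hP, hc] at this
    omega
  have h1 : Nat.card (Sylow 31 X) = 1 := by
    have a := P.card_dvd_index
    have b := card_sylow_modEq_one 31 X
    rw [hi] at a
    have c := Nat.le_of_dvd (by norm_num) a
    generalize Nat.card (Sylow 31 X) = n at a b c
    rw [Nat.ModEq] at b
    have : n = 1 ∨ n = 32 ∨ n = 63 := by omega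
    rcases this with rfl | rfl | rfl
    · rfl
    · norm_num at a
    · norm_num at a
  have : Subsingleton (Sylow 31 X) := (Nat.card_eq_one_iff_unique.1 h1).1
  have : (P : Subgroup X).Normal := Sylow.normal_of_subsingleton P
  have : IsCyclic P := isCyclic_of_prime_card hP
  let f : X →* MulAut P := MulAut.conjNormal
  have hcm : ∀ a b : MulAut P, a * b = b * a := fun a b => (IsCyclic.mulAutMulEquiv P).injective (by
    rw [map_mul, map_mul, mul_comm])
  let x : X := ⟨tt 1, h.x⟩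
  let y : X := ⟨hh, h.h⟩
  have e1 : y * x = x ^ 3 * y := Subtype.ext (by
    change hh * tt 1 = tt 1 ^ 3 * hh
    rw [hh, dW_tt, tt_pow]
    rfl)
  have e2 : x ^ 5 = 1 := Subtype.ext (tt_five 1)
  have e3 : f x = f x ^ 3 := by
    have := congrArg f e1
    rw [map_mul, map_mul, map_pow, hcm] at this
    exact mul_right_cancel this
  have e4' : f x = 1 := by
    have a : f x ^ 5 = 1 := by rw [← map_pow, e2, map_one]
    have b : f x ^ 2 = 1 := by
      rw [pow_succ' _ 2] at e3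
      exact left_eq_mul.1 e3
    simpa using pow_gcd_eq_one.2 ⟨a, b⟩
  have : Nontrivial P := Finite.one_lt_card_iff_nontrivial.1 (by rw [hP]; norm_num)
  obtain ⟨s, hs⟩ := exists_ne (1 : P)
  have e5 : tt 1 * s.1.1 * (tt 1)⁻¹ = s.1.1 :=
    congrArg (fun z : P => z.1.1) (show f x s = s by rw [e4']; rfl)
  have e6 : tt 1 (s.1.1 e4) = s.1.1 e4 := by
    have a : (tt 1 : MulAut W5) e4 = e4 := by ext <;> simp
    rw [← MulAut.mul_apply, mul_inv_eq_iff_eq_mul.1 e5, MulAut.mul_apply, a]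
  obtain ⟨t, a, d, k, e⟩ := h.std _ s.1.2 (fix_VW e6)
  have a20 : s ^ 20 = 1 := Subtype.ext (Subtype.ext (by
    change s.1.1 ^ 20 = 1
    rw [e, pow_twenty]))
  have a31 : s ^ 31 = 1 := (congrArg (s ^ ·) hP).symm.trans pow_card_eq_one'
  exact hs (by simpa using pow_gcd_eq_one.2 ⟨a20, a31⟩)

end CL.G2F.F5
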