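/-
S5211: `p = 3`, automorphisms of `S`, standard position.
-/
import Cfsg.Agent.FUS.G2.E3

set_option autoImplicit false
set_option linter.unusedSimpArgs false
set_option linter.unusedSectionVars false

namespace CL.G2F.T3

open CL.Fus CL.RF4 CL.D3 Subgroup Cfsg Cfsg.FusionSystem E3
open scoped commutatorElement

variable {K : Type*} [Field K] [CharP K 3] {g h : U K}

/-- `α` leaves `Q` and `Q'` invariant -/
def Fx (α : U K → U K) : Prop := (∀ g ∈ Q, α g ∈ Q) ∧ ∀ g ∈ Q', α g ∈ Q'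
/-- `α` swaps `Q` and `Q'` -/
def Sw (α : U K → U K) : Prop := (∀ g ∈ Q, α g ∈ Q') ∧ ∀ g ∈ Q', α g ∈ Q

theorem le_or (α : MulAut (U K)) {P : Subgroup (U K)} (hP : ∀ g ∈ P, g ^ 3 = 1) : (∀ g ∈ P, α g ∈ Q) ∨ ∀ g ∈ P, α g ∈ Q' := by
  have k : ∀ g ∈ P, (α g).u = 0 ∨ (α g).t = 0 := fun g hg => cube_eq_one.1 (by rw [← map_pow, hP g hg, map_one])
  by_contra! e
  obtain ⟨⟨a, ha, n⟩, b, hb, n'⟩ := e
  have e1 := (k a ha).resolve_right n
  have e2 := (k b hb).resolve_left n'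
  rcases k _ (mul_mem ha hb) with e | e
  · rw [map_mul, U.mul_u, e1, zero_add] at e; exact n' e
  · rw [map_mul, U.mul_t, e2, add_zero] at e; exact n e

theorem split_u (g : U K) : ∃ h ∈ Q', g = y1 g.u * h := ⟨(y1 g.u)⁻¹ * g, by rw [mem_Q']; gus, by simp⟩
theorem split_t (g : U K) : ∃ h ∈ Q, g = y6 g.t * h := ⟨(y6 g.t)⁻¹ * g, by rw [mem_Q]; gus, by simp⟩

theorem fx_or (α : MulAut (U K)) : Fx α ∨ Sw α := by
  have n : ∀ {P : Subgroup (U K)}, (∀ g ∈ Q, α g ∈ P) → (∀ g ∈ Q', α g ∈ P) → ∀ g, g ∈ P := fun h h' g => by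
    obtain ⟨g, rfl⟩ := α.surjective g
    obtain ⟨x, hx, e⟩ := split_u g
    rw [e, map_mul]; exact mul_mem (h _ rfl) (h' x hx)
  rcases le_or α (P := Q) (fun g hg => cube_eq_one.2 (.inr hg)) with h | h <;>
    rcases le_or α (P := Q') (fun g hg => cube_eq_one.2 (.inl hg)) with h' | h'
  exacts [absurd (n h h' (y6 1)) one_ne_zero, .inl ⟨h, h'⟩, .inr ⟨h, h'⟩, absurd (n h h' (y1 1)) one_ne_zero]

theorem mR (α : MulAut (U K)) (hg : g ∈ sR) : α g ∈ sR :=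
  (fx_or α).elim (fun h => ⟨h.2 g hg.1, h.1 g hg.2⟩) fun h => ⟨h.1 g hg.2, h.2 g hg.1⟩

theorem y3_eq (v : K) : y3 v = ⁅(y1 v : U K), (y5 1 : U K)⁆ := by rw [br_R _ ⟨rfl, rfl⟩]; gus
theorem y4_eq' (r : K) : y4 r = ⁅(y6 1 : U K), (y2 (-r) : U K)⁆ := by rw [br_R _ ⟨rfl, rfl⟩]; gus; grind

theorem Fx.m3 {α : MulAut (U K)} (h : Fx α) (v : K) : α (y3 v) = y3 (α (y3 v)).v := by
  rw [y3_eq v, map_commutatorElement, br_Q (h.1 _ rfl) (h.1 _ rfl)]; rfl

theorem Fx.m4 {α : MulAut (U K)} (h : Fx α) (r : K) : α (y4 r) = y4 (α (y4 r)).r := by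
  rw [y4_eq' r, map_commutatorElement, br_R _ (mR α ⟨rfl, rfl⟩), mem_Q'.1 (h.2 (y6 1) rfl), zero_mul]; rfl

theorem cube' (g : U K) : g ^ 3 = y3 (-(g.u ^ 2 * g.t ^ 3)) * y4 (-(g.u * g.t ^ 2)) := by rw [cube]; gus

theorem Fx.cub {α : MulAut (U K)} (h : Fx α) (g : U K) : (α (y3 (-(g.u ^ 2 * g.t ^ 3)))).v = -((α g).u ^ 2 * (α g).t ^ 3) ∧
    (α (y4 (-(g.u * g.t ^ 2)))).r = -((α g).u * (α g).t ^ 2) := by
  have e := map_pow α g 3
  rw [cube', map_mul, h.m3, h.m4, cube'] at e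
  gus at e
  exact e

variable [Finite K]

theorem aut_form {α : MulAut (U K)} (h : Fx α) : ∃ a d ρ, Ok a d ∧ ∀ g, (α g).u = a * (ρ : RingAut K) g.u ∧ (α g).t = d * ρ g.t := by
  have eu : ∀ g, (α g).u = (α (y1 g.u)).u := fun g => by
    obtain ⟨x, hx, e⟩ := split_u g
    conv_lhs => rw [e, map_mul, U.mul_u, mem_Q'.1 (h.2 x hx), add_zero]
  have et : ∀ g, (α g).t = (α (y6 g.t)).t := fun g => by
    obtain ⟨x, hx, e⟩ := split_t g
    conv_lhs => rw [e, map_mul, U.mul_t, mem_Q.1 (h.1 x hx), add_zero]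
  obtain ⟨φ, hφ⟩ : ∃ φ : K →+ K, ∀ g, (α g).u = φ g.u := ⟨AddMonoidHom.mk' (fun a => (α (y1 a)).u) fun a b => by
    rw [← U.mul_u, ← map_mul, eu (_ * _)]; rfl, eu⟩
  obtain ⟨δ, hδ⟩ : ∃ δ : K →+ K, ∀ g, (α g).t = δ g.t := ⟨AddMonoidHom.mk' (fun a => (α (y6 a)).t) fun a b => by
    rw [← U.mul_t, ← map_mul, et (_ * _)]; rfl, et⟩
  have k : ∀ u t, (α (y4 (-(u * t ^ 2)))).r = -(φ u * δ t ^ 2) := fun u t => by
    simpa [hφ, hδ] using (h.cub ⟨u, 0, 0, 0, 0, t⟩).2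
  have k1 : ∀ u t, φ (u * t ^ 2) * δ 1 ^ 2 = φ u * δ t ^ 2 := fun u t => by
    have := k (u * t ^ 2) 1
    rw [one_pow, mul_one, k] at this
    exact (neg_injective this).symm
  have n : φ 1 * δ 1 ^ 2 ≠ 0 := fun e => by
    have e1 := k 1 1
    have := h.m4 (-(1 * 1 ^ 2))
    rw [e1, e, neg_zero, show (y4 0 : U K) = 1 from rfl, map_eq_one_iff _ α.injective] at this
    simpa using congrArg U.r this
  have a0 : φ 1 ≠ 0 := left_ne_zero_of_mul n
  have d0 : δ 1 ≠ 0 := fun e => n (by simp [e])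
  have k2 : ∀ x y, φ (x * y) * δ 1 ^ 2 = φ 1 * (δ x * δ y) := fun x y => by
    have e := k1 1 (x + y)
    rw [one_mul, show (x + y) ^ 2 = 1 * x ^ 2 + (x * y + x * y) + 1 * y ^ 2 by ring, map_add, map_add, map_add, map_add] at e
    exact mul_left_cancel₀ two_ne (by linear_combination e - k1 1 x - k1 1 y)
  have k3 : ∀ x, φ x * δ 1 = φ 1 * δ x := fun x => mul_right_cancel₀ d0 (by have := k2 x 1; rw [mul_one] at this; linear_combination this)
  let ρ : K →+* K :=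
    { toFun := fun x => δ x / δ 1
      map_one' := div_self d0
      map_zero' := by simp
      map_add' := fun x y => by rw [map_add, add_div]
      map_mul' := fun x y => by
        field_simp
        exact mul_left_cancel₀ a0 (by linear_combination k2 x y - δ 1 * k3 (x * y)) }
  refine ⟨φ 1, δ 1, RingEquiv.ofBijective ρ (Finite.injective_iff_bijective.1 ρ.injective), ⟨a0, d0⟩, fun g => ?_⟩
  rw [hφ, hδ]
  change _ = _ * (δ _ / δ 1) ∧ _ = _ * (δ _ / δ 1)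
  exact ⟨by field_simp; exact k3 _, by field_simp⟩

/-- the automorphisms acting trivially on `S / R₀` -/
def K0 (K : Type*) [Field K] : Subgroup (MulAut (U K)) where
  carrier := {α | ∀ g, (α g).u = g.u ∧ (α g).t = g.t}
  one_mem' _ := ⟨rfl, rfl⟩
  mul_mem' {a b} ha hb g := ⟨(ha _).1.trans (hb g).1, (ha _).2.trans (hb g).2⟩
  inv_mem' {a} ha g := by simpa [eq_comm] using ha (a⁻¹ g)

theorem pow_fix {G : Type*} [Group G] [Finite G] {p : ℕ} [Fact p.Prime] (hG : IsPGroup p G) {α : MulAut G} {B C : Subgroup G}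
    (hB : ∀ y ∈ B, α y ∈ B) (h : ∀ y ∈ C, α y * y⁻¹ ∈ B) (h' : ∃ n : ℕ, ∀ y ∈ B, (α ^ p ^ n) y = y) :
    ∃ n : ℕ, ∀ y ∈ C, (α ^ p ^ n) y = y := by
  obtain ⟨n, hn⟩ := h'
  obtain ⟨m, hm⟩ := hG.exists_card_eq
  refine ⟨n + m, fun y hy => ?_⟩
  have h1 : ∀ k : ℕ, (α ^ k) y * y⁻¹ ∈ B := fun k => by
    induction k with
    | zero => simp
    | succ k ih => simpa [pow_succ', mul_assoc] using mul_mem (hB _ ih) (h y hy)
  have h2 : ∀ k : ℕ, ((α ^ p ^ n) ^ k) y = ((α ^ p ^ n) y * y⁻¹) ^ k * y := fun k => by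
    induction k with
    | zero => simp
    | succ k ih => rw [pow_succ', MulAut.mul_apply, ih, map_mul, hn _ (pow_mem (h1 _) k), pow_succ, mul_assoc,
        inv_mul_cancel_right]
  rw [pow_add, pow_mul, h2, ← hm, pow_card_eq_one', one_mul]

theorem isPGroup_K0 : IsPGroup 3 (K0 K) := by
  rintro ⟨α, hα⟩
  have f : Fx α := ⟨fun g hg => (hα g).2.trans hg, fun g hg => (hα g).1.trans hg⟩
  have e4 : ∀ r, α (y4 r) = y4 r := fun r => by
    have := (f.cub ⟨-r, 0, 0, 0, 0, 1⟩).2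
    simp only [(hα _).1, (hα _).2, one_pow, mul_one, neg_neg] at this
    rw [f.m4, this]
  have e3 : ∀ v, α (y3 v) = y3 v := fun v => by
    obtain ⟨t, ht⟩ := (Finite.injective_iff_surjective (f := frobenius K 3)).1 (frobenius K 3).injective (-v)
    have := (f.cub ⟨1, 0, 0, 0, 0, t⟩).1
    simp only [(hα _).1, (hα _).2, one_pow, one_mul, show t ^ 3 = -v from ht, neg_neg] at this
    rw [f.m3, this]
  have eC : ∀ y ∈ sC, α y = y := fun y hy => by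
    have e : y = y3 y.v * y4 y.r := by gcs; simp [hy.1, hy.2.1, hy.2.2.1, hy.2.2.2]
    rw [e, map_mul, e3, e4]
  have q := isPGroup_U (K := K) 3
  have s1 := pow_fix q (B := sC) (fun y hy => (eC y hy).symm ▸ hy) (C := sR) (fun y hy => by
    have k := fun g => eC _ (brRC g hy)
    have k1 := congrArg U.v (k (y1 1))
    have k2 := congrArg U.r (k (y6 1))
    rw [map_commutatorElement, br_R _ (mR α hy), br_R _ hy] at k1 k2
    simp only [(hα _).1, (hα _).2, y1_u, y6_t, one_mul, mul_one] at k1 k2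
    rw [mem_sC]; gcs
    simp only [(hα _).1, (hα _).2, hy.1, hy.2, k1, mul_left_cancel₀ two_ne k2]; gus) ⟨0, fun y hy => by simpa using eC y hy⟩
  obtain ⟨n, hn⟩ := pow_fix q (fun y => mR α) (C := ⊤) (fun y _ => div_mem_sR.2 (hα y)) s1
  exact ⟨n, Subtype.ext (MulEquiv.ext fun y => hn y trivial)⟩

instance : (K0 K).Normal := ⟨fun α hα β g => by
  obtain ⟨x, rfl⟩ := β.surjective g
  rw [MulAut.mul_apply, MulAut.mul_apply, MulAut.inv_apply_self]
  exact div_mem_sR.1 (by simpa using mR β (div_mem_sR.2 (hα x)))⟩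

theorem Ok.gr {a d : K} (h : Ok a d) : Ok (d ^ 3) a := ⟨pow_ne_zero _ h.d0, h.a0⟩

theorem gr_dd {a d : K} (ρ : RingAut K) (h : Ok a d) (g : U K) : gr (dd a d ρ h g) = dd (d ^ 3) a ρ (Ok.gr h) (gr g) := by
  gds; simp only [gr_u, gr_s, gr_v, gr_r, gr_w, gr_t]; gds
  simp only [map_add, map_sub, map_mul, map_pow]; and_intros <;> first | trivial | ring

theorem grA_dd {a d : K} (ρ : RingAut K) (h : Ok a d) : grA * dd a d ρ h * grA⁻¹ = dd (d ^ 3) a ρ (Ok.gr h) :=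
  mul_inv_eq_iff_eq_mul.2 (MulEquiv.ext (gr_dd ρ h))

theorem grA_sq : grA * grA = fr (frobeniusEquiv K 3) := MulEquiv.ext fun g => (gr_gr g).trans (by
  rw [fr_eq]; ext <;> simp [frobenius_def])

theorem cj_D0 {α : MulAut (U K)} (h : α ∈ D0 K) : grA * α * grA⁻¹ ∈ D0 K := by
  obtain ⟨a, d, ρ, k, rfl⟩ := h; exact ⟨_, _, _, _, grA_dd ρ k⟩

theorem sq_D0 : grA * grA ∈ D0 K := ⟨1, 1, _, ok_one, grA_sq⟩

/-- diagonal, field and graph automorphisms -/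
def D1 (K : Type*) [Field K] [CharP K 3] [Finite K] : Subgroup (MulAut (U K)) where
  carrier := {α | α ∈ D0 K ∨ α * grA⁻¹ ∈ D0 K}
  one_mem' := .inl (one_mem _)
  mul_mem' := by
    rintro a b (ha | ha) (hb | hb)
    · exact .inl (mul_mem ha hb)
    · exact .inr (by rw [mul_assoc]; exact mul_mem ha hb)
    · exact .inr (by simpa [mul_assoc] using mul_mem ha (cj_D0 hb))
    · exact .inl (by simpa [mul_assoc] using mul_mem (mul_mem ha (cj_D0 hb)) sq_D0)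
  inv_mem' := by
    rintro a (ha | ha)
    · exact .inl (inv_mem ha)
    · exact .inr (by simpa [mul_assoc] using mul_mem (inv_mem sq_D0) (cj_D0 (inv_mem ha)))

theorem grA_mem : grA ∈ D1 K := .inr (by rw [mul_inv_cancel]; exact one_mem _)

theorem fr_mem (ρ : RingAut K) : fr ρ ∈ zpowers (grA (K := K)) := by
  obtain ⟨k, hk⟩ := CL.FieldAut.exists_apply_eq_pow 3 ρ
  have : ρ = (frobeniusEquiv K 3 : RingAut K) ^ k := RingEquiv.ext fun x => by
    rw [hk, RingAut.coe_pow, coe_frobeniusEquiv, iterate_frobenius]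
  rw [this, map_pow, ← grA_sq]
  exact pow_mem (mul_mem (mem_zpowers _) (mem_zpowers _)) k

theorem D1_split {α : MulAut (U K)} (h : α ∈ D1 K) : ∃ a d k, ∃ c ∈ zpowers (grA (K := K)), α = dd a d 1 k * c := by
  rcases h with ⟨a, d, ρ, k, e⟩ | ⟨a, d, ρ, k, e⟩
  · exact ⟨a, d, k, _, fr_mem ρ, e.trans (dd_eq_mul_fr ρ k)⟩
  · exact ⟨a, d, k, _, mul_mem (fr_mem ρ) (mem_zpowers _), by rw [← mul_assoc, ← dd_eq_mul_fr, ← e, inv_mul_cancel_right]⟩

theorem D1_of_Q {α : MulAut (U K)} (h : α ∈ D1 K) (e : (α (y1 1)).t = 0) : α ∈ D0 K := h.resolve_right (by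
  rintro ⟨a, d, ρ, k, e'⟩
  rw [mul_inv_eq_iff_eq_mul.1 e'] at e
  simp [k.d0] at e)

variable {F F' : FusionSystem (⊤ : Subgroup (U K))}

/-- standard position -/
def St (F : FusionSystem (⊤ : Subgroup (U K))) : Prop := ∀ f, Mor F ⊤ f → ∃ x, ∃ δ ∈ D1 K, ∀ g, f g = cj x (δ g)

theorem exists_st (hF : F.IsSaturated 3) :
    ∃ (β : MulAut (U K)) (F' : FusionSystem (⊤ : Subgroup (U K))), Corr β β.symm F F' ∧ St F' := by
  have : Finite (MulAut (U K)) := Finite.of_injective _ DFunLike.coe_injective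
  have k : ∀ α : MulAut (U K), Fx α → ∃ δ ∈ D0 K, α * δ⁻¹ ∈ K0 K := fun α h => by
    obtain ⟨a, d, ρ, ok, e⟩ := aut_form h
    refine ⟨_, ⟨a, d, ρ, ok, rfl⟩, fun g => ?_⟩
    obtain ⟨x, rfl⟩ := (dd a d ρ ok).surjective g
    rw [MulAut.mul_apply, MulAut.inv_apply_self]
    exact e x
  obtain ⟨β, F', h, e⟩ := CL.U5.exists_std_of isPGroup_top hF (D1 K).subtype (K0 K) isPGroup_K0 fun α => by
    rcases fx_or α with h | h
    · obtain ⟨δ, h1, h2⟩ := k α h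
      exact ⟨⟨δ, .inl h1⟩, h2⟩
    · obtain ⟨δ, h1, h2⟩ := k (α * grA) ⟨fun g hg => h.2 _ (by simp [mem_Q', mem_Q.1 hg]), fun g hg => h.1 _ hg⟩
      exact ⟨⟨δ * grA⁻¹, mul_mem (.inl h1) (inv_mem grA_mem)⟩, by simpa [mul_assoc] using h2⟩
  exact ⟨β, F', h, fun f hf => let ⟨u, x, e'⟩ := e f hf; ⟨u, x.1, x.2, e'⟩⟩

theorem St.mem (hS : St F) {f : U K → U K} (hf : Mor F ⊤ f) : ∃ x, ∃ δ ∈ D1 K, Mor F ⊤ δ ∧ ∀ g, f g = cj x (δ g) :=
  let ⟨x, δ, h, e⟩ := hS f hf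
  ⟨x, δ, h, (hf.cj_comp (s := x⁻¹) trivial).congr fun g _ => by rw [Function.comp, e, cj_inv_cj], e⟩

theorem cj_u (x g : U K) : (cj x g).u = g.u := by gus; ring
theorem cj_t (x g : U K) : (cj x g).t = g.t := by gus; ring

theorem St.dd (hS : St F) {f : U K → U K} (hf : Mor F ⊤ f) (e : (f (y1 1)).t = 0) :
    ∃ x a d ρ h, Mor F ⊤ (dd (K := K) a d ρ h) ∧ ∀ g, f g = cj x (dd a d ρ h g) := by
  obtain ⟨x, δ, h, m, e'⟩ := hS.mem hf
  obtain ⟨a, d, ρ, k, rfl⟩ := D1_of_Q h (by rwa [e', cj_t] at e)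
  exact ⟨x, a, d, ρ, k, m, e'⟩

/-- transport along an automorphism -/
theorem mor_tr {β : MulAut (U K)} (h : Corr β β.symm F F') {P P' : Subgroup (U K)} (hP : ∀ g, β g ∈ P' ↔ g ∈ P) {f f' : U K → U K}
    (e : ∀ g ∈ P, f' (β g) = β (f g)) : Mor F' P' f' ↔ Mor F P f := by
  have : img β P = P' := Subgroup.ext fun y => by
    obtain ⟨y, rfl⟩ := β.surjective y
    rw [h.iso.map_mem_img_iff le_top trivial, hP]
  rw [← this]
  exact h.mor_iff le_top (fun _ _ => trivial) e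

theorem ess_tr {β : MulAut (U K)} (h : Corr β β.symm F F') {P P' : Subgroup (U K)} (hP : ∀ g, β g ∈ P' ↔ g ∈ P) :
    F'.IsEssential 3 P' ↔ F.IsEssential 3 P := by
  have : img β P = P' := Subgroup.ext fun y => by
    obtain ⟨y, rfl⟩ := β.surjective y
    rw [h.iso.map_mem_img_iff le_top trivial, hP]
  rw [← this]
  exact h.isEssential_iff le_top

theorem St.tr {β : MulAut (U K)} (h : Corr β β.symm F F') (hS : St F) (hβ : ∀ δ ∈ D1 K, Mor F ⊤ δ → β * δ * β⁻¹ ∈ D1 K) : St F' := by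
  intro f hf
  obtain ⟨x, δ, k, m, e⟩ := hS.mem ((mor_tr h (P := ⊤) (fun _ => Iff.rfl) (f := fun g => β⁻¹ (f (β g))) fun g _ => by simp).1 hf)
  refine ⟨β x, _, hβ δ k m, fun g => ?_⟩
  have := congrArg β (e (β⁻¹ g))
  simpa [cj] using this

end CL.G2F.T3
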