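/-
S5211: `p = 3`, the automizer of `Q`.
-/
import Cfsg.Agent.FUS.G2.ThA

set_option autoImplicit false
set_option linter.unusedSimpArgs false
set_option linter.unusedSectionVars false

namespace CL.G2F.T3

open CL.Fus CL.RF4 CL.D3 Subgroup Cfsg Cfsg.FusionSystem E3
open scoped commutatorElement

variable {K : Type*} [Field K] [CharP K 3] [Finite K] {g h : U K} {F F' : FusionSystem (⊤ : Subgroup (U K))} {f f' : U K → U K}

theorem cube_inj {a b : K} (e : a ^ 3 = b ^ 3) : a = b := frobenius_inj K 3 e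

theorem neg0 {x : K} (e : x = -x) : x = 0 := mul_left_cancel₀ two_ne (by linear_combination e)

theorem cjQ (x : U K) (hg : g ∈ Q) : (cj x g).s = g.s + g.u * x.t ∧ (cj x g).r = g.r + 2 * g.s * x.t + g.u * x.t ^ 2 ∧
    (cj x g).w = g.w + g.u * x.t ^ 3 := by
  rw [mem_Q] at hg; gcs; simp only [hg]; and_intros <;> grind

theorem cQ (x : U K) (hg : g ∈ Q) : cj x g ∈ Q := (isoOn_cj x).maps g hg

theorem DQ (hg : g ∈ sD) : g ∈ Q := hg.2.2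

theorem div_D (hg : g ∈ Q) (hh : h ∈ Q) : g * h⁻¹ ∈ sD ↔ g.u = h.u ∧ g.w = h.w := by
  rw [mem_Q] at hg hh; rw [mem_sD]; gcs; simp only [hg, hh]; gus; simp only [add_neg_eq_zero]

theorem mD (i : IsoOn Q Q f f') (hg : g ∈ sD) : f g ∈ sD := ivD (CL.U5.au_pair i) f (.inl rfl) g (DQ hg) hg
theorem mZ (i : IsoOn Q Q f f') (hg : g ∈ sZ) : f g ∈ sZ := ivZ (CL.U5.au_pair i) f (.inl rfl) g hg.2.2.2.2 hg

theorem dep (i : IsoOn Q Q f f') (hg : g ∈ Q) (hh : h ∈ Q) (e1 : g.u = h.u) (e2 : g.w = h.w) : (f g).u = (f h).u ∧ (f g).w = (f h).w := by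
  have := mD i ((div_D hg hh).2 ⟨e1, e2⟩)
  rwa [i.map_mul hg (inv_mem hh), i.map_inv hh, div_D (i.maps _ hg) (i.maps _ hh)] at this

theorem bfi (i : IsoOn Q Q f f') (hg : g ∈ Q) (hh : h ∈ Q) (e : g.u * h.w = h.u * g.w) : (f g).u * (f h).w = (f h).u * (f g).w :=
  sub_eq_zero.1 ((bf_eq _ _).symm.trans ((comm_Q (i.maps _ hg) (i.maps _ hh)).1 (by
    rw [← i.map_mul hg hh, ← i.map_mul hh hg, (comm_Q hg hh).2 (by rw [bf_eq, e, sub_self])])))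

theorem line (i : IsoOn Q Q f f') : (∀ x ∈ sR, (f x).u = 0) ∨ ∃ τ, ∀ x ∈ sR, (cj (y6 τ) (f x)).w = 0 := by
  have k : ∀ x ∈ sR, (f x).u * (f (y5 1)).w = (f (y5 1)).u * (f x).w := fun x hx => bfi i hx.2 rfl (by simp [hx.1])
  by_cases e : (f (y5 1)).u = 0
  · have n : (f (y5 1)).w ≠ 0 := fun e' => by
      have := mD i.symm (show f (y5 1) ∈ sD from ⟨e, e', i.maps _ rfl⟩)
      rw [i.left _ rfl] at this
      exact one_ne_zero this.2.1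
    exact .inl fun x hx => by simpa [e, n] using k x hx
  obtain ⟨τ, hτ⟩ := (Finite.injective_iff_surjective (f := frobenius K 3)).1 (frobenius K 3).injective (-(f (y5 1)).w / (f (y5 1)).u)
  refine .inr ⟨τ, fun x hx => ?_⟩
  rw [(cjQ _ (i.maps _ hx.2)).2.2, y6_t, show τ ^ 3 = _ from hτ]
  field_simp
  linear_combination -k x hx

theorem no_ess (hF : F.IsSaturated 3) (E : Subgroup (U K)) (h1 : F.IsEssential 3 E) (h2 : Q < E) : False :=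
  (essL_three K F hF E h1).elim (fun e => h2.ne e.symm) fun e => not_Q_le (e ▸ h2.le)

theorem extQ (hF : F.IsSaturated 3) (hE : F.IsEssential 3 Q) (hf : Mor F Q f) (h1 : ∀ x ∈ Q, f x ∈ Q) (h2 : ∀ x ∈ sR, (f x).u = 0) :
    ∃ g, Mor F ⊤ g ∧ Set.EqOn g f (Q (K := K)) := by
  obtain ⟨α, hα, e⟩ := hf.exists_aut (hf.img_eq_self h1)
  have hT := sylIn_of_fullyNormalized isPGroup_top hF hE.2.1
  have hN : F.autGroup Q ⊓ stabAut Q sR ≤ extAut F Q := by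
    by_contra k
    refine stabR (cx_of (N := F.autGroup Q ⊓ stabAut Q sR) isPGroup_top hF hE (le_inf hT.le fun β hβ x hx => ?_) inf_le_left k) ?_
      (ext_of hF (no_ess hF))
    · obtain ⟨s, hs, e'⟩ := mem_autInducedBy_iff.1 hβ
      rw [e' hx]
      exact (mem_normalizer_iff.1 (le_normalizer_of_normal (mem_top s)) x).symm
    · rintro _ ⟨γ, hγ, rfl⟩ y hy k; exact (hγ.2 y hy).2 k
  have h3 : ∀ y ∈ sR, f y ∈ sR := fun y hy => ⟨h2 y hy, h1 y hy.2⟩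
  obtain ⟨g, hg, e'⟩ := ext_of_mem_extAut (fun R f hR hf => CL.EssSm.exists_extend_top_of_not_le isPGroup_top hF
    (fun E hE k => no_ess hF E hE (hR.trans_le k)) hf) (hN ⟨hα, fun x hx => e hx ▸ ⟨fun k =>
      (hf.mem_img_iff sR_le_Q hx).1 (((hf.mono sR_le_Q).img_eq_self h3).symm ▸ k), h3 x⟩⟩)
  exact ⟨g, hg, e'.trans e⟩

theorem genQ (hF : F.IsSaturated 3) (hE : F.IsEssential 3 Q) (ha : Mor F Q wa) : GenQ F := fun f hf m => by
  obtain ⟨f', -, i⟩ := exists_isoOn hf m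
  refine (line i).imp (extQ hF hE hf m) fun ⟨τ, h⟩ => ?_
  obtain ⟨g, hg, e⟩ := extQ hF hE (ha.comp (hf.cj_comp (s := y6 τ) trivial) fun x hx => cQ _ (m x hx)) (fun _ _ => rfl)
    fun x hx => neg_eq_zero.2 (h x hx)
  exact ⟨τ, g, hg, e⟩

theorem exists_u (hF : F.IsSaturated 3) (hE : F.IsEssential 3 Q) (s : K) : ∃ f, Mor F Q f ∧ (∀ x ∈ Q, f x ∈ Q) ∧
    (∀ x ∈ Q, (f x).u = x.u + s * x.w ∧ (f x).w = x.w) ∧ (∀ z ∈ sZ, f z = z) ∧ ∀ x ∈ sD, f (f x * x⁻¹) = f x * x⁻¹ := by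
  obtain ⟨f, hf, fQ, x, hx, xu⟩ := move hF hE (no_ess hF)
  obtain ⟨f', -, i⟩ := exists_isoOn hf fQ
  obtain ⟨τ, k1⟩ := (line i).resolve_left fun k => xu (k x hx)
  obtain ⟨n, n', m, m', i0, nR⟩ : ∃ n n', Mor F Q n ∧ Mor F Q n' ∧ IsoOn Q Q n n' ∧ ∀ x ∈ sR, (n x).w = (0 : K) :=
    let ⟨n', m', i0⟩ := exists_isoOn (hf.cj_comp (s := y6 τ) trivial) fun x hx => cQ _ (fQ x hx)
    ⟨_, n', hf.cj_comp trivial, m', i0, k1⟩
  have nR' : ∀ y ∈ Q, y.w = 0 → n' y ∈ sR := fun y hy e => ⟨by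
    simpa [i0.left (y5 1) rfl] using bfi i0.symm hy (i0.maps (y5 1) rfl) (by rw [e, nR _ ⟨rfl, rfl⟩, mul_zero, mul_zero]), i0.maps' y hy⟩
  have e0 : ∀ a x, x ∈ Q → n (cj a (n' x)) = n ⁅a, n' x⁆ * x := fun a x hx => by
    rw [show cj a (n' x) = ⁅a, n' x⁆ * n' x by simp [cj, commutatorElement_def], i0.map_mul (brT _ _).2 (i0.maps' x hx), i0.right x hx]
  have ia := fun a : K => (i0.symm.trans (isoOn_cj (y6 a))).trans i0
  have ew : ∀ a x, x ∈ Q → (n (cj a (n' x))).w = x.w := fun a x hx => by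
    rw [e0 a x hx, U.mul_w, nR _ (brT _ _), mem_Q.1 (i0.maps _ (brT _ _).2)]; ring
  have eu : ∀ a x, x ∈ Q → (n (cj (y6 a) (n' x))).u = x.u + (n (cj (y6 a) (n' (y5 1)))).u * x.w := fun a x hx => by
    have h1 : x * (y5 x.w)⁻¹ ∈ Q := mul_mem hx (inv_mem rfl)
    have h2 := (ia a).map_mul h1 (show y5 x.w ∈ Q from rfl)
    have h3 := bfi (ia a) (show y5 x.w ∈ Q from rfl) (show y5 1 ∈ Q from rfl) (by simp)
    simp only [Function.comp, inv_mul_cancel_right] at h2 h3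
    rw [ew _ _ rfl, ew _ _ rfl, y5_w, y5_w, mul_one] at h3
    rw [h2, U.mul_u, h3, e0 _ _ h1, U.mul_u, (mD i0 (sC_le_sD (brRC _ (nR' _ h1 (by gcs; simp [mem_Q.1 hx]))))).1]
    gus
  obtain ⟨a, ha⟩ := (Finite.injective_iff_surjective (f := fun a => (n (cj (y6 a) (n' (y5 1)))).u)).1 (fun a b e => by
    have q := i0.maps (y1 1) rfl
    have := (dep i0.symm ((ia a).maps _ q) ((ia b).maps _ q) ((eu a _ q).trans (by rw [show (n (cj (y6 a) _)).u = _ from e]; exact (eu b _ q).symm)) ((ew _ _ q).trans (ew _ _ q).symm)).2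
    simp only [Function.comp, i0.left (y1 1) rfl, i0.left _ (cQ _ (show y1 1 ∈ Q from rfl)), (cjQ _ (show (y1 1 : U K) ∈ Q from rfl)).2.2] at this
    exact cube_inj (by simpa using this)) s
  refine ⟨_, m.comp (m'.cj_comp (s := y6 a) trivial) fun x hx => cQ _ (i0.maps' x hx), (ia a).maps, fun x hx => ⟨ha ▸ eu a x hx, ew _ x hx⟩,
    fun z hz => ?_, fun x hx => ?_⟩
  · simp only [Function.comp]
    rw [cj_eq_self_iff.2 (comm_Z _ (mZ i0.symm hz)), i0.right _ hz.2.2.2.2]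
  · have k := brRC (y6 a) (sD_le_sR (mD i0.symm hx))
    simp only [Function.comp]
    rw [e0 _ x (DQ hx), mul_inv_cancel_right, i0.left _ (DQ (sC_le_sD k)), cj_eq_self_iff.2 (comm_C _ k)]

theorem n_of {s : K} (c : K) (hc : s * c ^ 3 = -1) (m : ∀ x ∈ Q, f x ∈ Q) (e : ∀ x ∈ Q, (f x).u = x.u + s * x.w ∧ (f x).w = x.w)
    (hg : g ∈ Q) : (cj (y6 c) (f (cj (y6 c) g))).u = s * g.w ∧ (cj (y6 c) (f (cj (y6 c) g))).w = c ^ 3 * g.u := by
  have q := cQ (y6 c) hg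
  rw [cj_u, (cjQ _ (m _ q)).2.2, (e _ q).1, (e _ q).2, cj_u, (cjQ _ hg).2.2, y6_t]
  exact ⟨by linear_combination g.u * hc, by linear_combination (g.w + g.u * c ^ 3) * hc⟩

theorem mor_n (hf : Mor F Q f) (c : K) : Mor F Q fun g => cj (y6 c) (f (cj (y6 c) g)) :=
  (hf.comp (mor_cj' F Q _) fun _ hx => cQ _ hx).cj_comp trivial

theorem stabQ (hF : F.IsSaturated 3) (hS : St F) (hE : F.IsEssential 3 Q) (hf : Mor F Q f) (h1 : ∀ x ∈ Q, f x ∈ Q)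
    (h2 : ∀ x ∈ sR, (f x).u = 0) (h3 : (f (y1 1)).w = 0) :
    ∃ x ∈ Q, ∃ a d ρ k, Mor F ⊤ (dd (K := K) a d ρ k) ∧ ∀ g ∈ Q, f g = cj x (dd a d ρ k g) := by
  obtain ⟨k, hk, e⟩ := extQ hF hE hf h1 h2
  have q : (y1 1 : U K) ∈ Q := rfl
  obtain ⟨x, a, d, ρ, ok, hd, hx⟩ := hS.dd hk (e q ▸ h1 _ q)
  refine ⟨x, ?_, a, d, ρ, ok, hd, fun g hg => by rw [← e hg, hx]⟩
  rw [← e q, hx, (cjQ _ (by simp [mem_Q])).2.2] at h3
  simpa [ok.a0, mem_Q] using h3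

theorem tor1 (hF : F.IsSaturated 3) (hS : St F) (hE : F.IsEssential 3 Q) (e : K) (k : Ok (e ^ 3) (e⁻¹ ^ 2)) :
    Mor F ⊤ (dd (e ^ 3) (e⁻¹ ^ 2) 1 k) := by
  have e0 : e ≠ 0 := by simpa using k.a0
  obtain ⟨f, hf, m, h, -⟩ := exists_u hF hE (e ^ 3)
  obtain ⟨f', hf', m', h', -⟩ := exists_u hF hE (-1)
  have q : ∀ x ∈ Q, cj (y6 1) (f' (cj (y6 1) x)) ∈ Q := fun x hx => cQ _ (m' _ (cQ _ hx))
  have n := fun g (hg : g ∈ Q) => n_of (-e⁻¹) (by field_simp) m h (q g hg)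
  have n' := fun g (hg : g ∈ Q) => n_of 1 (by simp) m' h' hg
  obtain ⟨x, hx, a, d, ρ, ok, hd, e'⟩ := stabQ hF hS hE ((mor_n hf (-e⁻¹)).comp (mor_n hf' 1) q) (fun x hx => cQ _ (m _ (cQ _ (q x hx))))
    (fun x hx => ((n x hx.2).1.trans (by rw [(n' x hx.2).2, hx.1]; simp))) ((n _ rfl).2.trans (by rw [(n' _ rfl).1]; simp))
  have e1 : ∀ u, a * ρ u = e ^ 3 * u := fun u => by
    have := congrArg U.u (e' (y1 u) rfl)
    rw [Function.comp, (n _ rfl).1, (n' _ rfl).2, cj_u] at this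
    simpa using this.symm
  have e2 : a = e ^ 3 := by simpa using e1 1
  have e3 := congrArg U.w (e' (y5 1) rfl)
  rw [Function.comp, (n _ rfl).2, (n' _ rfl).1, (cjQ _ (by simp [mem_Q])).2.2] at e3
  simp only [dd_u, dd_w, y5_u, y5_w, map_one, map_zero, e2] at e3
  rwa [dd_congr ok k e2 (cube_inj (mul_left_cancel₀ k.a0 (by rw [show e ^ 3 * d ^ 3 = e⁻¹ ^ 3 by linear_combination -e3]; field_simp)))
    (show ρ = 1 from RingEquiv.ext fun u => mul_left_cancel₀ ok.a0 (by rw [e1, e2]; rfl))] at hd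

theorem St.gr (hS : St F) (h : Corr grA grA.symm F F') : St F' :=
  hS.tr h fun _ k _ => mul_mem (mul_mem grA_mem k) (inv_mem grA_mem)

theorem ht (hF : F.IsSaturated 3) (hS : St F) (hE : F.IsEssential 3 Q) (hE' : F.IsEssential 3 Q') : Ht F := fun a d k => by
  obtain ⟨F', h⟩ := (isoOn_top (grA (K := K))).exists_corr F
  have a0 := k.a0
  have d0 := k.d0
  have k1 : Ok ((a⁻¹ * d⁻¹ ^ 2) ^ 3) ((a⁻¹ * d⁻¹ ^ 2)⁻¹ ^ 2) := ⟨by simp [a0, d0], by simp [a0, d0]⟩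
  have k2 : Ok ((a⁻¹ ^ 2 * d⁻¹ ^ 3)⁻¹ ^ 2) (a⁻¹ ^ 2 * d⁻¹ ^ 3) := ⟨by simp [a0, d0], by simp [a0, d0]⟩
  have := (tor1 hF hS hE _ k1).comp ((mor_tr h (P := ⊤) (fun _ => Iff.rfl) fun g _ => (gr_dd 1 k2 g).symm).1
    (tor1 (h.isSaturated hF) (hS.gr h) ((ess_tr h fun _ => Iff.rfl).2 hE') _ (Ok.gr k2))) fun _ _ => trivial
  refine this.congr fun g _ => ?_
  rw [Function.comp, ← MulAut.mul_apply, dd_mul, dd_congr _ k _ _ (mul_one 1)] <;> rw [RingAut.one_apply] <;> field_simp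

/-- `wa` twisted by a central automorphism -/
@[simps] def wl (l : K) (g : U K) : U K := ⟨-g.w, g.r + l * g.u, g.v + g.u * g.w, l * g.w - g.s, g.u, 0⟩

theorem lin {S : K → K} (h0 : S 0 = 0) (h : ∀ a ≠ 0, S a = a * S 1) (a : K) : S a = a * S 1 := by
  by_cases e : a = 0
  exacts [by rw [e, h0, zero_mul], h a e]

/-- a homomorphism on `Q` which normalises the torus like `wa` -/
theorem form {m : U K → U K} (hm : IsHomOn Q m) (mQ : ∀ g ∈ Q, m g ∈ Q) (mu : ∀ g ∈ Q, (m g).u = -g.w ∧ (m g).w = g.u) (mz : ∀ z ∈ sZ, m z = z)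
    (hc : ∀ a d (k : Ok a d) (k' : Ok (a * d ^ 3) d⁻¹), ∀ g ∈ Q, m (dd a d 1 k g) = dd (a * d ^ 3) d⁻¹ 1 k' (m g)) :
    ∃ κ κ' μ ν : K, (∀ d ≠ 0, μ * d ^ 2 = μ) ∧ ∀ g ∈ Q, m g = ⟨-g.w, κ' * g.r + μ * g.u, g.v + g.u * g.w, κ * g.s + ν * g.w, g.u, 0⟩ := by
  have hc' : ∀ a d, a ≠ 0 → d ≠ 0 → ∀ g ∈ Q, ∀ g', ddf a d 1 g = g' →
      (m g').s = a * d ^ 2 * (m g).s ∧ (m g').v = a ^ 2 * d ^ 3 * (m g).v ∧ (m g').r = a * d * (m g).r := fun a d a0 d0 g hg g' e => by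
    rw [← e, show m (ddf a d 1 g) = _ from hc a d ⟨a0, d0⟩ ⟨by simp [a0, d0], by simp [d0]⟩ g hg, dd_s, dd_v, dd_r]
    simp only [RingAut.one_apply]
    refine ⟨?_, ?_, ?_⟩ <;> field_simp
  have n1 : (-1 : K) ≠ 0 := by simp
  have m1 := hm.map_one
  have e1 : ∀ u, m (y1 u) = ⟨0, (m (y1 1)).s * u, 0, 0, u, 0⟩ := fun u => by
    obtain ⟨-, h2, h3⟩ := hc' 1 (-1) one_ne_zero n1 (y1 u) rfl (y1 u) (by ext <;> simp)
    exact U.ext (by simp [(mu (y1 u) rfl).1]) (mul_comm u _ ▸ lin (S := fun u => (m (y1 u)).s) (congrArg U.s m1) (fun a a0 => by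
      simpa using (hc' a 1 a0 one_ne_zero (y1 1) rfl (y1 a) (by ext <;> simp)).1) u) (neg0 (by linear_combination h2))
      (neg0 (by linear_combination h3)) (mu _ rfl).2 (mQ _ rfl)
  have e2 : ∀ s, m (y2 s) = y4 ((m (y2 1)).r * s) := fun s => by
    obtain ⟨h1, h2, -⟩ := hc' (-1) (-1) n1 n1 (y2 s) rfl (y2 s) (by ext <;> simp)
    exact U.ext (by simp [(mu (y2 s) rfl).1]) (neg0 (by linear_combination h1)) (neg0 (by linear_combination h2))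
      (mul_comm s _ ▸ lin (S := fun s => (m (y2 s)).r) (congrArg U.r m1) (fun a a0 => by
      simpa using (hc' a 1 a0 one_ne_zero (y2 1) rfl (y2 a) (by ext <;> simp)).2.2) s) (mu _ rfl).2 (mQ _ rfl)
  have e4 : ∀ r, m (y4 r) = y2 ((m (y4 1)).s * r) := fun r => by
    obtain ⟨-, h2, h3⟩ := hc' 1 (-1) one_ne_zero n1 (y4 r) rfl (y4 r) (by ext <;> simp)
    exact U.ext (by simp [(mu (y4 r) rfl).1]) (mul_comm r _ ▸ lin (S := fun u => (m (y4 u)).s) (congrArg U.s m1) (fun a a0 => by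
      simpa using (hc' a 1 a0 one_ne_zero (y4 1) rfl (y4 a) (by ext <;> simp)).1) r) (neg0 (by linear_combination h2))
      (neg0 (by linear_combination h3)) (mu _ rfl).2 (mQ _ rfl)
  have e5 : ∀ w, m (y5 w) = ⟨-w, 0, 0, (m (y5 1)).r * w, 0, 0⟩ := fun w => by
    obtain ⟨h1, h2, -⟩ := hc' (-1) (-1) n1 n1 (y5 w) rfl (y5 w) (by ext <;> simp; ring)
    exact U.ext (mu _ rfl).1 (neg0 (by linear_combination h1)) (neg0 (by linear_combination h2))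
      (mul_comm w _ ▸ lin (S := fun s => (m (y5 s)).r) (congrArg U.r m1) (fun a a0 => by
      simpa using (hc' a 1 a0 one_ne_zero (y5 1) rfl (y5 a) (by ext <;> simp)).2.2) w) (mu _ rfl).2 (mQ _ rfl)
  refine ⟨(m (y2 1)).r, (m (y4 1)).s, (m (y1 1)).s, (m (y5 1)).r, fun d d0 => by
    linear_combination -(hc' 1 d one_ne_zero d0 (y1 1) rfl (y1 1) (by ext <;> simp)).1, fun g hg => ?_⟩
  have e : g = y1 g.u * y2 g.s * y3 g.v * y4 g.r * y5 g.w := by gus; exact hg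
  conv_lhs => rw [e, hm.map_mul (by rw [mem_Q]; gus) rfl, hm.map_mul (by rw [mem_Q]; gus) rfl, hm.map_mul (by rw [mem_Q]; gus) rfl,
    hm.map_mul rfl rfl, e1, e2, e4, e5, mz (y3 g.v) ⟨rfl, rfl, rfl, rfl, rfl⟩]
  gus; and_intros <;> grind

theorem wl_mem (hF : F.IsSaturated 3) (hS : St F) (hT : Ht F) (hE : F.IsEssential 3 Q) :
    ∃ l : K, (∀ d ≠ 0, l * d ^ 2 = l) ∧ Mor F Q (wl l) := by
  obtain ⟨f, hf, fQ, h, fz, qd⟩ := exists_u hF hE (-1)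
  have nu := fun g (hg : g ∈ Q) => n_of 1 (by simp) fQ h hg
  obtain ⟨n', hn', i⟩ := exists_isoOn (mor_n hf 1) fun x hx => cQ _ (fQ _ (cQ _ hx))
  set n : U K → U K := fun g => cj (y6 1) (f (cj (y6 1) g)) with hn
  replace nu : ∀ g ∈ Q, (n g).u = -g.w ∧ (n g).w = g.u := fun g hg => by simpa using nu g hg
  have nu' : ∀ g ∈ Q, (n' g).u = g.w ∧ (n' g).w = -g.u := fun g hg => by
    have := nu _ (i.maps' g hg)
    rw [i.right g hg] at this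
    exact ⟨this.2.symm, by rw [this.1, neg_neg]⟩
  have dQ : ∀ {a d ρ} (k : Ok a d), ∀ g ∈ Q, dd (K := K) a d ρ k g ∈ Q := fun k g hg => by simp [mem_Q, mem_Q.1 hg]
  obtain ⟨u, hu, e⟩ := exists_norm (isPGroup_U 3) (coprime_DF hF) (P := Q) (by rintro _ ⟨⟨a, d, ρ, k, rfl⟩, -⟩; exact dQ k) i (by
    rintro _ ⟨⟨a, d, ρ, k, rfl⟩, hd⟩
    have q := fun g hg => dQ (ρ := ρ) k _ (i.maps' g hg)
    obtain ⟨x, hx, a', d', ρ', k', hd', e⟩ := stabQ hF hS hE ((mor_n hf 1).comp (hd.comp hn' fun _ _ => trivial) q)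
      (fun g hg => i.maps _ (q g hg)) (fun g hg => (nu _ (q g hg.2)).1.trans (by simp [(nu' g hg.2).2, hg.1]))
      ((nu _ (q _ rfl)).2.trans (by simp [(nu' (y1 1) rfl).1]))
    exact ⟨x, hx, _, ⟨⟨_, _, _, _, rfl⟩, hd'⟩, fun g hg => by rw [← e _ (i.maps g hg), Function.comp, Function.comp, i.left g hg]⟩)
  have hm : Mor F Q (cj u ∘ n) := (mor_n hf 1).cj_comp trivial
  have mQ : ∀ g ∈ Q, (cj u ∘ n) g ∈ Q := fun g hg => cQ _ (i.maps g hg)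
  have mu : ∀ g ∈ Q, ((cj u ∘ n) g).u = -g.w ∧ ((cj u ∘ n) g).w = g.u := fun g hg => by
    rw [Function.comp, cj_u, (cjQ _ (i.maps g hg)).2.2, mem_Q.1 hu, (nu g hg).1, (nu g hg).2]; simp
  obtain ⟨κ, κ', μ, ν, hμ, hf⟩ := form hm.isHomOn mQ mu (fun z hz => by
    simp only [Function.comp, hn, cj_eq_self_iff.2 (comm_Z _ hz), fz z hz]) fun a d k k' g hg => by
      obtain ⟨_, ⟨⟨a', d', ρ', k'', rfl⟩, -⟩, e'⟩ := e _ ⟨⟨_, _, _, _, rfl⟩, hT a d k⟩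
      have e1 : ∀ w, a' * ρ' w = a * d ^ 3 * w := fun w => by
        have := (mu _ (dQ k (y5 w) rfl)).1.symm.trans (congrArg U.u (e' (y5 w) rfl))
        rw [dd_u, show (cj u (n (y5 w))).u = _ from (mu _ rfl).1] at this
        simpa using this.symm
      have e2 : a' = a * d ^ 3 := by simpa using e1 1
      have e3 := (mu _ (dQ k (y1 1) rfl)).2.symm.trans (congrArg U.w (e' (y1 1) rfl))
      rw [dd_w, show (cj u (n (y1 1))).w = _ from (mu _ rfl).2] at e3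
      simp only [dd_u, y1_u, map_one, mul_one, e2] at e3
      have d0 := k.d0
      rw [← dd_congr k'' k' e2 (cube_inj (mul_left_cancel₀ k'.a0 (by rw [← e3]; field_simp)))
        (RingEquiv.ext fun w => mul_left_cancel₀ k'.a0 (by rw [← e2, e1, e2]; rfl))]
      exact e' g hg
  have fD : ∀ y ∈ sD, (f y).s = κ' * (y.r + y.s) ∧ (f y).r = κ * y.s + κ' * (y.r + y.s) := fun y hy => by
    have q : cj (y6 1)⁻¹ y ∈ sD := by
      have := cjQ (y6 1)⁻¹ (DQ hy)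
      exact ⟨(cj_u _ _).trans hy.1, this.2.2.trans (by simp [hy.1, hy.2.1]), cQ _ (DQ hy)⟩
    have := hf _ (DQ q)
    rw [Function.comp, cj_eq_self_iff.2 (comm_D hu (mD i q)), hn] at this
    simp only [cj_cj_inv] at this
    have k := cjQ (y6 1) (fQ y (DQ hy))
    have k' := cjQ (y6 1)⁻¹ (DQ hy)
    rw [this, (h y (DQ hy)).1] at k
    simp only [q.1, q.2.1, k'.1, k'.2.1, hy.1, hy.2.1, U.inv_t, y6_t] at k
    grind
  have q4 : (y4 1 : U K) ∈ sD := ⟨rfl, rfl, rfl⟩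
  have q5 : f (y4 1) ∈ sD := ⟨by simpa using (h _ (DQ q4)).1, (h _ (DQ q4)).2, fQ _ rfl⟩
  have k1 := fD _ q4
  have k2 := fD _ (mul_mem q5 (inv_mem q4))
  rw [qd _ q4] at k2
  gus at k1 k2
  simp only [q5.2.2, k1.1, k1.2] at k2
  obtain ⟨x, hx, a, d, ρ, ok, -, e'⟩ := stabQ hF hS hE (hm.comp hm mQ) (fun g hg => mQ _ (mQ g hg))
    (fun g hg => (mu _ (mQ g hg.2)).1.trans (by rw [(mu g hg.2).2, hg.1, neg_zero])) ((mu _ (mQ _ rfl)).2.trans ((mu (y1 1) rfl).1.trans neg_zero))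
  have k3 := congrArg U.r (e' (y1 1) rfl)
  rw [Function.comp, hf _ (mQ _ rfl), hf _ rfl, (cjQ _ (dQ ok _ rfl)).2.1, mem_Q.1 hx] at k3
  simp only [dd_r, y1_r, y1_u, map_zero] at k3
  refine ⟨μ, hμ, hm.congr fun g hg => ?_⟩
  rw [hf g hg, show κ' = 1 by grind, show κ = -1 by grind, show ν = μ by grind]
  ext <;> simp; ring

end CL.G2F.T3
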