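/-
S5211: `q = 2` (captain h30).
-/
import Cfsg.Agent.FUS.G2.Real
import Cfsg.Agent.FUS.G2T.Fus
import Cfsg.Agent.FUS.G2T.Tw

set_option autoImplicit false
set_option linter.unusedSimpArgs false
set_option linter.unusedSectionVars false

namespace CL.G2F

open CL.Fus CL.RF4 CL.G2T Subgroup Cfsg Cfsg.FusionSystem
open scoped commutatorElement

instance decIn (m a : ℕ) : Decidable (In m a) := inferInstanceAs (Decidable (_ ∧ _))

set_option synthInstance.maxSize 2000 in
set_option synthInstance.maxHeartbeats 200000 in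
/-- Plan (checked by computer). `|S| = 64`, essential subgroups only `Q`, `Q'` (`EssL 2 K` is proved for all `q` in G2/E2; or compute), `Aut(S)` is a 2-group of order 256 so `Aut_F(S) = Inn`.
`Out_F(Q)` (`Q = 2^{1+4}_+`): 5 choices of orders 6, 6, 18, 6, 6; `Out_F(Q')` (order 6): 4 choices; up to `Aut(S)` exactly three core-free systems: `G₂(2)` (a 3-element fixes 8 elements of `Q`),
`M₁₂` (fixes 2; upper bound `N(Q) ≤ Stab(4-set)` of order 192), `G₂(3)` (`Out(Q) = 3² : 2`), and one more with core `2³`. -/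
theorem two (F : FusionSystem (⊤ : Subgroup (U (ZMod 2)))) (hF : F.IsSaturated 2) (hc : F.core = ⊥) : F.IsRealizable 2 := by
  obtain ⟨e1, e2⟩ := both_of_core (essL_two _) hF hc
  rw [Em.Has.unique M0 has_Q (M0.has_sg clB_m1)] at e1
  rw [Em.Has.unique M0 has_Q' (M0.has_sg clB_m2)] at e2
  have f1 := M0.fam1 hF
  have f2 := M0.fam2 hF
  obtain ⟨r, hr, n⟩ := M0.exists_not_inr hF clB_m1 e1
  obtain ⟨i, hi, d⟩ := (f1.cls1 hr).resolve_left n
  have x1 := f1.of_dc hr d fun _ => f2_lt _ _ _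
  obtain ⟨r', hr', n'⟩ := M0.exists_not_inr hF clB_m2 e2
  obtain ⟨j, hj, d'⟩ := (f2.cls2 hr').resolve_left n'
  have x2 := f2.of_dc hr' d' fun _ => f2_lt _ _ _
  by_cases h : ∀ l < 4, M0.XX F m1 (R1 l) → l = i
  · rcases rz_cases i hi j hj with ⟨rfl, k⟩ | ⟨rfl, k⟩ | ⟨k, hk, e, z⟩
    · refine absurd hc (M0.core_ne hF (v := 0xff) hj h x2 (by decide +kernel) ⟨by norm_num, rfl⟩ fun a ha => ?_)
      exact (by decide +kernel : ∀ j < 2, ∀ a < 64, In 0xff a → In m1 a ∧ In m2 a ∧ In 0xff (R1 0 a) ∧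
        In 0xff (R2 j a) ∧ ∀ s < 64, In 0xff (cc s a)) j k a ha.1 ha
    · refine absurd hc (M0.core_ne hF (v := 0xf0f) hj h x2 (by decide +kernel) ⟨by norm_num, rfl⟩ fun a ha => ?_)
      exact (by decide +kernel : ∀ j < 4, 2 ≤ j → ∀ a < 64, In 0xf0f a → In m1 a ∧ In m2 a ∧ In 0xf0f (R1 1 a) ∧
        In 0xf0f (R2 j a) ∧ ∀ s < 64, In 0xf0f (cc s a)) j hj k a ha.1 ha
    · exact M0.real hF hi hk hj e z x1 (iff_false_intro fun x => e (h k hk x).symm) x2
  · push Not at h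
    obtain ⟨l, hl, x, e⟩ := h
    have a := f1.all1 hl hi e x x1
    exact M0.real hF (by norm_num) (by norm_num) hj (by norm_num) (rz_G23.all j hj) (a 2 (by norm_num))
      (iff_true_intro (a 3 (by norm_num))) x2

end CL.G2F
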